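import Groth.Agent.L21.Mod.Stalks
import Groth.Agent.L21.Mod.Locality
import Groth.Agent.L21.Mod.Glue

/-!
F1: basics on sheaves of modules on a scheme (stalks, locality, supports, gluing).
-/
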