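import Groth.Agent.L21.GorensteinAscend
import Mathlib.Algebra.Homology.DerivedCategory.Ext.Linear
import Mathlib.RingTheory.LocalRing.ResidueField.Basic

/-!
Change of rings for `Ext(-, A)` along the quotient by a regular element, and Gorenstein rings modulo a
regular element.
-/

set_option autoImplicit false
set_option backward.isDefEq.respectTransparency false
universe u

open CategoryTheory Abelian IsLocalRing

namespace Groth.L21.GorensteinQuotient

open GorensteinAscend

section General

variable {A : Type u} [CommRing A] {F M K : Type u} [AddCommGroup F] [Module A F]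
    [AddCommGroup M] [Module A M] [AddCommGroup K] [Module A K]

theorem subsingleton_ext_shift (j : K →ₗ[A] F) (π : F →ₗ[A] M)
    (h : Function.Exact j π) (hj : Function.Injective j) (hπ : Function.Surjective π)
    (N : ModuleCat.{u} A) (i : ℕ) (h1 : Subsingleton (Ext (ModuleCat.of A F) N i))
    (h2 : Subsingleton (Ext (ModuleCat.of A F) N (i + 1))) :
    Subsingleton (Ext (ModuleCat.of A M) N (i + 1)) ↔ Subsingleton (Ext (ModuleCat.of A K) N i) := by
  have hS := kerComplex_shortExact j π h hj hπ
  constructor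
  · intro hsub
    refine subsingleton_of_forall_eq 0 fun x => ?_
    haveI := hsub
    obtain ⟨y, hy⟩ := Ext.contravariant_sequence_exact₁ hS N x (add_comm 1 i)
      (Subsingleton.elim (α := Ext (ModuleCat.of A M) N (i + 1)) _ _)
    rw [← hy, h1.elim y 0, Ext.comp_zero]
  · intro hsub
    refine subsingleton_of_forall_eq 0 fun x => ?_
    obtain ⟨y, hy⟩ := Ext.contravariant_sequence_exact₃ hS N x (h2.elim _ _) (add_comm 1 i)
    rw [← hy, hsub.elim y 0, Ext.comp_zero]

theorem subsingleton_ext_two_iff (j : K →ₗ[A] F) (π : F →ₗ[A] M)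
    (h : Function.Exact j π) (hj : Function.Injective j) (hπ : Function.Surjective π)
    (N : ModuleCat.{u} A) (h2 : Subsingleton (Ext (ModuleCat.of A F) N 2)) :
    Subsingleton (Ext (ModuleCat.of A M) N 2) ↔
      ∀ x : Ext (ModuleCat.of A K) N 1, ∃ y : Ext (ModuleCat.of A F) N 1,
        (Ext.mk₀ (ModuleCat.ofHom j)).comp y (zero_add 1) = x := by
  have hS := kerComplex_shortExact j π h hj hπ
  constructor
  · intro hsub x
    haveI := hsub
    exact Ext.contravariant_sequence_exact₁ hS N x (show 1 + 1 = 2 from rfl)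
      (Subsingleton.elim (α := Ext (ModuleCat.of A M) N 2) _ _)
  · intro hext
    refine subsingleton_of_forall_eq 0 fun x => ?_
    obtain ⟨y, hy⟩ := Ext.contravariant_sequence_exact₃ hS N x (h2.elim _ _) (show 1 + 1 = 2 from rfl)
    obtain ⟨y', rfl⟩ := hext y
    rw [← hy]
    exact hS.extClass_comp_assoc _

end General

variable {A : Type u} [CommRing A] (B : Type u) [CommRing B] [Algebra A B] (f : A)

section

variable (hsurj : Function.Surjective (algebraMap A B)) (hker : ∀ a : A, algebraMap A B a = 0 ↔ f ∣ a)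
variable (hf : f ∈ nonZeroDivisors A)

include hsurj hker hf in
theorem subsingleton_ext_quot_free (n : ℕ) (N : ModuleCat.{u} A) (i : ℕ) :
    Subsingleton (Ext (ModuleCat.of A (Fin n → B)) N (i + 2)) := by
  let π : (Fin n → A) →ₗ[A] (Fin n → B) := (Algebra.linearMap A B).compLeft (Fin n)
  let j : (Fin n → A) →ₗ[A] (Fin n → A) := LinearMap.lsmul A (Fin n → A) f
  have hj : Function.Injective j := fun x y hxy => funext fun t => by
    have : f * x t = f * y t := congrFun hxy t
    exact (isRegular_iff_mem_nonZeroDivisors.2 hf).left this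
  have hπ : Function.Surjective π := fun y => ⟨fun t => (hsurj (y t)).choose, funext fun t => (hsurj (y t)).choose_spec⟩
  have hex : Function.Exact j π := fun y => by
    constructor
    · intro hy
      exact ⟨fun t => ((hker (y t)).1 (congrFun hy t)).choose,
        funext fun t => ((hker (y t)).1 (congrFun hy t)).choose_spec.symm⟩
    · rintro ⟨x, rfl⟩
      exact funext fun t => (hker (f * x t)).2 ⟨x t, rfl⟩
  rw [subsingleton_ext_succ_iff j π hex hj hπ N i]
  exact subsingleton_ext_free _ N i

include hsurj hker hf in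
/-- For a module over `B = A/(f)`, `Ext_A^{i+2}(M, A)` vanishes exactly when `Ext_B^{i+1}(M, B)` does. -/
theorem subsingleton_ext_succ_iff_quot [IsNoetherianRing B] :
    ∀ (i : ℕ) (M : Type u) [AddCommGroup M] [Module A M] [Module B M] [IsScalarTower A B M] [Module.Finite B M],
      Subsingleton (Ext (ModuleCat.of A M) (ModuleCat.of A A) (i + 2)) ↔
        Subsingleton (Ext (ModuleCat.of B M) (ModuleCat.of B B) (i + 1)) := by
  intro i
  induction i with
  | zero =>
    intro M _ _ _ _ _
    obtain ⟨n, π, hπ⟩ := Module.Finite.exists_fin' B M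
    have hexB : Function.Exact (LinearMap.ker π).subtype π := LinearMap.exact_subtype_ker_map π
    have hjB : Function.Injective (LinearMap.ker π).subtype := Submodule.injective_subtype _
    rw [subsingleton_ext_two_iff ((LinearMap.ker π).subtype.restrictScalars A) (π.restrictScalars A) hexB hjB hπ
        _ (subsingleton_ext_quot_free B f hsurj hker hf n _ 0),
      subsingleton_ext_one_iff _ π hexB hjB hπ]
    let S : ShortComplex (ModuleCat.{u} A) :=
      ShortComplex.mk (f • 𝟙 (ModuleCat.of A A)) (ModuleCat.ofHom (Algebra.linearMap A B))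
        (by ext; exact (hker (f * (1 : A))).2 ⟨1, rfl⟩)
    have hS : S.ShortExact :=
      { exact := by
          rw [ShortComplex.moduleCat_exact_iff]
          intro a ha
          obtain ⟨c, rfl⟩ := (hker a).1 ha
          exact ⟨c, rfl⟩
        mono_f := (ModuleCat.mono_iff_injective _).2 fun x y hxy =>
          (isRegular_iff_mem_nonZeroDivisors.2 hf).left hxy
        epi_g := (ModuleCat.epi_iff_surjective _).2 hsurj }
    let δ : ∀ (X : Type u) [AddCommGroup X] [Module A X], (X →ₗ[A] B) →
        Ext (ModuleCat.of A X) (ModuleCat.of A A) 1 :=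
      fun X _ _ φ => (Ext.mk₀ (ModuleCat.ofHom φ : ModuleCat.of A X ⟶ S.X₃)).comp hS.extClass (zero_add 1)
    have δinj : ∀ (X : Type u) [AddCommGroup X] [Module A X] (_ : ∀ x : X, f • x = 0) (φ φ' : X →ₗ[A] B),
        δ X φ = δ X φ' → φ = φ' := by
      intro X _ _ hX φ φ' hφ
      obtain ⟨w, hw⟩ := Ext.covariant_sequence_exact₃ (ModuleCat.of A X) hS
        (Ext.mk₀ (ModuleCat.ofHom φ) - Ext.mk₀ (ModuleCat.ofHom φ')) (zero_add 1)
        (by rw [sub_eq_add_neg, Ext.add_comp, Ext.neg_comp, ← sub_eq_add_neg]; exact sub_eq_zero.2 hφ)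
      obtain ⟨g, rfl⟩ := Ext.addEquiv₀.symm.surjective w
      have hg : g = 0 := ModuleCat.hom_ext <| LinearMap.ext fun x => by
        have h0 : f * g.hom x = 0 := by rw [← smul_eq_mul, ← map_smul, hX, map_zero]
        exact hf.1 _ h0
      rw [hg, map_zero, Ext.zero_comp, eq_comm, sub_eq_zero] at hw
      exact congrArg ModuleCat.Hom.hom ((Ext.mk₀_bijective _ _).1 hw)
    have δsurj : ∀ (X : Type u) [AddCommGroup X] [Module A X] (_ : ∀ x : X, f • x = 0)
        (x : Ext (ModuleCat.of A X) (ModuleCat.of A A) 1), ∃ φ, δ X φ = x := by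
      intro X _ _ hX x
      have h0 : f • 𝟙 (ModuleCat.of A X) = 0 := ModuleCat.hom_ext <| LinearMap.ext fun t => hX t
      obtain ⟨w, hw⟩ := Ext.covariant_sequence_exact₁ (ModuleCat.of A X) hS x (by
        change x.comp (Ext.mk₀ (f • 𝟙 (ModuleCat.of A A))) (add_zero 1) = 0
        rw [Ext.mk₀_smul, Ext.comp_smul, Ext.comp_mk₀_id, ← Ext.mk₀_id_comp x, ← Ext.smul_comp,
          ← Ext.mk₀_smul, h0, Ext.mk₀_zero, Ext.zero_comp]) (zero_add 1)
      obtain ⟨g, rfl⟩ := Ext.addEquiv₀.symm.surjective w
      exact ⟨g.hom, hw⟩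
    have hBX : ∀ (X : Type u) [AddCommGroup X] [Module A X] [Module B X] [IsScalarTower A B X] (x : X),
        f • x = 0 := fun X _ _ _ _ x => by
      rw [← algebraMap_smul B, (hker f).2 dvd_rfl, zero_smul]
    have δnat : ∀ φ : (Fin n → B) →ₗ[A] B,
        (Ext.mk₀ (ModuleCat.ofHom ((LinearMap.ker π).subtype.restrictScalars A))).comp (δ _ φ) (zero_add 1) =
          δ (LinearMap.ker π) (φ ∘ₗ (LinearMap.ker π).subtype.restrictScalars A) := fun φ => by
      simp only [δ, Ext.mk₀_comp_mk₀_assoc]
      rfl
    constructor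
    · intro H φ
      obtain ⟨y, hy⟩ := H (δ _ (φ.restrictScalars A))
      obtain ⟨ψ, rfl⟩ := δsurj _ (hBX _) y
      rw [δnat] at hy
      refine ⟨LinearMap.extendScalarsOfSurjective hsurj ψ, LinearMap.ext fun t => ?_⟩
      exact LinearMap.congr_fun (δinj _ (hBX _) _ _ hy) t
    · intro H x
      obtain ⟨φ, rfl⟩ := δsurj _ (hBX _) x
      obtain ⟨ψ, hψ⟩ := H (LinearMap.extendScalarsOfSurjective hsurj φ)
      refine ⟨δ _ (ψ.restrictScalars A), (δnat _).trans ?_⟩
      congr 1
      exact LinearMap.ext fun t => LinearMap.congr_fun hψ t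
  | succ i ih =>
    intro M _ _ _ _ _
    obtain ⟨n, π, hπ⟩ := Module.Finite.exists_fin' B M
    have hexB : Function.Exact (LinearMap.ker π).subtype π := LinearMap.exact_subtype_ker_map π
    have hjB : Function.Injective (LinearMap.ker π).subtype := Submodule.injective_subtype _
    rw [subsingleton_ext_shift ((LinearMap.ker π).subtype.restrictScalars A) (π.restrictScalars A) hexB hjB hπ
        _ (i + 2) (subsingleton_ext_quot_free B f hsurj hker hf n _ i)
        (subsingleton_ext_quot_free B f hsurj hker hf n _ (i + 1)),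
      subsingleton_ext_succ_iff _ π hexB hjB hπ]
    exact ih (LinearMap.ker π)

end

/-- A Noetherian local ring is Gorenstein iff its quotient by a regular element is. -/
theorem isGorensteinLocalRing_quotient_iff (A : Type u) [CommRing A] [IsLocalRing A] [IsNoetherianRing A]
    (f : A) (hf : f ∈ maximalIdeal A) (hreg : f ∈ nonZeroDivisors A) :
    LocCoh.IsGorensteinLocalRing A ↔ LocCoh.IsGorensteinLocalRing (A ⧸ Ideal.span {f}) := by
  have hle : Ideal.span {f} ≤ maximalIdeal A := (Ideal.span_singleton_le_iff_mem _).2 hf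
  haveI : Nontrivial (A ⧸ Ideal.span {f}) :=
    Ideal.Quotient.nontrivial_iff.2 fun h => (maximalIdeal.isMaximal A).ne_top (top_le_iff.1 (h.ge.trans hle))
  haveI : IsLocalRing (A ⧸ Ideal.span {f}) := .of_surjective' _ Ideal.Quotient.mk_surjective
  let B := A ⧸ Ideal.span {f}
  haveI : Module.Finite B (ResidueField B) :=
    Module.Finite.of_surjective (Algebra.linearMap B (ResidueField B)) residue_surjective
  let e₀ : A →ₗ[A] ResidueField B := Algebra.linearMap A (ResidueField B)
  have he : Function.Surjective e₀ := residue_surjective.comp Ideal.Quotient.mk_surjective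
  have hk : LinearMap.ker e₀ = maximalIdeal A := by
    haveI := (RingHom.ker_isMaximal_of_surjective (algebraMap A (ResidueField B)) he)
    exact eq_maximalIdeal (I := RingHom.ker (algebraMap A (ResidueField B))) ‹_›
  let e : ResidueField A ≃ₗ[A] ResidueField B :=
    (Submodule.quotEquivOfEq _ _ hk.symm).trans (e₀.quotKerEquivOfSurjective he)
  have key : ∀ i, Subsingleton (Ext (ModuleCat.of A (ResidueField A)) (ModuleCat.of A A) (i + 2)) ↔
      Subsingleton (Ext (ModuleCat.of B (ResidueField B)) (ModuleCat.of B B) (i + 1)) := fun i => by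
    rw [← subsingleton_ext_succ_iff_quot B f Ideal.Quotient.mk_surjective
      (fun a => Ideal.Quotient.eq_zero_iff_mem.trans Ideal.mem_span_singleton) hreg i (ResidueField B)]
    exact ⟨fun h => Groth.L29.Gorenstein.subsingleton_of_iso _ e.symm.toModuleIso _,
      fun h => Groth.L29.Gorenstein.subsingleton_of_iso _ e.toModuleIso _⟩
  constructor
  · intro h
    obtain ⟨N, hN⟩ := (Groth.L29.Gorenstein.finite_injdim_iff (ModuleCat.of A A)).1 h.exists_hasInjectiveDimensionLT
    refine ⟨(Groth.L29.Gorenstein.finite_injdim_iff (ModuleCat.of B B)).2 ⟨N + 1, fun i hi => ?_⟩⟩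
    obtain ⟨i, rfl⟩ : ∃ j, i = j + 1 := ⟨i - 1, by omega⟩
    exact (key i).1 (hN (i + 2) (by omega))
  · intro h
    obtain ⟨N, hN⟩ := (Groth.L29.Gorenstein.finite_injdim_iff (ModuleCat.of B B)).1 h.exists_hasInjectiveDimensionLT
    refine ⟨(Groth.L29.Gorenstein.finite_injdim_iff (ModuleCat.of A A)).2 ⟨N + 2, fun i hi => ?_⟩⟩
    obtain ⟨i, rfl⟩ : ∃ j, i = j + 2 := ⟨i - 2, by omega⟩
    exact (key i).2 (hN (i + 1) (by omega))

end Groth.L21.GorensteinQuotient
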