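import Groth.Agent.L21.GorensteinQuotient
import Groth.Agent.L29.Dual.ResidueDegree
import Mathlib.RingTheory.Flat.FaithfullyFlat.Basic
import Mathlib.RingTheory.Flat.Stability
import Mathlib.RingTheory.KrullDimension.NonZeroDivisors
import Mathlib.RingTheory.Ideal.Over
import Mathlib.LinearAlgebra.TensorProduct.Pi

/-!
Gorenstein local rings and flat local homomorphisms.
-/

set_option autoImplicit false
set_option backward.isDefEq.respectTransparency false
universe u

open CategoryTheory Abelian IsLocalRing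
open scoped TensorProduct

attribute [local instance] HasDerivedCategory.standard

namespace Groth.L21.GorensteinFlat

open GorensteinAscend GorensteinQuotient

theorem subsingleton_ext_one_iff_of_subsingleton {A : Type u} [CommRing A] {F M K : Type u} [AddCommGroup F]
    [Module A F] [AddCommGroup M] [Module A M] [AddCommGroup K] [Module A K] (j : K →ₗ[A] F) (π : F →ₗ[A] M)
    (h : Function.Exact j π) (hj : Function.Injective j) (hπ : Function.Surjective π)
    (N : Type u) [AddCommGroup N] [Module A N] (h1 : Subsingleton (Ext (ModuleCat.of A F) (ModuleCat.of A N) 1)) :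
    Subsingleton (Ext (ModuleCat.of A M) (ModuleCat.of A N) 1) ↔
      ∀ φ : K →ₗ[A] N, ∃ ψ : F →ₗ[A] N, ψ ∘ₗ j = φ := by
  have hS := kerComplex_shortExact j π h hj hπ
  constructor
  · intro hsub φ
    haveI := hsub
    obtain ⟨x, hx⟩ := Ext.contravariant_sequence_exact₁ hS (ModuleCat.of A N)
      (Ext.mk₀ (ModuleCat.ofHom φ)) (add_zero 1)
      (Subsingleton.elim (α := Ext (ModuleCat.of A M) (ModuleCat.of A N) 1) _ _)
    obtain ⟨g, rfl⟩ := Ext.addEquiv₀.symm.surjective x
    rw [Ext.addEquiv₀_symm_apply, Ext.mk₀_comp_mk₀] at hx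
    exact ⟨g.hom, congrArg ModuleCat.Hom.hom ((Ext.mk₀_bijective _ _).1 hx)⟩
  · intro hext
    refine subsingleton_of_forall_eq 0 fun x => ?_
    obtain ⟨y, hy⟩ := Ext.contravariant_sequence_exact₃ hS (ModuleCat.of A N) x (h1.elim _ _) (add_zero 1)
    obtain ⟨φ, rfl⟩ := Ext.addEquiv₀.symm.surjective y
    obtain ⟨ψ, hψ⟩ := hext φ.hom
    have hφ : φ = (kerComplex j π h).f ≫ ModuleCat.ofHom ψ := ModuleCat.hom_ext hψ.symm
    rw [← hy, Ext.addEquiv₀_symm_apply, hφ, ← Ext.mk₀_comp_mk₀]
    exact hS.extClass_comp_assoc _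

section Descent

variable {A : Type u} [CommRing A] [IsNoetherianRing A] (B : Type u) [CommRing B] [Algebra A B]
  [Module.FaithfullyFlat A B]

theorem subsingleton_ext_of_baseChange :
    ∀ (i : ℕ) (M : Type u) [AddCommGroup M] [Module A M] [Module.Finite A M],
      Subsingleton (Ext (ModuleCat.of B (B ⊗[A] M)) (ModuleCat.of B B) (i + 1)) →
        Subsingleton (Ext (ModuleCat.of A M) (ModuleCat.of A A) (i + 1)) := by
  intro i
  induction i with
  | zero =>
    intro M _ _ _ hM
    obtain ⟨n, π, hπ⟩ := Module.Finite.exists_fin' A M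
    have hex : Function.Exact (LinearMap.ker π).subtype π := LinearMap.exact_subtype_ker_map π
    haveI : Module.FinitePresentation A (LinearMap.ker π) := Module.finitePresentation_of_finite A _
    rw [subsingleton_ext_one_iff ((LinearMap.ker π).subtype.baseChange B) (π.baseChange B)
      (lTensor_exact B hex hπ) (Module.Flat.lTensor_preserves_injective_linearMap _ (Submodule.injective_subtype _))
      (LinearMap.lTensor_surjective B hπ) B] at hM
    rw [subsingleton_ext_one_iff _ π hex (Submodule.injective_subtype _) hπ]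
    let R : ((Fin n → A) →ₗ[A] A) →ₗ[A] (LinearMap.ker π →ₗ[A] A) :=
      LinearMap.lcomp A A (LinearMap.ker π).subtype
    suffices Function.Surjective R from fun φ => this φ
    rw [← Module.FaithfullyFlat.lTensor_surjective_iff_surjective A B]
    intro t
    let eK := (Module.FinitePresentation.isBaseChange_map A (LinearMap.ker π) A B).equiv
    let eF := (Module.FinitePresentation.isBaseChange_map A (Fin n → A) A B).equiv
    let r : B ⊗[A] A ≃ₗ[B] B := TensorProduct.AlgebraTensorModule.rid A B B
    obtain ⟨ψ, hψ⟩ := hM (r.toLinearMap ∘ₗ eK t)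
    refine ⟨eF.symm (r.symm.toLinearMap ∘ₗ ψ), eK.injective ?_⟩
    have key : ∀ s, eK (R.lTensor B s) = (eF s) ∘ₗ (LinearMap.ker π).subtype.baseChange B := by
      intro s
      induction s using TensorProduct.induction_on with
      | zero => simp
      | tmul b g =>
        rw [LinearMap.lTensor_tmul, IsBaseChange.equiv_tmul, IsBaseChange.equiv_tmul, LinearMap.smul_comp]
        congr 1
        exact LinearMap.baseChange_comp _ _
      | add s s' h h' => rw [map_add, map_add, map_add, h, h', LinearMap.add_comp]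
    rw [key, LinearEquiv.apply_symm_apply, LinearMap.comp_assoc, hψ, ← LinearMap.comp_assoc]
    simp
  | succ i ih =>
    intro M _ _ _ hM
    obtain ⟨n, π, hπ⟩ := Module.Finite.exists_fin' A M
    have hex : Function.Exact (LinearMap.ker π).subtype π := LinearMap.exact_subtype_ker_map π
    rw [subsingleton_ext_succ_iff _ π hex (Submodule.injective_subtype _) hπ]
    rw [subsingleton_ext_succ_iff ((LinearMap.ker π).subtype.baseChange B) (π.baseChange B)
      (lTensor_exact B hex hπ) (Module.Flat.lTensor_preserves_injective_linearMap _ (Submodule.injective_subtype _))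
      (LinearMap.lTensor_surjective B hπ)] at hM
    exact ih _ hM

/-- Gorenstein descends along faithfully flat homomorphisms. -/
theorem isGorensteinLocalRing_descend [IsLocalRing A] [hB : LocCoh.IsGorensteinLocalRing B] :
    LocCoh.IsGorensteinLocalRing A := by
  obtain ⟨N, hN⟩ := hB.exists_hasInjectiveDimensionLT
  haveI : Module.Finite A (ResidueField A) :=
    Module.Finite.of_surjective (Algebra.linearMap A (ResidueField A)) residue_surjective
  refine ⟨(Groth.L29.Gorenstein.finite_injdim_iff (ModuleCat.of A A)).2 ⟨N + 1, fun i hi => ?_⟩⟩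
  obtain ⟨i, rfl⟩ : ∃ j, i = j + 1 := ⟨i - 1, by omega⟩
  exact subsingleton_ext_of_baseChange B i _ (HasInjectiveDimensionLT.subsingleton _ N (i + 1) (by omega) _)

end Descent

theorem mem_map_of_flat {A B : Type u} [CommRing A] [CommRing B] [Algebra A B] [Module.Flat A B]
    {ι : Type u} [Fintype ι] [DecidableEq ι] (v : ι → A) (I : Ideal A)
    (hI : ∀ a, a ∈ I ↔ ∀ i, a * v i = 0) (b : B) (hb : ∀ i, b * algebraMap A B (v i) = 0) :
    b ∈ I.map (algebraMap A B) := by
  let f : A →ₗ[A] (ι → A) := LinearMap.toSpanSingleton A _ v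
  have hex : Function.Exact (Submodule.subtype I) f := fun a => by
    constructor
    · intro h
      exact ⟨⟨a, (hI a).2 fun i => congrFun h i⟩, rfl⟩
    · rintro ⟨⟨x, hx⟩, rfl⟩
      exact funext fun i => (hI x).1 hx i
  have h0 : f.lTensor B (b ⊗ₜ 1) = 0 := by
    apply (TensorProduct.piScalarRight A A B ι).injective
    funext i
    rw [map_zero, LinearMap.lTensor_tmul]
    simpa [f, TensorProduct.piScalarRight_apply, Algebra.smul_def, mul_comm] using hb i
  obtain ⟨t, ht⟩ := (Module.Flat.lTensor_exact B hex _).1 h0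
  have : ∀ t : B ⊗[A] I, TensorProduct.rid A B (LinearMap.lTensor B (Submodule.subtype I) t) ∈
      I.map (algebraMap A B) := by
    intro t
    induction t using TensorProduct.induction_on with
    | zero => simp
    | tmul c x =>
      rw [LinearMap.lTensor_tmul, TensorProduct.rid_tmul, Algebra.smul_def]
      exact Ideal.mul_mem_right _ _ (Ideal.mem_map_of_mem _ x.2)
    | add x y hx hy => rw [map_add, map_add]; exact Ideal.add_mem _ hx hy
  have h := this t
  rwa [ht, TensorProduct.rid_tmul, one_smul] at h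

/-- A Gorenstein local ring of depth zero: no higher `Ext` of the residue field, and a simple socle. -/
theorem exists_socle_generator (A : Type u) [CommRing A] [IsLocalRing A] [hA : LocCoh.IsGorensteinLocalRing A]
    (y₀ : A) (hy₀ : y₀ ≠ 0) (hy₀m : ∀ a ∈ maximalIdeal A, a * y₀ = 0) :
    (∀ i : ℕ, 1 ≤ i → Subsingleton (Ext (ModuleCat.of A (ResidueField A)) (ModuleCat.of A A) i)) ∧
      ∃ s : A, (∀ a, a ∈ maximalIdeal A ↔ a * s = 0) ∧
        ∀ y, (∀ a ∈ maximalIdeal A, a * y = 0) → s ∣ y := by
  obtain ⟨n, hn, ⟨en⟩⟩ := Groth.L29.HomD.residue_degree (maximalIdeal A)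
    (Groth.L29.Gorenstein.isGorensteinLocalRing_iff_isDualizing.1 hA)
  let k := A ⧸ maximalIdeal A
  let mk : ∀ y : A, (∀ a ∈ maximalIdeal A, a * y = 0) → (k →ₗ[A] A) := fun y hy =>
    Submodule.liftQ (maximalIdeal A) (LinearMap.toSpanSingleton A A y) fun a ha => hy a ha
  let e0 : (k →ₗ[A] A) ≃ₗ[A] (Dual.inD A k ⟶ (Dual.inD A A)⟦((0 : ℕ) : ℤ)⟧) :=
    ((Ext.linearEquiv₀ (R := A) (X := ModuleCat.of A k) (Y := ModuleCat.of A A)).trans
      ModuleCat.homLinearEquiv).symm.trans Ext.homLinearEquiv
  have hn0 : n = 0 := by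
    by_contra hne
    haveI : Subsingleton (Dual.inD A k ⟶ (Dual.inD A A)⟦((0 : ℕ) : ℤ)⟧) := hn _ (by simpa using Ne.symm hne)
    haveI := e0.toEquiv.subsingleton
    have h : mk y₀ hy₀m = 0 := Subsingleton.elim _ _
    have h1 : (1 : A) • y₀ = 0 := LinearMap.congr_fun h (Submodule.Quotient.mk 1)
    exact hy₀ (by rwa [one_smul] at h1)
  refine ⟨fun i hi => ?_, ?_⟩
  · haveI : Subsingleton (Dual.inD A k ⟶ (Dual.inD A A)⟦((i : ℕ) : ℤ)⟧) := hn _ (by omega)
    exact (Ext.homEquiv (X := ModuleCat.of A k) (Y := ModuleCat.of A A) (n := i)).subsingleton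
  subst hn0
  let ψ : (k →ₗ[A] A) ≃ₗ[A] k := e0.trans en
  have hev : ∀ (y : A) (hy : ∀ a ∈ maximalIdeal A, a * y = 0),
      mk y hy (Submodule.Quotient.mk 1) = y := fun y hy => one_mul y
  have hg : ∀ φ : k →ₗ[A] A, ∃ a : A, φ = a • ψ.symm (Submodule.Quotient.mk 1) := fun φ => by
    obtain ⟨a, ha⟩ := Submodule.Quotient.mk_surjective _ (ψ φ)
    exact ⟨a, ψ.injective (by
      rw [map_smul, LinearEquiv.apply_symm_apply, ← ha, ← Submodule.Quotient.mk_smul, smul_eq_mul, mul_one])⟩
  refine ⟨ψ.symm (Submodule.Quotient.mk 1) (Submodule.Quotient.mk 1), fun a => ⟨fun ha => ?_, fun ha => ?_⟩, fun y hy => ?_⟩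
  · rw [← smul_eq_mul, ← map_smul, ← Submodule.Quotient.mk_smul, smul_eq_mul, mul_one,
      (Submodule.Quotient.mk_eq_zero _).2 ha, map_zero]
  · by_contra hu
    have hs : ψ.symm (Submodule.Quotient.mk 1) (Submodule.Quotient.mk 1) = 0 :=
      (notMem_maximalIdeal.1 hu).mul_right_eq_zero.1 ha
    obtain ⟨c, hc⟩ := hg (mk y₀ hy₀m)
    apply hy₀
    rw [← hev y₀ hy₀m, hc, LinearMap.smul_apply, hs, smul_zero]
  · obtain ⟨c, hc⟩ := hg (mk y hy)
    rw [← hev y hy, hc, LinearMap.smul_apply, smul_eq_mul]
    exact Dvd.intro_left _ rfl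

section Base

variable {B C : Type u} [CommRing B] [CommRing C] [Algebra B C]
  (hsurj : Function.Surjective (algebraMap B C)) (ι : C →ₗ[B] B) (hι : Function.Injective ι)
  (hran : ∀ y : B, (∀ b, algebraMap B C b = 0 → b * y = 0) → ∃ c, ι c = y)
  (hfree : ∀ (n i : ℕ), Subsingleton (Ext (ModuleCat.of B (Fin n → C)) (ModuleCat.of B B) (i + 1)))

include hsurj hι hran hfree in
theorem subsingleton_ext_iff_of_socle [IsNoetherianRing C] :
    ∀ (i : ℕ) (M : Type u) [AddCommGroup M] [Module B M] [Module C M] [IsScalarTower B C M] [Module.Finite C M],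
      Subsingleton (Ext (ModuleCat.of B M) (ModuleCat.of B B) (i + 1)) ↔
        Subsingleton (Ext (ModuleCat.of C M) (ModuleCat.of C C) (i + 1)) := by
  intro i
  induction i with
  | zero =>
    intro M _ _ _ _ _
    obtain ⟨n, π, hπ⟩ := Module.Finite.exists_fin' C M
    have hexC : Function.Exact (LinearMap.ker π).subtype π := LinearMap.exact_subtype_ker_map π
    have hjC : Function.Injective (LinearMap.ker π).subtype := Submodule.injective_subtype _
    rw [subsingleton_ext_one_iff_of_subsingleton ((LinearMap.ker π).subtype.restrictScalars B)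
        (π.restrictScalars B) hexC hjC hπ B (hfree n 0), subsingleton_ext_one_iff _ π hexC hjC hπ]
    have hfac : ∀ (X : Type u) [AddCommGroup X] [Module B X] [Module C X] [IsScalarTower B C X]
        (φ : X →ₗ[B] B), ∃ φ' : X →ₗ[C] C, ι ∘ₗ φ'.restrictScalars B = φ := by
      intro X _ _ _ _ φ
      choose g hg using fun x : X => hran (φ x) fun b hb => by
        rw [← smul_eq_mul, ← map_smul, ← algebraMap_smul C, hb, zero_smul, map_zero]
      exact ⟨LinearMap.extendScalarsOfSurjective hsurj
        { toFun := g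
          map_add' := fun x y => hι (by simp [map_add, hg])
          map_smul' := fun b x => hι (by simp [map_smul, hg]) }, LinearMap.ext hg⟩
    constructor
    · intro H φ
      obtain ⟨ψ, hψ⟩ := H (ι ∘ₗ φ.restrictScalars B)
      obtain ⟨ψ', rfl⟩ := hfac _ ψ
      exact ⟨ψ', LinearMap.ext fun t => hι (LinearMap.congr_fun hψ t)⟩
    · intro H φ
      obtain ⟨φ', rfl⟩ := hfac _ φ
      obtain ⟨ψ', hψ'⟩ := H φ'
      exact ⟨ι ∘ₗ ψ'.restrictScalars B, LinearMap.ext fun t => congrArg ι (LinearMap.congr_fun hψ' t)⟩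
  | succ i ih =>
    intro M _ _ _ _ _
    obtain ⟨n, π, hπ⟩ := Module.Finite.exists_fin' C M
    have hexC : Function.Exact (LinearMap.ker π).subtype π := LinearMap.exact_subtype_ker_map π
    have hjC : Function.Injective (LinearMap.ker π).subtype := Submodule.injective_subtype _
    rw [subsingleton_ext_shift ((LinearMap.ker π).subtype.restrictScalars B) (π.restrictScalars B) hexC hjC hπ
        _ (i + 1) (hfree n i) (hfree n (i + 1)), subsingleton_ext_succ_iff _ π hexC hjC hπ]
    exact ih (LinearMap.ker π)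

end Base

theorem gorenstein_iff_fibre_of_socle (A B : Type u) [CommRing A] [IsLocalRing A] [LocCoh.IsGorensteinLocalRing A]
    [CommRing B] [IsLocalRing B] [IsNoetherianRing B] [Algebra A B] [IsLocalHom (algebraMap A B)]
    [Module.Flat A B] (y₀ : A) (hy₀ : y₀ ≠ 0) (hy₀m : ∀ a ∈ maximalIdeal A, a * y₀ = 0) :
    LocCoh.IsGorensteinLocalRing B ↔
      LocCoh.IsGorensteinLocalRing (B ⧸ (maximalIdeal A).map (algebraMap A B)) := by
  classical
  obtain ⟨hExt, s, hs, hdiv⟩ := exists_socle_generator A y₀ hy₀ hy₀m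
  let I := (maximalIdeal A).map (algebraMap A B)
  have hle : I ≤ maximalIdeal B := ((local_hom_TFAE (algebraMap A B)).out 0 2).1 ‹_›
  haveI : Nontrivial (B ⧸ I) :=
    Ideal.Quotient.nontrivial_iff.2 fun h => (maximalIdeal.isMaximal B).ne_top (top_le_iff.1 (h.ge.trans hle))
  haveI : IsLocalRing (B ⧸ I) := .of_surjective' _ Ideal.Quotient.mk_surjective
  let C := B ⧸ I
  have hann : ∀ b : B, b ∈ I ↔ b * algebraMap A B s = 0 := fun b => by
    constructor
    · intro hb
      have : I ≤ LinearMap.ker (LinearMap.toSpanSingleton B B (algebraMap A B s)) := by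
        rw [Ideal.map_le_iff_le_comap]
        intro a ha
        rw [Ideal.mem_comap, LinearMap.mem_ker, LinearMap.toSpanSingleton_apply, smul_eq_mul, ← map_mul,
          (hs a).1 ha, map_zero]
      exact this hb
    · intro hb
      exact mem_map_of_flat (fun _ : PUnit => s) _ (fun a => ⟨fun h _ => (hs a).1 h, fun h => (hs a).2 (h ⟨⟩)⟩) b
        fun _ => hb
  have hle' : I ≤ LinearMap.ker (LinearMap.toSpanSingleton B B (algebraMap A B s)) := fun b hb => (hann b).1 hb
  let ι : C →ₗ[B] B := Submodule.liftQ I (LinearMap.toSpanSingleton B B (algebraMap A B s)) hle'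
  have hι : Function.Injective ι := by
    rw [injective_iff_map_eq_zero]
    intro c hc
    obtain ⟨b, rfl⟩ := Submodule.Quotient.mk_surjective _ c
    exact (Submodule.Quotient.mk_eq_zero _).2 ((hann b).2 hc)
  have hran : ∀ y : B, (∀ b, algebraMap B C b = 0 → b * y = 0) → ∃ c, ι c = y := by
    intro y hy
    obtain ⟨G, hG⟩ := (IsNoetherian.noetherian (maximalIdeal A) : (maximalIdeal A).FG)
    have h := mem_map_of_flat (ι := (G : Set A)) (fun g => (g : A)) (Ideal.span {s}) (fun a => by
        rw [Ideal.mem_span_singleton]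
        constructor
        · rintro ⟨c, rfl⟩ g
          rw [mul_comm, ← mul_assoc, (hs g).1 (by rw [← hG]; exact Ideal.subset_span g.2), zero_mul]
        · intro h
          refine hdiv a fun m hm => ?_
          rw [← hG] at hm
          induction hm using Submodule.span_induction with
          | mem x hx => rw [mul_comm]; exact h ⟨x, hx⟩
          | zero => rw [zero_mul]
          | add x z _ _ hx hz => rw [add_mul, hx, hz, add_zero]
          | smul r x _ hx => rw [smul_eq_mul, mul_assoc, hx, mul_zero]) y (fun g => by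
        rw [mul_comm]
        exact hy _ (Ideal.Quotient.eq_zero_iff_mem.2 (Ideal.mem_map_of_mem _ (by rw [← hG]; exact Ideal.subset_span g.2))))
    rw [Ideal.map_span, Set.image_singleton, Ideal.mem_span_singleton'] at h
    obtain ⟨c, rfl⟩ := h
    exact ⟨Submodule.Quotient.mk c, rfl⟩
  haveI : Module.Finite A (ResidueField A) :=
    Module.Finite.of_surjective (Algebra.linearMap A (ResidueField A)) residue_surjective
  have hfree : ∀ (n i : ℕ), Subsingleton (Ext (ModuleCat.of B (Fin n → C)) (ModuleCat.of B B) (i + 1)) := by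
    intro n i
    obtain ⟨d, hd⟩ := Groth.L01.exists_dim_eq_nat (R := A)
    haveI := subsingleton_ext_baseChange B i (Fin n → ResidueField A)
      (Groth.L29.Gorenstein.subsingleton_ext_of_residueField (ModuleCat.of A A) 1 hExt d
        (Fin n → ResidueField A) ((Module.supportDim_le_ringKrullDim _ _).trans hd.le) (i + 1) (by omega))
    let e : C ≃ₗ[B] B ⊗[A] ResidueField A :=
      (Algebra.TensorProduct.quotIdealMapEquivTensorQuot B (maximalIdeal A)).toLinearEquiv
    exact Groth.L29.Gorenstein.subsingleton_of_iso _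
      ((TensorProduct.piRight A B B (fun _ : Fin n => ResidueField A)).trans
        (LinearEquiv.piCongrRight fun _ => e.symm)).symm.toModuleIso _
  haveI : Module.Finite C (ResidueField C) :=
    Module.Finite.of_surjective (Algebra.linearMap C (ResidueField C)) residue_surjective
  let e₀ : B →ₗ[B] ResidueField C := Algebra.linearMap B (ResidueField C)
  have he : Function.Surjective e₀ := residue_surjective.comp Ideal.Quotient.mk_surjective
  have hk : LinearMap.ker e₀ = maximalIdeal B := by
    haveI := (RingHom.ker_isMaximal_of_surjective (algebraMap B (ResidueField C)) he)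
    exact eq_maximalIdeal (I := RingHom.ker (algebraMap B (ResidueField C))) ‹_›
  let e : ResidueField B ≃ₗ[B] ResidueField C :=
    (Submodule.quotEquivOfEq _ _ hk.symm).trans (e₀.quotKerEquivOfSurjective he)
  have key : ∀ i, Subsingleton (Ext (ModuleCat.of B (ResidueField B)) (ModuleCat.of B B) (i + 1)) ↔
      Subsingleton (Ext (ModuleCat.of C (ResidueField C)) (ModuleCat.of C C) (i + 1)) := fun i => by
    rw [← subsingleton_ext_iff_of_socle (C := C) Ideal.Quotient.mk_surjective ι hι hran hfree i (ResidueField C)]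
    exact ⟨fun h => Groth.L29.Gorenstein.subsingleton_of_iso _ e.symm.toModuleIso _,
      fun h => Groth.L29.Gorenstein.subsingleton_of_iso _ e.toModuleIso _⟩
  constructor
  · intro h
    obtain ⟨N, hN⟩ := (Groth.L29.Gorenstein.finite_injdim_iff (ModuleCat.of B B)).1 h.exists_hasInjectiveDimensionLT
    refine ⟨(Groth.L29.Gorenstein.finite_injdim_iff (ModuleCat.of C C)).2 ⟨N + 1, fun i hi => ?_⟩⟩
    obtain ⟨i, rfl⟩ : ∃ j, i = j + 1 := ⟨i - 1, by omega⟩
    exact (key i).1 (hN (i + 1) (by omega))
  · intro h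
    obtain ⟨N, hN⟩ := (Groth.L29.Gorenstein.finite_injdim_iff (ModuleCat.of C C)).1 h.exists_hasInjectiveDimensionLT
    refine ⟨(Groth.L29.Gorenstein.finite_injdim_iff (ModuleCat.of B B)).2 ⟨N + 1, fun i hi => ?_⟩⟩
    obtain ⟨i, rfl⟩ : ∃ j, i = j + 1 := ⟨i - 1, by omega⟩
    exact (key i).2 (hN (i + 1) (by omega))

theorem exists_socle_or_regular (A : Type u) [CommRing A] [IsLocalRing A] [IsNoetherianRing A] :
    (∃ y : A, y ≠ 0 ∧ ∀ a ∈ maximalIdeal A, a * y = 0) ∨ ∃ x ∈ maximalIdeal A, x ∈ nonZeroDivisors A := by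
  rw [or_iff_not_imp_right]
  intro hne
  push Not at hne
  have hsub : (maximalIdeal A : Set A) ⊆ ⋃ p ∈ associatedPrimes A A, (p : Set A) := by
    rw [biUnion_associatedPrimes_eq_compl_nonZeroDivisors]
    exact fun x hx => hne x hx
  have hfin := associatedPrimes.finite A A
  obtain ⟨p, hp, hle⟩ := (Ideal.subset_union_prime_finite hfin (f := id) ⊥ ⊥
    (fun p hp _ _ => hp.1)).1 hsub
  obtain rfl : p = maximalIdeal A :=
    ((maximalIdeal.isMaximal A).eq_of_le hp.1.ne_top hle).symm
  obtain ⟨-, f, hf⟩ := (isAssociatedPrime_iff_exists_injective_linearMap _ A).1 hp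
  refine ⟨f (Submodule.Quotient.mk 1), fun h => ?_, fun a ha => ?_⟩
  · rw [← map_zero f] at h
    exact (maximalIdeal.isMaximal A).ne_top ((Ideal.eq_top_iff_one _).2 ((Submodule.Quotient.mk_eq_zero _).1 (hf h)))
  · rw [← smul_eq_mul, ← map_smul, ← Submodule.Quotient.mk_smul, smul_eq_mul, mul_one,
      (Submodule.Quotient.mk_eq_zero _).2 ha, map_zero]

theorem gorenstein_iff_fibre :
    ∀ (d : ℕ) (A B : Type u) [CommRing A] [IsLocalRing A] [LocCoh.IsGorensteinLocalRing A]
      [CommRing B] [IsLocalRing B] [IsNoetherianRing B] [Algebra A B] [IsLocalHom (algebraMap A B)]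
      [Module.Flat A B], ringKrullDim A ≤ d →
      (LocCoh.IsGorensteinLocalRing B ↔
        LocCoh.IsGorensteinLocalRing (B ⧸ (maximalIdeal A).map (algebraMap A B))) := by
  intro d
  induction d with
  | zero =>
    intro A B _ _ hA _ _ _ _ _ _ hd
    obtain ⟨y, hy, hym⟩ | ⟨x, hxm, hx⟩ := exists_socle_or_regular A
    · exact gorenstein_iff_fibre_of_socle A B y hy hym
    · exfalso
      haveI : Nontrivial (A ⧸ Ideal.span {x}) := Ideal.Quotient.nontrivial_iff.2 fun h =>
        (maximalIdeal.isMaximal A).ne_top (top_le_iff.1 (h.ge.trans ((Ideal.span_singleton_le_iff_mem _).2 hxm)))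
      have h := (ringKrullDim_quotient_succ_le_of_nonZeroDivisor hx).trans hd
      exact absurd ((add_le_add (ringKrullDim_nonneg_of_nontrivial (R := A ⧸ Ideal.span {x})) le_rfl).trans h)
        (by simp)
  | succ d ih =>
    intro A B _ _ hA _ _ _ _ _ _ hd
    obtain ⟨y, hy, hym⟩ | ⟨x, hxm, hx⟩ := exists_socle_or_regular A
    · exact gorenstein_iff_fibre_of_socle A B y hy hym
    have hle : Ideal.span {x} ≤ maximalIdeal A := (Ideal.span_singleton_le_iff_mem _).2 hxm
    let A' := A ⧸ Ideal.span {x}
    haveI : Nontrivial A' := Ideal.Quotient.nontrivial_iff.2 fun h =>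
      (maximalIdeal.isMaximal A).ne_top (top_le_iff.1 (h.ge.trans hle))
    haveI : IsLocalRing A' := .of_surjective' _ Ideal.Quotient.mk_surjective
    haveI : LocCoh.IsGorensteinLocalRing A' := (isGorensteinLocalRing_quotient_iff A x hxm hx).1 hA
    let J := (Ideal.span {x}).map (algebraMap A B)
    let B' := B ⧸ J
    have hJ : J = Ideal.span {algebraMap A B x} := by simp only [J, Ideal.map_span, Set.image_singleton]
    have hmB : (maximalIdeal A).map (algebraMap A B) ≤ maximalIdeal B :=
      ((local_hom_TFAE (algebraMap A B)).out 0 2).1 ‹_›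
    have hxB : algebraMap A B x ∈ maximalIdeal B := hmB (Ideal.mem_map_of_mem _ hxm)
    haveI : Nontrivial B' := Ideal.Quotient.nontrivial_iff.2 fun h =>
      (maximalIdeal.isMaximal B).ne_top (top_le_iff.1 (h.ge.trans ((Ideal.map_mono hle).trans hmB)))
    haveI : IsLocalRing B' := .of_surjective' _ Ideal.Quotient.mk_surjective
    have hxr : algebraMap A B x ∈ nonZeroDivisors B := by
      have h : IsSMulRegular B x :=
        Module.Flat.isSMulRegular_of_isRegular (isRegular_iff_mem_nonZeroDivisors.2 hx)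
      exact mem_nonZeroDivisors_iff.2 ⟨fun z hz => h (by simpa [Algebra.smul_def] using hz),
        fun z hz => h (by simpa [Algebra.smul_def, mul_comm] using hz)⟩
    haveI : Module.Flat A' B' :=
      .of_linearEquiv (Algebra.TensorProduct.quotIdealMapEquivQuotTensor B (Ideal.span {x})).toLinearEquiv
    haveI hloc : IsLocalHom (algebraMap A' B') := by
      refine ((local_hom_TFAE (algebraMap A' B')).out 0 2).2 ?_
      intro z hz
      have hz' : z ∈ ((maximalIdeal A).map (algebraMap A B)).map (Ideal.Quotient.mk J) := by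
        rw [Ideal.map_map]
        rw [← IsLocalRing.map_maximalIdeal_of_surjective (Ideal.Quotient.mk (Ideal.span {x}))
          Ideal.Quotient.mk_surjective, Ideal.map_map] at hz
        exact hz
      rw [← IsLocalRing.map_maximalIdeal_of_surjective (Ideal.Quotient.mk J) Ideal.Quotient.mk_surjective]
      exact Ideal.map_mono hmB hz'
    have hd' : ringKrullDim A' ≤ d := by
      have h := (ringKrullDim_quotient_succ_le_of_nonZeroDivisor hx).trans hd
      rw [Nat.cast_succ] at h
      revert h
      generalize ringKrullDim A' = s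
      intro h
      cases s with
      | bot => exact bot_le
      | coe s =>
        have h' : s + 1 ≤ (d : ℕ∞) + 1 := WithBot.coe_le_coe.1 (by exact_mod_cast h)
        exact WithBot.coe_le_coe.2 ((ENat.add_le_add_iff_right (by simp)).1 h')
    let π : B →+* B' ⧸ (maximalIdeal A').map (algebraMap A' B') :=
      (Ideal.Quotient.mk _).comp (Ideal.Quotient.mk J)
    have hπ : RingHom.ker π = (maximalIdeal A).map (algebraMap A B) := by
      rw [← RingHom.comap_ker, Ideal.mk_ker,
        ← IsLocalRing.map_maximalIdeal_of_surjective (Ideal.Quotient.mk (Ideal.span {x}))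
          Ideal.Quotient.mk_surjective, Ideal.map_map,
        show (algebraMap A' B').comp (Ideal.Quotient.mk (Ideal.span {x})) =
          (Ideal.Quotient.mk J).comp (algebraMap A B) from RingHom.ext fun _ => rfl,
        ← Ideal.map_map, Ideal.comap_map_of_surjective _ Ideal.Quotient.mk_surjective, ← RingHom.ker_eq_comap_bot,
        Ideal.mk_ker, sup_eq_left]
      exact Ideal.map_mono hle
    let efib : B ⧸ (maximalIdeal A).map (algebraMap A B) ≃+* B' ⧸ (maximalIdeal A').map (algebraMap A' B') :=
      (Ideal.quotEquivOfEq hπ.symm).trans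
        (RingHom.quotientKerEquivOfSurjective (f := π) (Ideal.Quotient.mk_surjective.comp Ideal.Quotient.mk_surjective))
    have h1 : LocCoh.IsGorensteinLocalRing B ↔ LocCoh.IsGorensteinLocalRing B' := by
      rw [isGorensteinLocalRing_quotient_iff B (algebraMap A B x) hxB hxr]
      exact ⟨isGorensteinLocalRing_of_ringEquiv (Ideal.quotEquivOfEq hJ.symm),
        isGorensteinLocalRing_of_ringEquiv (Ideal.quotEquivOfEq hJ)⟩
    rw [h1, ih A' B' hd']
    exact ⟨isGorensteinLocalRing_of_ringEquiv efib.symm, isGorensteinLocalRing_of_ringEquiv efib⟩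

/-- For a flat local homomorphism, the target is Gorenstein iff the source and the closed fibre are. -/
theorem gorenstein_flat_local_iff (A B : Type u) [CommRing A] [IsLocalRing A] [IsNoetherianRing A]
    [CommRing B] [IsLocalRing B] [IsNoetherianRing B] [Algebra A B] [IsLocalHom (algebraMap A B)]
    [Module.Flat A B] : LocCoh.IsGorensteinLocalRing B ↔ (LocCoh.IsGorensteinLocalRing A ∧
      LocCoh.IsGorensteinLocalRing (B ⧸ (maximalIdeal A).map (algebraMap A B))) := by
  obtain ⟨d, hd⟩ := Groth.L01.exists_dim_eq_nat (R := A)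
  constructor
  · intro h
    haveI : Module.FaithfullyFlat A B := Module.FaithfullyFlat.of_flat_of_isLocalHom
    haveI : LocCoh.IsGorensteinLocalRing A := isGorensteinLocalRing_descend B
    exact ⟨‹_›, (gorenstein_iff_fibre d A B hd.le).1 h⟩
  · rintro ⟨hA, hC⟩
    exact (gorenstein_iff_fibre d A B hd.le).2 hC

end Groth.L21.GorensteinFlat
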