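import Groth.Agent.L21.GorensteinBaseChange
import Groth.Agent.L20.ModPullback
import Groth.Agent.L23.SchemeFlatAt

/-! The Gorenstein locus under base change by morphisms locally of finite type. -/

set_option autoImplicit false
set_option linter.style.haveILetI false
set_option maxSynthPendingDepth 3
universe u

open CategoryTheory CategoryTheory.Limits AlgebraicGeometry IsLocalRing

namespace Groth.L21.GorensteinBaseChange

/-- Flatness at a point is stable under base change. -/
theorem flat_stalkMap_of_isPullback {X S X' S' : Scheme.{u}} {f : X ⟶ S} {f' : X' ⟶ S'} {g' : X' ⟶ X}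
    {g : S' ⟶ S} (hc : IsPullback g' f' f g) (x' : X') (h : (f.stalkMap (g' x')).hom.Flat) :
    (f'.stalkMap x').hom.Flat := by
  obtain ⟨W, V, W', U, eV, eW, eU, eU', hW, hV, hW', hU, hxU, hpo⟩ := Groth.L20.ModStalk.exists_affine_square hc x'
  algebraize [(f.appLE W V eV).hom, (g.appLE W W' eW).hom, (g'.appLE V U eU).hom, (f'.appLE W' U eU').hom,
    ((g'.appLE V U eU).hom.comp (f.appLE W V eV).hom)]
  haveI : IsScalarTower Γ(S, W) Γ(S', W') Γ(X', U) := IsScalarTower.of_algebraMap_eq' (congrArg CommRingCat.Hom.hom hpo.w)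
  haveI : Algebra.IsPushout Γ(S, W) Γ(X, V) Γ(S', W') Γ(X', U) := CommRingCat.isPushout_iff_isPushout.mp hpo
  haveI : Algebra.IsPushout Γ(S, W) Γ(S', W') Γ(X, V) Γ(X', U) := Algebra.IsPushout.symm ‹_›
  have hxV : g' x' ∈ V := eU hxU
  have hxW : f (g' x') ∈ W := eV hxV
  letI := X.presheaf.algebra_section_stalk ⟨g' x', hxV⟩
  haveI hlocV := hV.isLocalization_stalk ⟨g' x', hxV⟩
  letI := S.presheaf.algebra_section_stalk ⟨f (g' x'), hxW⟩
  haveI := hW.isLocalization_stalk ⟨f (g' x'), hxW⟩
  letI : Algebra (S.presheaf.stalk (f (g' x'))) (X.presheaf.stalk (g' x')) := (f.stalkMap (g' x')).hom.toAlgebra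
  haveI : Module.Flat (S.presheaf.stalk (f (g' x'))) (X.presheaf.stalk (g' x')) := h
  letI : Algebra Γ(S, W) (X.presheaf.stalk (g' x')) :=
    ((algebraMap Γ(X, V) (X.presheaf.stalk (g' x'))).comp (algebraMap Γ(S, W) Γ(X, V))).toAlgebra
  haveI : IsScalarTower Γ(S, W) Γ(X, V) (X.presheaf.stalk (g' x')) := IsScalarTower.of_algebraMap_eq fun _ => rfl
  haveI : IsScalarTower Γ(S, W) (S.presheaf.stalk (f (g' x'))) (X.presheaf.stalk (g' x')) :=
    IsScalarTower.of_algebraMap_eq fun r => (Groth.L20.ModStalk.stalkMap_germ eV hxV hxW r).symm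
  haveI : Module.Flat Γ(S, W) (S.presheaf.stalk (f (g' x'))) :=
    IsLocalization.flat _ (hW.primeIdealOf ⟨f (g' x'), hxW⟩).asIdeal.primeCompl
  haveI : Module.Flat Γ(S, W) (X.presheaf.stalk (g' x')) :=
    Module.Flat.trans Γ(S, W) (S.presheaf.stalk (f (g' x'))) _
  let q := (hU.primeIdealOf ⟨x', hxU⟩).asIdeal
  have hq : q.comap (algebraMap Γ(X, V) Γ(X', U)) = (hV.primeIdealOf ⟨g' x', hxV⟩).asIdeal :=
    congr($(IsAffineOpen.comap_primeIdealOf_appLE V hV U hU eU hxU).1)
  haveI : IsLocalization.AtPrime (X.presheaf.stalk (g' x')) (q.comap (algebraMap Γ(X, V) Γ(X', U))) := by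
    simp only [hq]
    exact hlocV
  haveI : Module.Flat Γ(S, W) (Localization.AtPrime (q.comap (algebraMap Γ(X, V) Γ(X', U)))) :=
    Module.Flat.of_linearEquiv ((IsLocalization.algEquiv (q.comap (algebraMap Γ(X, V) Γ(X', U))).primeCompl
      (Localization.AtPrime (q.comap (algebraMap Γ(X, V) Γ(X', U)))) (X.presheaf.stalk (g' x'))).toLinearEquiv.restrictScalars
        Γ(S, W))
  haveI := Groth.L20.flat_localization_of_isPushout (R := Γ(S, W)) (S := Γ(S', W')) (R' := Γ(X, V))
    (S' := Γ(X', U)) q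
  letI := X'.presheaf.algebra_section_stalk ⟨x', hxU⟩
  haveI := hU.isLocalization_stalk ⟨x', hxU⟩
  letI := S'.presheaf.algebra_section_stalk ⟨f' x', eU' hxU⟩
  haveI := hW'.isLocalization_stalk ⟨f' x', eU' hxU⟩
  letI : Algebra (S'.presheaf.stalk (f' x')) (X'.presheaf.stalk x') := (f'.stalkMap x').hom.toAlgebra
  letI : Algebra Γ(S', W') (X'.presheaf.stalk x') :=
    ((algebraMap Γ(X', U) (X'.presheaf.stalk x')).comp (algebraMap Γ(S', W') Γ(X', U))).toAlgebra
  haveI : IsScalarTower Γ(S', W') Γ(X', U) (X'.presheaf.stalk x') := IsScalarTower.of_algebraMap_eq fun _ => rfl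
  haveI : IsScalarTower Γ(S', W') (S'.presheaf.stalk (f' x')) (X'.presheaf.stalk x') :=
    IsScalarTower.of_algebraMap_eq fun r => (Groth.L20.ModStalk.stalkMap_germ eU' hxU (eU' hxU) r).symm
  haveI : Module.Flat Γ(S', W') (X'.presheaf.stalk x') :=
    Module.Flat.of_linearEquiv ((IsLocalization.algEquiv q.primeCompl (X'.presheaf.stalk x')
      (Localization.AtPrime q)).toLinearEquiv.restrictScalars Γ(S', W'))
  exact (Module.flat_iff_of_isLocalization (S'.presheaf.stalk (f' x'))
    (hW'.primeIdealOf ⟨f' x', eU' hxU⟩).asIdeal.primeCompl (X'.presheaf.stalk x')).2 inferInstance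

/-- Finitely generated field extensions preserve local Noetherianity. -/
theorem isLocallyNoetherian_of_fg {k k' : Type u} [Field k] [Field k'] [Algebra k k']
    (hfg : ∃ s : Finset k', IntermediateField.adjoin k (s : Set k') = ⊤) {X X' : Scheme.{u}}
    (f : X ⟶ Spec (CommRingCat.of k)) [IsLocallyNoetherian X] {p : X' ⟶ X} {q : X' ⟶ Spec (CommRingCat.of k')}
    (h : IsPullback p q f (Spec.map (CommRingCat.ofHom (algebraMap k k')))) : IsLocallyNoetherian X' := by
  let g := Spec.map (CommRingCat.ofHom (algebraMap k k'))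
  suffices IsLocallyNoetherian (pullback f g) from isLocallyNoetherian_of_isOpenImmersion h.isoPullback.hom
  rw [isLocallyNoetherian_iff_openCover (Scheme.Pullback.openCoverOfLeft X.affineOpenCover.openCover f g)]
  intro i
  change IsLocallyNoetherian (pullback (X.affineOpenCover.f i ≫ f) g)
  obtain ⟨φ, hφ⟩ := Spec.map_surjective (X.affineOpenCover.f i ≫ f)
  letI := φ.hom.toAlgebra
  haveI : IsNoetherianRing (X.affineOpenCover.X i) := by
    haveI : IsLocallyNoetherian (Spec (X.affineOpenCover.X i)) :=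
      isLocallyNoetherian_of_isOpenImmersion (X.affineOpenCover.f i)
    exact isLocallyNoetherian_Spec.1 inferInstance
  haveI : IsNoetherianRing (TensorProduct k (X.affineOpenCover.X i) k') := by
    haveI := GorensteinFieldExt.isNoetherianRing_baseChange k k' (X.affineOpenCover.X i) hfg
    exact isNoetherianRing_of_ringEquiv _ (Algebra.TensorProduct.comm k k' (X.affineOpenCover.X i)).toRingEquiv
  haveI : IsLocallyNoetherian (Spec (CommRingCat.of (TensorProduct k (X.affineOpenCover.X i) k'))) := inferInstance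
  exact isLocallyNoetherian_of_isOpenImmersion
    (pullback.congrHom (show X.affineOpenCover.f i ≫ f = Spec.map (CommRingCat.ofHom (algebraMap k (X.affineOpenCover.X i)))
      from hφ.symm) rfl ≪≫ pullbackSpecIso k (X.affineOpenCover.X i) k').hom

theorem fg_residueFieldMap {Y Y' : Scheme.{u}} (g : Y' ⟶ Y) [LocallyOfFiniteType g] (y' : Y') :
    letI := (g.residueFieldMap y').hom.toAlgebra
    ∃ s : Finset (Y'.residueField y'), IntermediateField.adjoin (Y.residueField (g y'))
      (s : Set (Y'.residueField y')) = ⊤ := by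
  letI := (g.residueFieldMap y').hom.toAlgebra
  letI : Algebra (Y.presheaf.stalk (g y')) (Y'.presheaf.stalk y') := (g.stalkMap y').hom.toAlgebra
  letI : Algebra (Y.presheaf.stalk (g y')) (Y.residueField (g y')) := (Y.residue (g y')).hom.toAlgebra
  letI : Algebra (Y'.presheaf.stalk y') (Y'.residueField y') := (Y'.residue y').hom.toAlgebra
  letI : Algebra (Y.presheaf.stalk (g y')) (Y'.residueField y') :=
    ((Y'.residue y').hom.comp (g.stalkMap y').hom).toAlgebra
  haveI : IsScalarTower (Y.presheaf.stalk (g y')) (Y'.presheaf.stalk y') (Y'.residueField y') :=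
    IsScalarTower.of_algebraMap_eq fun _ => rfl
  haveI : IsScalarTower (Y.presheaf.stalk (g y')) (Y.residueField (g y')) (Y'.residueField y') :=
    IsScalarTower.of_algebraMap_eq' (congrArg CommRingCat.Hom.hom (Scheme.residue_residueFieldMap g y').symm)
  haveI : Algebra.EssFiniteType (Y.presheaf.stalk (g y')) (Y'.presheaf.stalk y') :=
    RingHom.essFiniteType_algebraMap.mp (LocallyOfFiniteType.stalkMap g y')
  haveI : Algebra.FiniteType (Y'.presheaf.stalk y') (Y'.residueField y') :=
    RingHom.FiniteType.of_surjective (Y'.residue y').hom (Y'.residue_surjective y')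
  haveI : Algebra.EssFiniteType (Y.presheaf.stalk (g y')) (Y'.residueField y') :=
    Algebra.EssFiniteType.comp _ (Y'.presheaf.stalk y') _
  haveI : Algebra.EssFiniteType (Y.residueField (g y')) (Y'.residueField y') :=
    Algebra.EssFiniteType.of_comp (Y.presheaf.stalk (g y')) _ _
  exact IntermediateField.fg_top_iff.2 ‹_›

/-- The Gorenstein locus and base change by a morphism locally of finite type. -/
theorem isGorensteinAt_baseChange_fg {X Y X' Y' : Scheme.{u}} (f : X ⟶ Y) (g : Y' ⟶ Y) [LocallyOfFiniteType g]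
    (f' : X' ⟶ Y') (g' : X' ⟶ X) (hsq : IsPullback g' f' f g) [∀ y, IsLocallyNoetherian (f.fiber y)] (x' : X') :
    (Dual3.IsGorensteinAt f (g' x') → Dual3.IsGorensteinAt f' x') ∧
      ((f.stalkMap (g' x')).hom.Flat → Dual3.IsGorensteinAt f' x' → Dual3.IsGorensteinAt f (g' x')) ∧
      ((g.stalkMap (f' x')).hom.Flat → Dual3.IsGorensteinAt f' x' → Dual3.IsGorensteinAt f (g' x')) := by
  set y' := f' x'
  letI : Algebra (Y.residueField (g y')) (Y'.residueField y') := (g.residueFieldMap y').hom.toAlgebra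
  have hfg := fg_residueFieldMap g y'
  have sq := isPullback_fiberToSpecResidueField_of_isPullback hsq y'
  haveI := isLocallyNoetherian_of_fg hfg (f.fiberToSpecResidueField (g y')) sq
  have key := gorenstein_iff_of_isPullback (k := Y.residueField (g y')) (k' := Y'.residueField y')
    (f.fiberToSpecResidueField (g y')) sq (fun w => by
      letI := (Spec.preimage ((f.fiber (g y')).fromSpecResidueField w ≫ f.fiberToSpecResidueField (g y'))).hom.toAlgebra
      exact GorensteinFieldExt.locGor_tensor_field (Y.residueField (g y')) ((f.fiber (g y')).residueField w)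
        (Y'.residueField y') hfg) (f'.asFiber x')
  let m : f'.fiber y' ⟶ f.fiber (g y') := pullback.map f' (Y'.fromSpecResidueField y') f
    (Y.fromSpecResidueField (g y')) g' (Spec.map (g.residueFieldMap y')) g hsq.w.symm (by simp)
  have hmc : m ≫ f.fiberι (g y') = f'.fiberι y' ≫ g' := pullback.lift_fst _ _ _
  have hm : f.fiberι (g y') (m (f'.asFiber x')) = g' x' :=
    ((congrArg (fun t : f'.fiber y' ⟶ X => t (f'.asFiber x')) hmc).trans
      (congrArg g' (f'.fiberι_asFiber x')))
  letI := (f.stalkMap (g' x')).hom.toAlgebra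
  obtain ⟨e⟩ := Groth.L07.CIScheme.exists_fiberStalkEquiv f (g y') _ (g' x') hm
  have hG : LocCoh.IsGorensteinLocalRing ((f'.fiber y').presheaf.stalk (f'.asFiber x')) ↔
      LocCoh.IsGorensteinLocalRing ((f.fiber (f (g' x'))).presheaf.stalk (f.asFiber (g' x'))) :=
    key.trans ⟨fun h => (GorensteinScheme.gorenstein_fibre_iff f (g' x')).1
      (GorensteinAscend.isGorensteinLocalRing_of_ringEquiv e.symm h),
      fun h => GorensteinAscend.isGorensteinLocalRing_of_ringEquiv e
        ((GorensteinScheme.gorenstein_fibre_iff f (g' x')).2 h)⟩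
  refine ⟨fun h => ⟨flat_stalkMap_of_isPullback hsq x' h.1, hG.2 h.2⟩, fun hf h => ⟨hf, hG.1 h.2⟩,
    fun hg h => ⟨?_, hG.1 h.2⟩⟩
  have hg' : (g'.stalkMap x').hom.Flat := flat_stalkMap_of_isPullback hsq.flip x' hg
  have hc : ((g' ≫ f).stalkMap x').hom.Flat :=
    (Groth.L23.flat_stalkMap_congr hsq.w x').2 (Groth.L23.flat_stalkMap_comp f' g x' h.1 hg)
  exact Groth.L20.flat_stalkMap_of_comp g' f x' hc hg'

end Groth.L21.GorensteinBaseChange
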