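import Mathlib.Topology.KrullDimension
import Mathlib.Topology.Constructible
import Mathlib.Topology.NoetherianSpace
import Mathlib.Topology.Sober
import Mathlib.AlgebraicGeometry.Noetherian
import Mathlib.AlgebraicGeometry.Artinian
import Mathlib.AlgebraicGeometry.Limits
import Mathlib.AlgebraicGeometry.Morphisms.Finite
import Mathlib.RingTheory.Jacobson.Artinian

/-!
Topology of irreducible Noetherian one-dimensional spaces; finite discrete schemes over a field.
-/

set_option autoImplicit false
universe u

open TopologicalSpace Set Order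

namespace Groth.L21.CurveTop

variable {X : Type u} [TopologicalSpace X]

/-- In an irreducible space of dimension at most one, proper irreducible closed subsets are closed
points. -/
theorem exists_eq_singleton [NoetherianSpace X] [T0Space X] [IrreducibleSpace X]
    (hdim : topologicalKrullDim X ≤ 1) {C : Set X} (hC : IsClosed C) (hCi : IsIrreducible C)
    (hne : C ≠ univ) : ∃ x, C = {x} := by
  obtain ⟨x, hx, hxc⟩ := IsClosed.exists_closed_singleton hC hCi.nonempty
  refine ⟨x, ?_⟩
  by_contra h
  let C₀ : IrreducibleCloseds X := ⟨{x}, isIrreducible_singleton, hxc⟩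
  let C₁ : IrreducibleCloseds X := ⟨C, hCi, hC⟩
  let C₂ : IrreducibleCloseds X := ⟨univ, IrreducibleSpace.isIrreducible_univ X, isClosed_univ⟩
  have h01 : C₀ < C₁ := lt_of_le_of_ne (singleton_subset_iff.mpr hx)
    fun e => h (congrArg (fun Z : IrreducibleCloseds X => (Z : Set X)) e).symm
  have h12 : C₁ < C₂ := lt_of_le_of_ne (subset_univ C)
    fun e => hne (congrArg (fun Z : IrreducibleCloseds X => (Z : Set X)) e)
  have h2 := Order.LTSeries.length_le_krullDim
    (((RelSeries.singleton {(a, b) : IrreducibleCloseds X × IrreducibleCloseds X | a < b} C₀).snoc C₁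
      (by simpa using h01)).snoc C₂ (by simpa using h12))
  have h3 : ((2 : ℕ) : WithBot ℕ∞) ≤ (1 : ℕ) := by simpa using h2.trans hdim
  exact absurd (Nat.cast_le.mp h3) (by norm_num)

/-- In an irreducible Noetherian space of dimension at most one, proper closed subsets are finite sets
of closed points. -/
theorem finite_of_isClosed [NoetherianSpace X] [T0Space X] [IrreducibleSpace X]
    (hdim : topologicalKrullDim X ≤ 1) {Z : Set X} (hZ : IsClosed Z) (hne : Z ≠ univ) :
    Z.Finite ∧ ∀ x ∈ Z, IsClosed ({x} : Set X) := by
  obtain ⟨S, hS, hSc, hSi, hZS⟩ := NoetherianSpace.exists_finite_set_isClosed_irreducible hZ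
  have key : ∀ t ∈ S, ∃ x, t = {x} := fun t ht =>
    exists_eq_singleton hdim (hSc t ht) (hSi t ht) fun e => hne (eq_univ_of_univ_subset
      (e ▸ hZS.symm ▸ subset_sUnion_of_mem ht))
  refine ⟨hZS ▸ hS.sUnion fun t ht => ?_, fun x hx => ?_⟩
  · obtain ⟨x, rfl⟩ := key t ht
    exact finite_singleton x
  · rw [hZS] at hx
    obtain ⟨t, ht, hxt⟩ := hx
    obtain ⟨y, rfl⟩ := key t ht
    rw [mem_singleton_iff.mp hxt]
    exact hSc _ ht

/-- Constructible subsets of an irreducible Noetherian space of dimension at most one. -/
theorem finite_or_cofinite_of_isConstructible [NoetherianSpace X] [T0Space X] [IrreducibleSpace X]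
    (hdim : topologicalKrullDim X ≤ 1) {s : Set X} (hs : Topology.IsConstructible s) :
    (s.Finite ∧ ∀ x ∈ s, IsClosed ({x} : Set X)) ∨
      (sᶜ.Finite ∧ ∀ x ∈ sᶜ, IsClosed ({x} : Set X)) := by
  induction hs using Topology.IsConstructible.empty_union_induction with
  | open_retrocompact U hU _ =>
    rcases U.eq_empty_or_nonempty with rfl | hne
    · exact Or.inl ⟨finite_empty, fun x hx => hx.elim⟩
    · exact Or.inr (finite_of_isClosed hdim hU.isClosed_compl fun e =>
        hne.ne_empty (compl_univ_iff.mp e))
  | compl t ht h =>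
    rw [compl_compl]
    exact h.symm
  | union t ht t' ht' h h' =>
    rcases h with h | h
    · rcases h' with h' | h'
      · exact Or.inl ⟨h.1.union h'.1, fun x hx => hx.elim (h.2 x) (h'.2 x)⟩
      · exact Or.inr ⟨h'.1.subset (compl_subset_compl.mpr subset_union_right),
          fun x hx => h'.2 x (compl_subset_compl.mpr subset_union_right hx)⟩
    · exact Or.inr ⟨h.1.subset (compl_subset_compl.mpr subset_union_left),
        fun x hx => h.2 x (compl_subset_compl.mpr subset_union_left hx)⟩

open CategoryTheory AlgebraicGeometry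

/-- A finite discrete scheme of finite type over a field is finite over it. -/
theorem isFinite_of_discrete {k : Type u} [Field k] {G : Scheme.{u}}
    (g : G ⟶ Spec (CommRingCat.of k)) [LocallyOfFiniteType g] [Finite G] [DiscreteTopology G] :
    IsFinite g := by
  haveI : IsLocallyNoetherian G := LocallyOfFiniteType.isLocallyNoetherian g
  haveI : IsLocallyArtinian G := .of_isLocallyNoetherian_of_discreteTopology
  haveI : IsArtinianRing Γ(Spec (CommRingCat.of k), ⊤) :=
    ((Scheme.ΓSpecIso (CommRingCat.of k)).commRingCatIsoToRingEquiv.symm).isArtinianRing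
  rw [HasAffineProperty.iff_of_isAffine (P := @IsFinite)]
  refine ⟨inferInstance, ?_⟩
  have h := (HasRingHomProperty.iff_of_isAffine (P := @LocallyOfFiniteType)).mp ‹LocallyOfFiniteType g›
  algebraize [g.appTop.hom]
  exact Module.finite_of_isArtinianRing _ _

/-- A closed subscheme of an integral curve is either everything or finite over the field. -/
theorem isIso_or_isFinite {k : Type u} [Field k]
    {E G : Scheme.{u}} (f : E ⟶ Spec (CommRingCat.of k)) [LocallyOfFiniteType f] [QuasiCompact f]
    [IsIntegral E] (hdim : topologicalKrullDim ↥E ≤ 1) (ι : G ⟶ E) [IsClosedImmersion ι] :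
    IsIso ι ∨ IsFinite (ι ≫ f) := by
  by_cases hr : Set.range ι = Set.univ
  · haveI : Surjective ι := ⟨Set.range_eq_univ.mp hr⟩
    exact Or.inl (isIso_of_isClosedImmersion_of_surjective ι)
  · right
    haveI : IsLocallyNoetherian E := LocallyOfFiniteType.isLocallyNoetherian f
    haveI : CompactSpace E := QuasiCompact.compactSpace_of_compactSpace f
    haveI : IsNoetherian E := ⟨⟩
    obtain ⟨hfin, hcl⟩ := finite_of_isClosed hdim ι.isClosedEmbedding.isClosed_range hr
    haveI : Finite (Set.range ι) := hfin.to_subtype
    haveI : Finite G := Finite.of_injective (Set.rangeFactorization ι)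
      fun a b h => ι.isClosedEmbedding.injective (congrArg Subtype.val h)
    haveI : T1Space G := ⟨fun x => by
      rw [← Set.preimage_image_eq {x} ι.isClosedEmbedding.injective, Set.image_singleton]
      exact (hcl _ ⟨x, rfl⟩).preimage ι.isClosedEmbedding.continuous⟩
    exact isFinite_of_discrete (ι ≫ f)

end Groth.L21.CurveTop
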