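import Groth.Agent.L21.RR.PointPow
import Groth.Agent.L21.RR.Sections
import Groth.Agent.L21.Nodal.Node
import Groth.Agent.L21.Smooth.Scheme
import Groth.Prelude.Def_LinSer
import Mathlib.RingTheory.DiscreteValuationRing.Basic
import Mathlib.LinearAlgebra.Dimension.Constructions

/-!
The number of vanishing orders of a linear series at a point.
-/

set_option autoImplicit false
set_option backward.isDefEq.respectTransparency false
set_option linter.style.haveILetI false
universe u

open CategoryTheory AlgebraicGeometry IsLocalRing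

noncomputable section

namespace Groth.L21.VanOrders

/-- A space of elements of a discrete valuation ring with residue field `k` takes as many orders as
its dimension. -/
theorem ncard_orders (k O : Type u) [Field k] [CommRing O] [IsDomain O] [IsDiscreteValuationRing O] [Algebra k O]
    (hres : Function.Surjective (algebraMap k (ResidueField O))) {n : ℕ} (f : (Fin n → k) →ₗ[k] O)
    (hf : Function.Injective f) :
    Set.ncard ((fun c => Module.length O (O ⧸ Ideal.span {f c})) '' {c | c ≠ 0}) = n := by
  classical
  obtain ⟨π, hπ⟩ := IsDiscreteValuationRing.exists_irreducible O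
  have hm : maximalIdeal O = Ideal.span {π} := (IsDiscreteValuationRing.irreducible_iff_uniformizer π).1 hπ
  have hdec : ∀ c, c ≠ 0 → ∃ (m : ℕ) (u : Oˣ), f c = u * π ^ m := fun c hc =>
    IsDiscreteValuationRing.eq_unit_mul_pow_irreducible ((map_ne_zero_iff f hf).2 hc) hπ
  have hlen : ∀ (c : Fin n → k) (m : ℕ) (u : Oˣ), f c = u * π ^ m →
      Module.length O (O ⧸ Ideal.span {f c}) = m := by
    intro c m u h
    have : Ideal.span {f c} = maximalIdeal O ^ m := by
      rw [h, Ideal.span_singleton_mul_left_unit u.isUnit, hm, Ideal.span_singleton_pow]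
    rw [(Submodule.quotEquivOfEq _ _ this).length_eq, IsDiscreteValuationRing.length_quotient_pow_maximalIdeal]
  choose! ord un hord using hdec
  let S : Set ℕ := ord '' {c | c ≠ 0}
  have himg : (fun c => Module.length O (O ⧸ Ideal.span {f c})) '' {c | c ≠ 0} = (fun m : ℕ => (m : ℕ∞)) '' S := by
    rw [Set.image_image]
    exact Set.image_congr fun c hc => hlen c _ _ (hord c hc)
  rw [himg, Set.ncard_image_of_injective _ Nat.cast_injective]
  have hpick : ∀ m : S, ∃ c, c ≠ 0 ∧ ord c = m.1 := fun m => m.2
  choose p hp0 hpm using hpick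
  have hli : LinearIndependent k p := by
    rw [linearIndependent_iff']
    intro s g hg i hi
    by_contra hne
    let s' := s.filter fun j => g j ≠ 0
    have hs' : s'.Nonempty := ⟨i, Finset.mem_filter.2 ⟨hi, hne⟩⟩
    obtain ⟨j, hj, hmin⟩ := Finset.exists_min_image s' (fun j : S => j.1) hs'
    obtain ⟨hjs, hgj⟩ := Finset.mem_filter.1 hj
    have h0 := congrArg f hg
    rw [map_zero, map_sum, ← Finset.add_sum_erase s _ hjs] at h0
    have hdvd : π ^ (j.1 + 1) ∣ ∑ x ∈ s.erase j, f (g x • p x) := by
      refine Finset.dvd_sum fun x hx => ?_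
      obtain ⟨hxj, hxs⟩ := Finset.mem_erase.1 hx
      by_cases hgx : g x = 0
      · simp [hgx]
      · have hlt : j.1 < x.1 :=
          lt_of_le_of_ne (hmin x (Finset.mem_filter.2 ⟨hxs, hgx⟩)) fun h => hxj (Subtype.ext h.symm)
        rw [map_smul, hord _ (hp0 x), hpm x, Algebra.smul_def]
        exact ((pow_dvd_pow π hlt).mul_left _).mul_left _
    have hdvd' : π ^ (j.1 + 1) ∣ f (g j • p j) := by
      have h := hdvd.neg_right
      rwa [← eq_neg_of_add_eq_zero_left h0] at h
    rw [map_smul, hord _ (hp0 j), hpm j, Algebra.smul_def, ← mul_assoc, pow_succ,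
      mul_comm (π ^ j.1) π, mul_dvd_mul_iff_right (pow_ne_zero _ hπ.ne_zero)] at hdvd'
    refine hπ.not_isUnit (isUnit_of_dvd_unit hdvd' (IsUnit.mul ?_ (un _).isUnit))
    exact (isUnit_iff_ne_zero.2 hgj).map (algebraMap k O)
  haveI : Finite S := hli.finite
  haveI : Fintype S := Fintype.ofFinite S
  have hspan : ⊤ ≤ Submodule.span k (Set.range p) := by
    have key : ∀ (N : ℕ) (c : Fin n → k), c ≠ 0 → (Finset.univ.filter fun m : S => ord c ≤ m.1).card ≤ N →
        c ∈ Submodule.span k (Set.range p) := by
      intro N
      induction N with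
      | zero =>
        intro c hc hN
        have hmem : (⟨ord c, ⟨c, hc, rfl⟩⟩ : S) ∈ Finset.univ.filter fun m : S => ord c ≤ m.1 :=
          Finset.mem_filter.2 ⟨Finset.mem_univ _, le_rfl⟩
        have := Finset.card_pos.2 ⟨_, hmem⟩
        omega
      | succ N ih =>
        intro c hc hN
        let j : S := ⟨ord c, ⟨c, hc, rfl⟩⟩
        obtain ⟨a, ha⟩ := hres (residue O (((un c : Oˣ) : O) * ((un (p j))⁻¹ : Oˣ)))
        have hja : π ^ (ord c + 1) ∣ f (c - a • p j) := by
          have hr : ((un c : Oˣ) : O) - algebraMap k O a * (un (p j) : O) ∈ maximalIdeal O := by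
            rw [← residue_eq_zero_iff, map_sub, map_mul, show residue O (algebraMap k O a) = algebraMap k (ResidueField O) a
              from rfl, ha, map_mul, mul_assoc, ← map_mul, Units.inv_mul, map_one, mul_one, sub_self]
          rw [hm, Ideal.mem_span_singleton] at hr
          rw [map_sub, map_smul, hord _ hc, hord _ (hp0 j), hpm j, Algebra.smul_def, ← mul_assoc, ← sub_mul,
            pow_succ, mul_comm (π ^ ord c) π]
          exact mul_dvd_mul_right hr _
        by_cases h0 : c - a • p j = 0
        · rw [sub_eq_zero.1 h0]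
          exact Submodule.smul_mem _ _ (Submodule.subset_span ⟨j, rfl⟩)
        · have hlt : ord c < ord (c - a • p j) := by
            rw [hord _ h0] at hja
            have h1 := (pow_dvd_pow_iff hπ.ne_zero hπ.not_isUnit).1 ((Units.dvd_mul_left).1 hja)
            omega
          have hmem : c - a • p j ∈ Submodule.span k (Set.range p) := by
            refine ih _ h0 ?_
            have hsub : (Finset.univ.filter fun m : S => ord (c - a • p j) ≤ m.1) ⊆
                (Finset.univ.filter fun m : S => ord c ≤ m.1).erase j := by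
              intro m hm'
              have h2 := (Finset.mem_filter.1 hm').2
              refine Finset.mem_erase.2 ⟨fun h => ?_, Finset.mem_filter.2 ⟨Finset.mem_univ _, by omega⟩⟩
              subst h
              exact absurd h2 (not_le.2 hlt)
            have h3 := Finset.card_le_card hsub
            have hjm : j ∈ Finset.univ.filter fun m : S => ord c ≤ m.1 :=
              Finset.mem_filter.2 ⟨Finset.mem_univ _, le_rfl⟩
            have h4 := Finset.card_erase_lt_of_mem hjm
            omega
          have := Submodule.add_mem _ hmem (Submodule.smul_mem _ a (Submodule.subset_span (Set.mem_range_self (f := p) j)))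
          rwa [sub_add_cancel] at this
    intro c _
    by_cases hc : c = 0
    · rw [hc]; exact zero_mem _
    · exact key _ c hc le_rfl
  have := Module.finrank_eq_card_basis (Module.Basis.mk hli hspan)
  rw [Module.finrank_fin_fun, ← Nat.card_eq_fintype_card] at this
  exact (Nat.card_coe_set_eq S).symm.trans this.symm

variable {X : Scheme.{u}} [IsIntegral X]

/-- Germs of sections of invertible modules are injective on integral schemes. -/
theorem germ_injective {L : X.Modules} (hL : PicF.IsInvertible L) (p : X) :
    Function.Injective (L.presheaf.germ ⊤ p trivial) := by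
  refine (injective_iff_map_eq_zero _).2 fun (s : Γ(L, ⊤)) hs => ?_
  have key : ∀ z : X, L.presheaf.germ ⊤ z trivial s = 0 ↔ L.presheaf.germ ⊤ (genericPoint X) trivial s = 0 := by
    intro z
    obtain ⟨W, e, hz, he⟩ := Groth.L18.Frame.exists_frame hL z
    obtain ⟨a, ha⟩ := he.exists_coeff le_rfl (Groth.L18.Frame.rs L le_top s)
    rw [Groth.L18.Frame.rs_self] at ha
    have hη : genericPoint X ∈ W := ((genericPoint_spec X).specializes trivial).mem_open W.2 hz
    have hzero : ∀ (q : X) (hq : q ∈ W), L.presheaf.germ ⊤ q trivial s = 0 ↔ a = 0 := fun q hq => by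
      have h1 : L.presheaf.germ ⊤ q trivial s = X.presheaf.germ W q hq a • L.presheaf.germ W q hq e := by
        rw [← Groth.L20.ModStalk.germ_smul, ha, Groth.L20.ModStalk.germ_rs]
      rw [h1]
      constructor
      · intro h
        have h' := (Groth.L21.RR.bijective_germ_frame he hq).1 (h.trans (zero_smul (X.presheaf.stalk q) _).symm)
        exact germ_injective_of_isIntegral X q hq (h'.trans (map_zero _).symm)
      · rintro rfl
        rw [map_zero]
        exact zero_smul _ _
    exact (hzero z hz).trans (hzero _ hη).symm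
  refine TopCat.Presheaf.section_ext ⟨L.presheaf, L.isSheaf⟩ ⊤ s 0 fun z _ => ?_
  rw [map_zero]
  exact (key z).2 ((key p).1 hs)

/-- Vanishing orders of a linear series. -/
theorem ncard_vanishingOrders (k : Type u) [Field k] [IsAlgClosed k] [X.Over (Spec (CommRingCat.of k))]
    [IsProper (X ↘ Spec (CommRingCat.of k))] [Smooth (X ↘ Spec (CommRingCat.of k))] (hd : topologicalKrullDim X = 1)
    (L : X.Modules) (hL : PicF.IsInvertible L) {r : ℕ} (s : Fin (r + 1) → LinSer.Sect X L)
    (hs : LinSer.LinIndep k X L s) (p : X) (hp : IsClosed ({p} : Set X)) :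
    Set.ncard ((fun c : Fin (r + 1) → k =>
        Module.length (X.presheaf.stalk p)
          (↥(L.presheaf.stalk p) ⧸ Submodule.span (X.presheaf.stalk p)
            {(L.presheaf.germ ⊤ p trivial) (∑ i, (Coh.toGlobal (X ↘ Spec (CommRingCat.of k)) (c i)) • s i)})) ''
        {c : Fin (r + 1) → k | c ≠ 0}) = r + 1 := by
  letI := Curv2.stalkAlgebra k X p
  haveI := Groth.L21.RR.isDiscreteValuationRing_stalk hd hp (Groth.L21.Smooth.regular_stalk (X ↘ Spec (CommRingCat.of k)) p)
  obtain ⟨e, he⟩ := Groth.L21.RR.exists_frame_stalk hL p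
  let θ : X.presheaf.stalk p ≃ₗ[X.presheaf.stalk p] L.presheaf.stalk p :=
    LinearEquiv.ofBijective (LinearMap.toSpanSingleton (X.presheaf.stalk p) _ e) he
  let g : (Fin (r + 1) → k) → L.presheaf.stalk p := fun c =>
    L.presheaf.germ ⊤ p trivial (∑ i, (Coh.toGlobal (X ↘ Spec (CommRingCat.of k)) (c i)) • s i)
  have hgadd : ∀ c c', g (c + c') = g c + g c' := fun c c' => by
    show L.presheaf.germ ⊤ p trivial _ = _
    simp only [Pi.add_apply, map_add, add_smul, Finset.sum_add_distrib]
    rfl
  have hgsmul : ∀ (a : k) c, g (a • c) = algebraMap k (X.presheaf.stalk p) a • g c := fun a c => by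
    show L.presheaf.germ ⊤ p trivial _ = _
    simp only [Pi.smul_apply, smul_eq_mul, map_mul, mul_smul]
    refine Eq.trans (congrArg _ (Finset.smul_sum (r := (Coh.toGlobal (X ↘ Spec (CommRingCat.of k))) a)
      (f := fun i => (Coh.toGlobal (X ↘ Spec (CommRingCat.of k))) (c i) • s i) (s := Finset.univ)).symm) ?_
    exact Groth.L20.ModStalk.germ_smul (U := (⊤ : X.Opens)) L (x := p) trivial _ _
  let f : (Fin (r + 1) → k) →ₗ[k] X.presheaf.stalk p :=
    { toFun := fun c => θ.symm (g c)
      map_add' := fun c c' => by rw [hgadd, map_add]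
      map_smul' := fun a c => by rw [hgsmul, map_smul, RingHom.id_apply, algebraMap_smul] }
  have hf : Function.Injective f := by
    refine (injective_iff_map_eq_zero f).2 fun c hc => hs c ?_
    refine germ_injective hL p ?_
    rw [map_zero]
    exact θ.symm.map_eq_zero_iff.1 hc
  have hres : Function.Surjective (algebraMap k (ResidueField (X.presheaf.stalk p))) := fun z => by
    obtain ⟨c, hc⟩ := Groth.L21.Nodal.resMap_surjective (k := k) p hp z
    exact ⟨c, hc⟩
  refine Eq.trans (congrArg Set.ncard ?_) (ncard_orders k _ hres f hf)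
  refine Set.image_congr fun c _ => LinearEquiv.length_eq ?_
  refine Submodule.Quotient.equiv _ _ θ.symm ?_
  rw [Submodule.map_span, Set.image_singleton]
  rfl

end Groth.L21.VanOrders
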