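import Mathlib.AlgebraicGeometry.FunctionField
import Mathlib.AlgebraicGeometry.AffineScheme
import Mathlib.RingTheory.LocalProperties.IntegrallyClosed

/-!
Sections over affine opens of a normal integral scheme form integrally closed domains.
-/

set_option autoImplicit false
universe u

open CategoryTheory AlgebraicGeometry

namespace Groth.L21

theorem isIntegrallyClosed_of_normal {C : Scheme.{u}} [IsIntegral C]
    (hN : ∀ x : C, IsDomain (C.presheaf.stalk x) ∧ IsIntegrallyClosed (C.presheaf.stalk x))
    {V : C.Opens} (hV : IsAffineOpen V) [Nonempty V] : IsIntegrallyClosed Γ(C, V) := by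
  refine IsIntegrallyClosed.of_localization_maximal fun P _ hP => ?_
  let q : PrimeSpectrum Γ(C, V) := ⟨P, hP.isPrime⟩
  have hx : hV.fromSpec q ∈ V := by
    have : hV.fromSpec q ∈ Set.range hV.fromSpec := ⟨q, rfl⟩
    rwa [hV.range_fromSpec] at this
  letI := C.presheaf.algebra_section_stalk ⟨_, hx⟩
  have hl := hV.isLocalization_stalk ⟨_, hx⟩
  have hq : (hV.primeIdealOf ⟨_, hx⟩).asIdeal = P := by
    have h1 : hV.primeIdealOf ⟨_, hx⟩ = q :=
      hV.fromSpec.isOpenEmbedding.injective (hV.fromSpec_primeIdealOf ⟨_, hx⟩)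
    rw [h1]
  haveI : IsLocalization P.primeCompl (C.presheaf.stalk (hV.fromSpec q)) := by
    have hl' : IsLocalization (hV.primeIdealOf ⟨_, hx⟩).asIdeal.primeCompl (C.presheaf.stalk (hV.fromSpec q)) := hl
    convert hl' using 2
    exact hq.symm
  haveI := (hN (hV.fromSpec q)).1
  haveI := (hN (hV.fromSpec q)).2
  exact IsIntegrallyClosed.of_equiv
    (IsLocalization.algEquiv P.primeCompl (C.presheaf.stalk (hV.fromSpec q)) (Localization.AtPrime P)).toRingEquiv

end Groth.L21
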