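import Groth.Agent.L21.CurveMaps
import Groth.Agent.L21.NormalAffine
import Mathlib.AlgebraicGeometry.Morphisms.Flat
import Mathlib.RingTheory.Flat.TorsionFree
import Mathlib.RingTheory.DedekindDomain.Dvr

/-!
Nonconstant maps of integral one-dimensional schemes to normal ones are flat.
-/

set_option autoImplicit false
universe u

open CategoryTheory AlgebraicGeometry TopologicalSpace

namespace Groth.L21

/-- Sections over affine opens of a normal Noetherian integral curve form a Dedekind domain. -/
theorem isDedekindDomain_of_normal {C : Scheme.{u}} [IsIntegral C] [IsLocallyNoetherian C]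
    (hdim : topologicalKrullDim C ≤ 1)
    (hN : ∀ x : C, IsDomain (C.presheaf.stalk x) ∧ IsIntegrallyClosed (C.presheaf.stalk x))
    {V : C.Opens} (hV : IsAffineOpen V) [Nonempty V] : IsDedekindDomain Γ(C, V) := by
  haveI := isIntegrallyClosed_of_normal hN hV
  haveI : IsNoetherianRing Γ(C, V) := IsLocallyNoetherian.component_noetherian ⟨V, hV⟩
  haveI : Ring.KrullDimLE 1 Γ(C, V) := by
    rw [Ring.krullDimLE_iff]
    calc ringKrullDim Γ(C, V) = topologicalKrullDim (PrimeSpectrum Γ(C, V)) :=
        (PrimeSpectrum.topologicalKrullDim_eq_ringKrullDim Γ(C, V)).symm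
      _ ≤ topologicalKrullDim C := hV.fromSpec.isOpenEmbedding.isInducing.topologicalKrullDim_le
      _ ≤ _ := hdim
  haveI : Ring.DimensionLEOne Γ(C, V) :=
    ⟨fun hp hpp => hpp.isMaximal_of_ne_bot hp⟩
  exact { }

/-- The stalks of a normal Noetherian integral curve are Dedekind domains. -/
theorem isDedekindDomain_stalk_of_normal {C : Scheme.{u}} [IsIntegral C] [IsLocallyNoetherian C]
    (hdim : topologicalKrullDim C ≤ 1)
    (hN : ∀ x : C, IsDomain (C.presheaf.stalk x) ∧ IsIntegrallyClosed (C.presheaf.stalk x))
    (y : C) : IsDedekindDomain (C.presheaf.stalk y) := by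
  obtain ⟨V, hV, hy, -⟩ := exists_isAffineOpen_mem_and_subset (X := C) (U := ⊤) (Opens.mem_top y)
  haveI : Nonempty V := ⟨⟨y, hy⟩⟩
  haveI := isDedekindDomain_of_normal hdim hN hV
  letI := C.presheaf.algebra_section_stalk ⟨y, hy⟩
  haveI := hV.isLocalization_stalk ⟨y, hy⟩
  exact IsLocalization.isDedekindDomain Γ(C, V)
    (hV.primeIdealOf ⟨y, hy⟩).asIdeal.primeCompl_le_nonZeroDivisors _

/-- A nonconstant morphism from an integral scheme to a normal integral curve is flat. -/
theorem flat_of_nonconstant {X Y : Scheme.{u}} [IsIntegral X] [IsIntegral Y] [IsNoetherian Y]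
    (hY : topologicalKrullDim Y ≤ 1)
    (hN : ∀ y : Y, IsDomain (Y.presheaf.stalk y) ∧ IsIntegrallyClosed (Y.presheaf.stalk y))
    (f : X ⟶ Y) (hnc : (Set.range f.base).Nontrivial) : Flat f := by
  have hdom : f (genericPoint X) = genericPoint Y := by
    by_contra hne
    set c := f (genericPoint X)
    have hcl : IsClosed ({c} : Set Y) := by
      obtain ⟨z, hz⟩ := CurveTop.exists_eq_singleton hY isClosed_closure
        (isIrreducible_singleton (x := c)).closure (fun h => hne (((genericPoint_spec Y).eq (h : IsGenericPoint c Set.univ)).symm))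
      have : c = z := hz.subset (subset_closure rfl)
      exact this ▸ hz ▸ isClosed_closure
    obtain ⟨_, ⟨a, rfl⟩, _, ⟨b, rfl⟩, hab⟩ := hnc
    have h1 : ∀ a : X, f a = c := fun a =>
      Set.mem_singleton_iff.mp ((((genericPoint_spec X).specializes trivial).map f.continuous).mem_closed hcl (Set.mem_singleton c))
    exact hab ((h1 a).trans (h1 b).symm)
  rw [Flat.iff_flat_stalkMap]
  intro x
  haveI := isDedekindDomain_stalk_of_normal hY hN (f x)
  have key : ∀ z : Y, z = genericPoint Y → ∀ h : z ⤳ f x,
      Function.Injective (Y.presheaf.stalkSpecializes h) ∧ IsField (Y.presheaf.stalk z) := by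
    rintro z rfl h
    exact ⟨IsFractionRing.injective (Y.presheaf.stalk (f x)) Y.functionField, Field.toIsField Y.functionField⟩
  have hη : genericPoint X ⤳ x := (genericPoint_spec X).specializes trivial
  obtain ⟨hinj1, hfield⟩ := key _ hdom (f.base.hom.map_specializes hη)
  have hinj : Function.Injective (f.stalkMap x) := by
    intro a b hab
    apply hinj1
    letI := hfield.toField
    apply RingHom.injective (f.stalkMap (genericPoint X)).hom
    have h := congrArg (X.presheaf.stalkSpecializes hη) hab
    have hc := fun r => ConcreteCategory.congr_hom (f.stalkSpecializes_stalkMap _ _ hη) r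
    exact ((hc a).trans h).trans (hc b).symm
  letI := (f.stalkMap x).hom.toAlgebra
  haveI : Module.IsTorsionFree (Y.presheaf.stalk (f x)) (X.presheaf.stalk x) :=
    Module.isTorsionFree_iff_algebraMap_injective.mpr hinj
  exact (inferInstance : Module.Flat (Y.presheaf.stalk (f x)) (X.presheaf.stalk x))

end Groth.L21
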