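import Groth.Agent.L29.Dual.Gorenstein
import Mathlib.Algebra.Module.FinitePresentation
import Mathlib.Algebra.Category.ModuleCat.Ext.HasExt
import Mathlib.Algebra.Category.ModuleCat.Projective
import Mathlib.Algebra.Homology.DerivedCategory.Ext.ExactSequences
import Mathlib.RingTheory.TensorProduct.Quotient
import Mathlib.RingTheory.Flat.Basic

/-!
Vanishing of `Ext(M, A)` is preserved by flat base change; Gorenstein local rings ascend along flat local
homomorphisms with `m_A B = m_B`.
-/

set_option autoImplicit false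
set_option backward.isDefEq.respectTransparency false
universe u

open CategoryTheory Abelian IsLocalRing
open scoped TensorProduct

namespace Groth.L21.GorensteinAscend

variable {A : Type u} [CommRing A]

theorem subsingleton_ext_free (F : Type u) [AddCommGroup F] [Module A F] [Module.Free A F]
    (N : ModuleCat.{u} A) (i : ℕ) : Subsingleton (Ext (ModuleCat.of A F) N (i + 1)) := by
  haveI : Projective (ModuleCat.of A F) := ModuleCat.projective_of_free (Module.Free.chooseBasis A F)
  exact subsingleton_of_forall_eq 0 fun x => Ext.eq_zero_of_projective x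

/-- The short complex of a surjection. -/
noncomputable def kerComplex {F M : Type u} [AddCommGroup F] [Module A F] [AddCommGroup M] [Module A M]
    {K : Type u} [AddCommGroup K] [Module A K] (j : K →ₗ[A] F) (π : F →ₗ[A] M) (h : Function.Exact j π) :
    ShortComplex (ModuleCat.{u} A) :=
  ShortComplex.mk (ModuleCat.ofHom j) (ModuleCat.ofHom π) (by ext x; exact h.apply_apply_eq_zero x)

theorem kerComplex_shortExact {F M : Type u} [AddCommGroup F] [Module A F] [AddCommGroup M] [Module A M]
    {K : Type u} [AddCommGroup K] [Module A K] (j : K →ₗ[A] F) (π : F →ₗ[A] M) (h : Function.Exact j π)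
    (hj : Function.Injective j) (hπ : Function.Surjective π) : (kerComplex j π h).ShortExact :=
  { exact := by
      rw [ShortComplex.moduleCat_exact_iff]
      exact fun y hy => (h y).1 hy
    mono_f := (ModuleCat.mono_iff_injective _).2 hj
    epi_g := (ModuleCat.epi_iff_surjective _).2 hπ }

theorem subsingleton_ext_one_iff {F M K : Type u} [AddCommGroup F] [Module A F] [Module.Free A F]
    [AddCommGroup M] [Module A M] [AddCommGroup K] [Module A K] (j : K →ₗ[A] F) (π : F →ₗ[A] M)
    (h : Function.Exact j π) (hj : Function.Injective j) (hπ : Function.Surjective π)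
    (N : Type u) [AddCommGroup N] [Module A N] :
    Subsingleton (Ext (ModuleCat.of A M) (ModuleCat.of A N) 1) ↔ ∀ φ : K →ₗ[A] N, ∃ ψ : F →ₗ[A] N, ψ ∘ₗ j = φ := by
  have hS := kerComplex_shortExact j π h hj hπ
  constructor
  · intro hsub φ
    haveI := hsub
    obtain ⟨x, hx⟩ := Ext.contravariant_sequence_exact₁ hS (ModuleCat.of A N)
      (Ext.mk₀ (ModuleCat.ofHom φ)) (add_zero 1)
      (Subsingleton.elim (α := Ext (ModuleCat.of A M) (ModuleCat.of A N) 1) _ _)
    obtain ⟨g, rfl⟩ := Ext.addEquiv₀.symm.surjective x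
    rw [Ext.addEquiv₀_symm_apply, Ext.mk₀_comp_mk₀] at hx
    exact ⟨g.hom, congrArg ModuleCat.Hom.hom ((Ext.mk₀_bijective _ _).1 hx)⟩
  · intro hext
    refine subsingleton_of_forall_eq 0 fun x => ?_
    haveI := subsingleton_ext_free F (ModuleCat.of A N) 0
    obtain ⟨y, hy⟩ := Ext.contravariant_sequence_exact₃ hS (ModuleCat.of A N) x
      (Subsingleton.elim (α := Ext (ModuleCat.of A F) (ModuleCat.of A N) (0 + 1)) _ _) (add_zero 1)
    obtain ⟨φ, rfl⟩ := Ext.addEquiv₀.symm.surjective y
    obtain ⟨ψ, hψ⟩ := hext φ.hom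
    have hφ : φ = (kerComplex j π h).f ≫ ModuleCat.ofHom ψ := ModuleCat.hom_ext hψ.symm
    rw [← hy, Ext.addEquiv₀_symm_apply, hφ, ← Ext.mk₀_comp_mk₀]
    exact hS.extClass_comp_assoc _

theorem subsingleton_ext_succ_iff {F M K : Type u} [AddCommGroup F] [Module A F] [Module.Free A F]
    [AddCommGroup M] [Module A M] [AddCommGroup K] [Module A K] (j : K →ₗ[A] F) (π : F →ₗ[A] M)
    (h : Function.Exact j π) (hj : Function.Injective j) (hπ : Function.Surjective π)
    (N : ModuleCat.{u} A) (i : ℕ) :
    Subsingleton (Ext (ModuleCat.of A M) N (i + 2)) ↔ Subsingleton (Ext (ModuleCat.of A K) N (i + 1)) := by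
  have hS := kerComplex_shortExact j π h hj hπ
  haveI := subsingleton_ext_free F N i
  haveI := subsingleton_ext_free F N (i + 1)
  constructor
  · intro hsub
    refine subsingleton_of_forall_eq 0 fun x => ?_
    haveI := hsub
    obtain ⟨y, hy⟩ := Ext.contravariant_sequence_exact₁ hS N x (show 1 + (i + 1) = i + 2 by omega)
      (Subsingleton.elim (α := Ext (ModuleCat.of A M) N (i + 2)) _ _)
    rw [← hy, Subsingleton.elim (α := Ext (ModuleCat.of A F) N (i + 1)) y 0, Ext.comp_zero]
  · intro hsub
    refine subsingleton_of_forall_eq 0 fun x => ?_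
    haveI := hsub
    obtain ⟨y, hy⟩ := Ext.contravariant_sequence_exact₃ hS N x
      (Subsingleton.elim (α := Ext (ModuleCat.of A F) N (i + 1 + 1)) _ _) (show 1 + (i + 1) = i + 2 by omega)
    rw [← hy, Subsingleton.elim (α := Ext (ModuleCat.of A K) N (i + 1)) y 0, Ext.comp_zero]

theorem subsingleton_ext_baseChange [IsNoetherianRing A] (B : Type u) [CommRing B] [Algebra A B] [Module.Flat A B] :
    ∀ (i : ℕ) (M : Type u) [AddCommGroup M] [Module A M] [Module.Finite A M],
      Subsingleton (Ext (ModuleCat.of A M) (ModuleCat.of A A) (i + 1)) →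
        Subsingleton (Ext (ModuleCat.of B (B ⊗[A] M)) (ModuleCat.of B B) (i + 1)) := by
  intro i
  induction i with
  | zero =>
    intro M _ _ _ hM
    obtain ⟨n, π, hπ⟩ := Module.Finite.exists_fin' A M
    have hex : Function.Exact (LinearMap.ker π).subtype π := LinearMap.exact_subtype_ker_map π
    haveI : Module.FinitePresentation A (LinearMap.ker π) := Module.finitePresentation_of_finite A _
    rw [subsingleton_ext_one_iff _ π hex (Submodule.injective_subtype _) hπ] at hM
    rw [subsingleton_ext_one_iff ((LinearMap.ker π).subtype.baseChange B) (π.baseChange B)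
      (lTensor_exact B hex hπ) (Module.Flat.lTensor_preserves_injective_linearMap _ (Submodule.injective_subtype _))
      (LinearMap.lTensor_surjective B hπ) B]
    intro φ
    let r : B ⊗[A] A ≃ₗ[B] B := TensorProduct.AlgebraTensorModule.rid A B B
    obtain ⟨φ', hφ'⟩ : ∃ φ', φ' = r.symm.toLinearMap ∘ₗ φ := ⟨_, rfl⟩
    suffices ∃ ψ' : B ⊗[A] (Fin n → A) →ₗ[B] B ⊗[A] A, ψ' ∘ₗ (LinearMap.ker π).subtype.baseChange B = φ' by
      obtain ⟨ψ', hψ'⟩ := this
      refine ⟨r.toLinearMap ∘ₗ ψ', ?_⟩
      rw [LinearMap.comp_assoc, hψ', hφ', ← LinearMap.comp_assoc]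
      simp
    clear hφ'
    induction φ' using (Module.FinitePresentation.isBaseChange_map A (LinearMap.ker π) A B).inductionOn with
    | zero => exact ⟨0, LinearMap.zero_comp _⟩
    | tmul f =>
      obtain ⟨g, rfl⟩ := hM f
      exact ⟨g.baseChange B, (LinearMap.baseChange_comp _ _).symm⟩
    | smul b f ih =>
      obtain ⟨ψ', rfl⟩ := ih
      exact ⟨b • ψ', LinearMap.smul_comp _ _ _⟩
    | add f f' ih ih' =>
      obtain ⟨ψ', rfl⟩ := ih
      obtain ⟨ψ'', rfl⟩ := ih'
      exact ⟨ψ' + ψ'', LinearMap.add_comp _ _ _⟩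
  | succ i ih =>
    intro M _ _ _ hM
    obtain ⟨n, π, hπ⟩ := Module.Finite.exists_fin' A M
    have hex : Function.Exact (LinearMap.ker π).subtype π := LinearMap.exact_subtype_ker_map π
    rw [subsingleton_ext_succ_iff _ π hex (Submodule.injective_subtype _) hπ] at hM
    rw [subsingleton_ext_succ_iff ((LinearMap.ker π).subtype.baseChange B) (π.baseChange B)
      (lTensor_exact B hex hπ) (Module.Flat.lTensor_preserves_injective_linearMap _ (Submodule.injective_subtype _))
      (LinearMap.lTensor_surjective B hπ)]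
    exact ih _ hM

theorem isGorensteinLocalRing_of_map_maximalIdeal (A B : Type u) [CommRing A] [CommRing B] [Algebra A B]
    [IsLocalRing B] [IsNoetherianRing B] [Module.Flat A B] [hA : LocCoh.IsGorensteinLocalRing A]
    (h : (maximalIdeal A).map (algebraMap A B) = maximalIdeal B) : LocCoh.IsGorensteinLocalRing B := by
  obtain ⟨N, hN⟩ := (Groth.L29.Gorenstein.finite_injdim_iff (ModuleCat.of A A)).1 hA.exists_hasInjectiveDimensionLT
  refine ⟨(Groth.L29.Gorenstein.finite_injdim_iff (ModuleCat.of B B)).2 ⟨N + 1, fun i hi => ?_⟩⟩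
  obtain ⟨i, rfl⟩ : ∃ j, i = j + 1 := ⟨i - 1, by omega⟩
  haveI : Module.Finite A (ResidueField A) :=
    Module.Finite.of_surjective (Algebra.linearMap A (ResidueField A)) residue_surjective
  haveI := subsingleton_ext_baseChange (A := A) B i (ResidueField A) (hN (i + 1) (by omega))
  let e : ResidueField B ≃ₗ[B] B ⊗[A] ResidueField A :=
    (Submodule.quotEquivOfEq _ _ h.symm).trans
      (Algebra.TensorProduct.quotIdealMapEquivTensorQuot B (maximalIdeal A)).toLinearEquiv
  refine subsingleton_of_forall_eq 0 fun x => ?_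
  rw [← Ext.mk₀_id_comp x,
    show 𝟙 (ModuleCat.of B (ResidueField B)) = e.toModuleIso.hom ≫ e.toModuleIso.inv from (Iso.hom_inv_id _).symm,
    ← Ext.mk₀_comp_mk₀, Ext.comp_assoc_of_second_deg_zero,
    Subsingleton.elim (α := Ext (ModuleCat.of B (B ⊗[A] ResidueField A)) (ModuleCat.of B B) (i + 1))
      ((Ext.mk₀ e.toModuleIso.inv).comp x (zero_add _)) 0, Ext.comp_zero]

theorem isGorensteinLocalRing_of_ringEquiv {R R' : Type u} [CommRing R] [CommRing R'] (e : R ≃+* R')
    (h : LocCoh.IsGorensteinLocalRing R) : LocCoh.IsGorensteinLocalRing R' := by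
  haveI := h
  haveI : IsNoetherianRing R' := isNoetherianRing_of_ringEquiv R e
  haveI : IsLocalRing R' := e.isLocalRing
  letI := e.toRingHom.toAlgebra
  haveI : Module.Flat R R' := Module.Flat.of_linearEquiv
    (LinearEquiv.ofBijective (Algebra.linearMap R R') e.bijective).symm
  exact isGorensteinLocalRing_of_map_maximalIdeal R R'
    (IsLocalRing.map_maximalIdeal_of_surjective (algebraMap R R') e.surjective)

end Groth.L21.GorensteinAscend
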