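import Groth.Agent.L07.CIFibre
import Groth.Agent.L21.GorensteinFlat
import Groth.Agent.S0342
import Mathlib.RingTheory.RegularLocalRing.Polynomial
import Mathlib.FieldTheory.IntermediateField.Adjoin.Basic
import Mathlib.FieldTheory.IntermediateField.Adjoin.Algebra
import Mathlib.RingTheory.Localization.BaseChange
import Mathlib.RingTheory.TensorProduct.Quotient
import Mathlib.RingTheory.PolynomialAlgebra

/-! Gorenstein rings along field extensions and regular homomorphisms. -/

namespace Groth.L21.GorensteinFieldExt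

open IsLocalRing TensorProduct Polynomial

set_option autoImplicit false
set_option linter.style.haveILetI false
set_option maxSynthPendingDepth 3

universe u

/-- All local rings are Gorenstein. -/
def LocGor (A : Type u) [CommRing A] : Prop :=
  ∀ (p : Ideal A) [p.IsPrime], LocCoh.IsGorensteinLocalRing (Localization.AtPrime p)

theorem locGor_of_isLocalization {A B : Type u} [CommRing A] [IsNoetherianRing A] [CommRing B] [Algebra A B]
    (M : Submonoid A) [IsLocalization M B] (h : LocGor A) : LocGor B := by
  intro P _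
  haveI : IsNoetherianRing B := IsLocalization.isNoetherianRing M B inferInstance
  haveI : IsNoetherianRing (Localization.AtPrime P) := IsLocalization.isNoetherianRing P.primeCompl _ inferInstance
  let p := P.comap (algebraMap A B)
  haveI : IsNoetherianRing (Localization.AtPrime p) := IsLocalization.isNoetherianRing p.primeCompl _ inferInstance
  haveI : IsLocalization.AtPrime (Localization.AtPrime P) p :=
    IsLocalization.isLocalization_isLocalization_atPrime_isLocalization M (Localization.AtPrime P) P
  exact GorensteinAscend.isGorensteinLocalRing_of_ringEquiv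
    (IsLocalization.algEquiv p.primeCompl (Localization.AtPrime p) (Localization.AtPrime P)).toRingEquiv (h p)

theorem locGor_of_ringEquiv {A B : Type u} [CommRing A] [IsNoetherianRing A] [CommRing B] (e : A ≃+* B)
    (h : LocGor A) : LocGor B := by
  intro P _
  haveI : IsNoetherianRing B := isNoetherianRing_of_ringEquiv A e
  let p := P.comap e.toRingHom
  haveI : IsNoetherianRing (Localization.AtPrime P) := IsLocalization.isNoetherianRing P.primeCompl _ inferInstance
  haveI : IsNoetherianRing (Localization.AtPrime p) := IsLocalization.isNoetherianRing p.primeCompl _ inferInstance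
  refine GorensteinAscend.isGorensteinLocalRing_of_ringEquiv
    (IsLocalization.ringEquivOfRingEquiv (M := p.primeCompl) (T := P.primeCompl)
      (Localization.AtPrime p) (Localization.AtPrime P) e ?_) (h p)
  ext x
  refine ⟨?_, fun hx => ⟨e.symm x, ?_, e.apply_symm_apply x⟩⟩
  · rintro ⟨y, hy, rfl⟩
    exact hy
  · show e (e.symm x) ∉ P
    rwa [e.apply_symm_apply]

/-- The Gorenstein property along flat maps, locally. -/
theorem gorenstein_iff_of_flat {A B : Type u} [CommRing A] [IsNoetherianRing A] [CommRing B] [IsNoetherianRing B]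
    [Algebra A B] [Module.Flat A B] (Q : Ideal B) [Q.IsPrime] (q : Ideal A) [q.IsPrime] [Q.LiesOver q]
    (hfib : LocGor (q.Fiber B)) :
    LocCoh.IsGorensteinLocalRing (Localization.AtPrime Q) ↔ LocCoh.IsGorensteinLocalRing (Localization.AtPrime q) := by
  obtain ⟨i, hl, -, hf, P, hP, ⟨e⟩⟩ := Groth.L07.CIFibre.exists_local_map q Q
  letI := i
  haveI := hl
  haveI := hf
  haveI : IsNoetherianRing (Localization.AtPrime q) := IsLocalization.isNoetherianRing q.primeCompl _ inferInstance
  haveI : IsNoetherianRing (Localization.AtPrime Q) := IsLocalization.isNoetherianRing Q.primeCompl _ inferInstance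
  rw [GorensteinFlat.gorenstein_flat_local_iff (Localization.AtPrime q) (Localization.AtPrime Q)]
  exact ⟨fun h => h.1, fun h => ⟨h, GorensteinAscend.isGorensteinLocalRing_of_ringEquiv e (hfib P)⟩⟩

/-- The Gorenstein property is stable along flat maps with Gorenstein fibres. -/
theorem locGor_of_flat {A B : Type u} [CommRing A] [IsNoetherianRing A] [CommRing B] [IsNoetherianRing B]
    [Algebra A B] [Module.Flat A B] (hA : LocGor A)
    (hfib : ∀ (q : Ideal A) [q.IsPrime], LocGor (q.Fiber B)) : LocGor B := by
  intro Q _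
  haveI : Q.LiesOver (Q.comap (algebraMap A B)) := ⟨rfl⟩
  exact (gorenstein_iff_of_flat Q (Q.comap (algebraMap A B)) (hfib _)).2 (hA _)

theorem locGor_field (L : Type u) [Field L] : LocGor L := by
  intro p _
  haveI : IsRegularLocalRing (Localization.AtPrime p) := IsRegularRing.isRegularLocalRing_localization p
  exact Groth.Agent.S0342.result _

/-- Quotients of a polynomial ring in one variable over a field. -/
theorem locGor_poly_quot (L : Type u) [Field L] (g : L[X]) : LocGor (L[X] ⧸ Ideal.span {g}) := by
  intro P _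
  let π := Ideal.Quotient.mk (Ideal.span {g})
  let Q := P.comap π
  haveI : IsRegularLocalRing (Localization.AtPrime Q) := IsRegularRing.isRegularLocalRing_localization Q
  haveI : IsNoetherianRing (Localization.AtPrime P) := IsLocalization.isNoetherianRing P.primeCompl _ inferInstance
  let φ : Localization.AtPrime Q →+* Localization.AtPrime P := Localization.localRingHom Q P π rfl
  have hφ : Function.Surjective φ := by
    intro z
    obtain ⟨a, ⟨s, hs⟩, rfl⟩ := IsLocalization.exists_mk'_eq P.primeCompl z
    obtain ⟨a, rfl⟩ := Ideal.Quotient.mk_surjective a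
    obtain ⟨s, rfl⟩ := Ideal.Quotient.mk_surjective s
    exact ⟨IsLocalization.mk' _ a (⟨s, hs⟩ : Q.primeCompl), Localization.localRingHom_mk' Q P π rfl a ⟨s, hs⟩⟩
  have hker : RingHom.ker φ = Ideal.span {algebraMap L[X] (Localization.AtPrime Q) g} := by
    rw [← Set.image_singleton, ← Ideal.map_span]
    refine le_antisymm (fun z hz => ?_) (Ideal.map_le_iff_le_comap.mpr fun x hx => ?_)
    · obtain ⟨c, ⟨s, hs⟩, rfl⟩ := IsLocalization.exists_mk'_eq Q.primeCompl z
      rw [RingHom.mem_ker, Localization.localRingHom_mk', IsLocalization.mk'_eq_zero_iff] at hz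
      obtain ⟨⟨t, ht⟩, htc⟩ := hz
      obtain ⟨t, rfl⟩ := Ideal.Quotient.mk_surjective t
      rw [IsLocalization.mk'_mem_map_algebraMap_iff Q.primeCompl]
      exact ⟨t, ht, Ideal.Quotient.eq_zero_iff_mem.mp ((map_mul π t c).trans htc)⟩
    · rw [Ideal.mem_comap, RingHom.mem_ker, Localization.localRingHom_to_map,
        show π x = 0 from Ideal.Quotient.eq_zero_iff_mem.mpr hx, map_zero]
  haveI : LocCoh.IsGorensteinLocalRing (Localization.AtPrime Q) := Groth.Agent.S0342.result _
  refine GorensteinAscend.isGorensteinLocalRing_of_ringEquiv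
    ((Ideal.quotEquivOfEq hker.symm).trans (RingHom.quotientKerEquivOfSurjective hφ)) ?_
  by_cases hg : g = 0
  · refine GorensteinAscend.isGorensteinLocalRing_of_ringEquiv
      ((RingEquiv.quotientBot _).symm.trans (Ideal.quotEquivOfEq ?_)) ‹_›
    simp [hg]
  · haveI : IsDomain (Localization.AtPrime Q) :=
      IsLocalization.isDomain_localization (Ideal.primeCompl_le_nonZeroDivisors Q)
    refine (GorensteinQuotient.isGorensteinLocalRing_quotient_iff (Localization.AtPrime Q) _ ?_ ?_).1 ‹_›
    · refine (IsLocalization.AtPrime.to_map_mem_maximal_iff _ Q g).2 ?_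
      show π g ∈ P
      rw [show π g = 0 from Ideal.Quotient.eq_zero_iff_mem.mpr (Ideal.mem_span_singleton_self g)]
      exact zero_mem _
    · exact mem_nonZeroDivisors_of_ne_zero ((map_ne_zero_iff _
        (IsLocalization.injective _ (Ideal.primeCompl_le_nonZeroDivisors Q))).2 hg)

/-- Adjoining one element. -/
theorem locGor_adjoin_simple {F : Type u} [Field F] {K : Type u} [Field K] [Algebra F K] (x : K)
    (hK : IntermediateField.adjoin F {x} = ⊤) (R : Type u) [CommRing R] [Algebra F R] [IsNoetherianRing R]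
    (hR : LocGor R) : IsNoetherianRing (R ⊗[F] K) ∧ LocGor (R ⊗[F] K) := by
  obtain ⟨f, hf⟩ := IsPrincipalIdealRing.principal (RingHom.ker (aeval (R := F) x).toRingHom)
  let T := F[X] ⧸ Ideal.span {f}
  let ι : T →ₐ[F] K := Ideal.Quotient.liftₐ _ (aeval (R := F) x) fun a ha => hf.ge ha
  have hι : Function.Injective ι := by
    intro a b hab
    obtain ⟨a, rfl⟩ := Ideal.Quotient.mk_surjective a
    obtain ⟨b, rfl⟩ := Ideal.Quotient.mk_surjective b
    refine Ideal.Quotient.eq.mpr (hf.le ?_)
    show aeval x (a - b) = 0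
    rw [map_sub, sub_eq_zero]
    exact hab
  letI : Algebra T K := ι.toRingHom.toAlgebra
  haveI : IsScalarTower F T K := IsScalarTower.of_algebraMap_eq fun a => (ι.commutes a).symm
  haveI : FaithfulSMul T K := (faithfulSMul_iff_algebraMap_injective T K).mpr hι
  haveI : IsFractionRing T K := IsFractionRing.of_field T K fun z => by
    obtain ⟨r, s, rfl⟩ := (IntermediateField.mem_adjoin_simple_iff F z).mp (hK ▸ IntermediateField.mem_top)
    exact ⟨Ideal.Quotient.mk _ r, Ideal.Quotient.mk _ s, rfl⟩
  haveI : Algebra.FiniteType R (R ⊗[F] T) := inferInstance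
  haveI : IsNoetherianRing (R ⊗[F] T) := Algebra.FiniteType.isNoetherianRing R _
  have hRT : LocGor (R ⊗[F] T) := by
    refine locGor_of_flat hR fun q _ => ?_
    let κ := q.ResidueField
    let e₁ : q.Fiber (R ⊗[F] T) ≃+* κ ⊗[F] T :=
      (Algebra.TensorProduct.cancelBaseChange F R κ κ T).toRingEquiv
    let e₂ : κ ⊗[F] T ≃+* (κ ⊗[F] F[X]) ⧸ (Ideal.span {f}).map (Algebra.TensorProduct.includeRight (R := F) (A := κ)) :=
      (Algebra.TensorProduct.tensorQuotientEquiv (R := F) κ F[X] κ (Ideal.span {f})).toRingEquiv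
    let e₃ : κ[X] ≃+* κ ⊗[F] F[X] := (polyEquivTensor' F κ).toRingEquiv
    let e₄ : κ[X] ⧸ Ideal.span {e₃.symm (1 ⊗ₜ f)} ≃+*
        (κ ⊗[F] F[X]) ⧸ (Ideal.span {f}).map (Algebra.TensorProduct.includeRight (R := F) (A := κ)) :=
      Ideal.quotientEquiv _ _ e₃ (by
        rw [Ideal.map_span, Ideal.map_span, Set.image_singleton, Set.image_singleton,
          Algebra.TensorProduct.includeRight_apply]
        congr 2
        exact (e₃.apply_symm_apply _).symm)
    haveI : IsNoetherianRing (κ[X] ⧸ Ideal.span {e₃.symm ((1 : κ) ⊗ₜ[F] f)}) := inferInstance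
    exact locGor_of_ringEquiv (e₄.trans (e₂.symm.trans e₁.symm)) (locGor_poly_quot κ _)
  letI : Algebra (R ⊗[F] T) (R ⊗[F] K) :=
    (Algebra.TensorProduct.map (AlgHom.id R R) (IsScalarTower.toAlgHom F T K)).toRingHom.toAlgebra
  haveI : IsScalarTower R (R ⊗[F] T) (R ⊗[F] K) := IsScalarTower.of_algebraMap_eq fun r => by
    show r ⊗ₜ[F] (1 : K) = Algebra.TensorProduct.map (AlgHom.id R R) (IsScalarTower.toAlgHom F T K) (r ⊗ₜ 1)
    simp
  haveI := IsLocalization.tensorProduct_tensorProduct_right F R (nonZeroDivisors T) K (RingHom.ext fun t => by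
    show Algebra.TensorProduct.map (AlgHom.id R R) (IsScalarTower.toAlgHom F T K) (1 ⊗ₜ t) =
      (1 : R) ⊗ₜ[F] algebraMap T K t
    simp)
  exact ⟨IsLocalization.isNoetherianRing
    ((nonZeroDivisors T).map (Algebra.TensorProduct.includeRight (R := F) (A := R))) _ inferInstance,
    locGor_of_isLocalization ((nonZeroDivisors T).map (Algebra.TensorProduct.includeRight (R := F) (A := R))) hRT⟩

/-- Finitely generated field extensions. -/
theorem locGor_baseChange (k K R : Type u) [Field k] [Field K] [Algebra k K]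
    (hK : ∃ s : Finset K, IntermediateField.adjoin k (s : Set K) = ⊤) [CommRing R] [Algebra k R]
    [IsNoetherianRing R] (hR : LocGor R) : IsNoetherianRing (K ⊗[k] R) ∧ LocGor (K ⊗[k] R) := by
  obtain ⟨s, hs⟩ := hK
  suffices h : IsNoetherianRing ((IntermediateField.adjoin k (s : Set K)) ⊗[k] R) ∧
      LocGor ((IntermediateField.adjoin k (s : Set K)) ⊗[k] R) by
    haveI := h.1
    let e : (IntermediateField.adjoin k (s : Set K)) ⊗[k] R ≃+* K ⊗[k] R :=
      (Algebra.TensorProduct.congr ((IntermediateField.equivOfEq hs).trans IntermediateField.topEquiv)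
        AlgEquiv.refl).toRingEquiv
    exact ⟨isNoetherianRing_of_ringEquiv _ e, locGor_of_ringEquiv e h.2⟩
  refine IntermediateField.induction_on_adjoin_finset s
    (fun F => IsNoetherianRing (F ⊗[k] R) ∧ LocGor (F ⊗[k] R)) ?_ ?_
  · let e : R ≃+* (⊥ : IntermediateField k K) ⊗[k] R :=
      ((Algebra.TensorProduct.lid k R).symm.trans
        (Algebra.TensorProduct.congr (IntermediateField.botEquiv k K).symm AlgEquiv.refl)).toRingEquiv
    exact ⟨isNoetherianRing_of_ringEquiv _ e, locGor_of_ringEquiv e hR⟩
  · rintro F x - ⟨hn, hF⟩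
    haveI := hn
    let F' := IntermediateField.adjoin F {x}
    have htop : IntermediateField.adjoin F {(⟨x, IntermediateField.mem_adjoin_simple_self F x⟩ : F')} = ⊤ := by
      apply IntermediateField.map_injective F'.val
      rw [IntermediateField.adjoin_map, Set.image_singleton, ← AlgHom.fieldRange_eq_map, IntermediateField.fieldRange_val]
      rfl
    obtain ⟨h1, h2⟩ := locGor_adjoin_simple _ htop ((F : Type u) ⊗[k] R) hF
    haveI := h1
    let e : ((F : Type u) ⊗[k] R) ⊗[F] F' ≃+* (F'.restrictScalars k) ⊗[k] R :=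
      ((Algebra.TensorProduct.comm F ((F : Type u) ⊗[k] R) F').trans
        ((Algebra.TensorProduct.cancelBaseChange k F F F' R))).toRingEquiv
    exact ⟨isNoetherianRing_of_ringEquiv _ e, locGor_of_ringEquiv e h2⟩

theorem nonempty_fibre_equiv {k : Type u} [Field k] (R k' : Type u) [CommRing R] [Algebra k R] [Field k']
    [Algebra k k'] (p : Ideal R) [p.IsPrime] : Nonempty (p.Fiber (R ⊗[k] k') ≃+* p.ResidueField ⊗[k] k') :=
  ⟨(Algebra.TensorProduct.cancelBaseChange k R p.ResidueField p.ResidueField k').toRingEquiv⟩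

/-- Invariance of the Gorenstein property under a field extension, given Gorenstein fibres. -/
theorem gorenstein_iff_fieldExt {k : Type u} [Field k] (R k' : Type u) [CommRing R] [Algebra k R]
    [IsNoetherianRing R] [Field k'] [Algebra k k'] [IsNoetherianRing (R ⊗[k] k')]
    (hfib : ∀ (p : Ideal R) [p.IsPrime], IsNoetherianRing (p.ResidueField ⊗[k] k') ∧ LocGor (p.ResidueField ⊗[k] k'))
    (Q : Ideal (R ⊗[k] k')) [Q.IsPrime] (q : Ideal R) [q.IsPrime] [Q.LiesOver q] :
    LocCoh.IsGorensteinLocalRing (Localization.AtPrime Q) ↔ LocCoh.IsGorensteinLocalRing (Localization.AtPrime q) := by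
  haveI := (hfib q).1
  obtain ⟨e⟩ := nonempty_fibre_equiv (k := k) R k' q
  exact gorenstein_iff_of_flat Q q (locGor_of_ringEquiv e.symm (hfib q).2)

theorem isNoetherianRing_baseChange (k K R : Type u) [Field k] [Field K] [Algebra k K]
    (hK : ∃ s : Finset K, IntermediateField.adjoin k (s : Set K) = ⊤) [CommRing R] [Algebra k R]
    [IsNoetherianRing R] : IsNoetherianRing (K ⊗[k] R) := by
  haveI : Algebra.EssFiniteType k K := by
    obtain ⟨s, hs⟩ := hK
    exact IntermediateField.fg_top_iff.1 ⟨s, hs⟩
  haveI : IsNoetherianRing (R ⊗[k] K) := Algebra.EssFiniteType.isNoetherianRing R _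
  exact isNoetherianRing_of_ringEquiv _ (Algebra.TensorProduct.comm k R K).toRingEquiv

/-- Residue fields of algebras of finite type are finitely generated fields. -/
theorem exists_adjoin_residueField (k C : Type u) [Field k] [CommRing C] [Algebra k C] [Algebra.FiniteType k C]
    (p : Ideal C) [p.IsPrime] :
    ∃ s : Finset p.ResidueField, IntermediateField.adjoin k (s : Set p.ResidueField) = ⊤ := by
  haveI : Algebra.EssFiniteType k p.ResidueField := Algebra.EssFiniteType.comp k C _
  exact IntermediateField.fg_top_iff.2 ‹_›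

/-- Field extensions tensored with a finitely generated one. -/
theorem locGor_tensor_field (k K L : Type u) [Field k] [Field K] [Field L] [Algebra k K] [Algebra k L]
    (hL : ∃ s : Finset L, IntermediateField.adjoin k (s : Set L) = ⊤) :
    IsNoetherianRing (K ⊗[k] L) ∧ LocGor (K ⊗[k] L) := by
  obtain ⟨h1, h2⟩ := locGor_baseChange k L K hL (locGor_field K)
  haveI := h1
  exact ⟨isNoetherianRing_of_ringEquiv _ (Algebra.TensorProduct.comm k L K).toRingEquiv,
    locGor_of_ringEquiv (Algebra.TensorProduct.comm k L K).toRingEquiv h2⟩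

/-- Local statement: Gorenstein fibres composed with a regular fibre. -/
theorem isGorenstein_fibre_comp {A B C : Type u} [CommRing A] [CommRing B] [CommRing C]
    [IsLocalRing A] [IsLocalRing B] [IsLocalRing C]
    [Algebra A B] [Algebra B C] [Algebra A C] [IsScalarTower A B C] [IsLocalHom (algebraMap A B)]
    [IsLocalHom (algebraMap B C)] [Module.Flat B C] [IsLocalHom (algebraMap A C)]
    [IsNoetherianRing (EGA4.FibRing A B)] [IsNoetherianRing (EGA4.FibRing A C)]
    (hAB : LocCoh.IsGorensteinLocalRing (EGA4.FibRing A B))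
    (hBC : LocCoh.IsGorensteinLocalRing (EGA4.FibRing B C)) :
    LocCoh.IsGorensteinLocalRing (EGA4.FibRing A C) := by
  let Bb := EGA4.FibRing A B
  let Cb := EGA4.FibRing A C
  have hmap : (EGA4.mB A B).map (algebraMap B C) = EGA4.mB A C := by
    show ((maximalIdeal A).map _).map _ = (maximalIdeal A).map _
    rw [Ideal.map_map, ← IsScalarTower.algebraMap_eq]
  let f : Bb →+* Cb := Ideal.quotientMap (EGA4.mB A C) (algebraMap B C) (Ideal.map_le_iff_le_comap.mp hmap.le)
  letI : Algebra Bb Cb := f.toAlgebra
  haveI : IsScalarTower B Bb Cb := IsScalarTower.of_algebraMap_eq fun _ => rfl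
  haveI : IsLocalHom (algebraMap Bb Cb) := ⟨fun x hx => by
    obtain ⟨x, rfl⟩ := Ideal.Quotient.mk_surjective x
    have h1 : IsUnit (Ideal.Quotient.mk (EGA4.mB A C) (algebraMap B C x)) := hx
    haveI : IsLocalHom (Ideal.Quotient.mk (EGA4.mB A C)) := IsLocalHom.of_surjective _ Ideal.Quotient.mk_surjective
    exact ((isUnit_map_iff (algebraMap B C) x).mp ((isUnit_map_iff _ _).mp h1)).map _⟩
  haveI : Module.Flat Bb Cb := Groth.L07.RegFlat.flat_quotient (B := B) (N := C) (EGA4.mB A B) Ideal.Quotient.mk_surjective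
    Ideal.mk_ker (N' := Cb) (Ideal.Quotient.mkₐ B (EGA4.mB A C)).toLinearMap Ideal.Quotient.mk_surjective (by
      rw [Ideal.smul_top_eq_map, hmap]
      ext c
      exact Ideal.Quotient.eq_zero_iff_mem)
  refine (GorensteinFlat.gorenstein_flat_local_iff Bb Cb).mpr ⟨hAB, ?_⟩
  haveI : IsNoetherianRing (EGA4.FibRing Bb Cb) := inferInstanceAs (IsNoetherianRing (Cb ⧸ EGA4.mB Bb Cb))
  have h1 : EGA4.mB Bb Cb = (EGA4.mB B C).map (Ideal.Quotient.mk (EGA4.mB A C)) := by
    show (maximalIdeal Bb).map f = ((maximalIdeal B).map _).map _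
    rw [← IsLocalRing.map_maximalIdeal_of_surjective (Ideal.Quotient.mk (EGA4.mB A B)) Ideal.Quotient.mk_surjective,
      Ideal.map_map, Ideal.map_map]
    rfl
  have h2 : EGA4.mB A C ≤ EGA4.mB B C := by
    rw [← hmap]
    exact Ideal.map_mono (IsLocalRing.map_maximalIdeal_le (algebraMap A B))
  haveI : IsNoetherianRing (EGA4.FibRing B C) :=
    isNoetherianRing_of_ringEquiv _ ((Ideal.quotEquivOfEq h1).trans (DoubleQuot.quotQuotEquivQuotOfLE h2))
  exact GorensteinAscend.isGorensteinLocalRing_of_ringEquiv
    ((Ideal.quotEquivOfEq h1).trans (DoubleQuot.quotQuotEquivQuotOfLE h2)).symm hBC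

/-- Fibre rings of a Noetherian algebra are Noetherian. -/
theorem isNoetherianRing_fibreRing {A B : Type u} [CommRing A] [CommRing B] [Algebra A B] [IsNoetherianRing B]
    (q : Ideal A) [q.IsPrime] : IsNoetherianRing (q.Fiber B) := by
  haveI : IsNoetherianRing (B ⊗[A] q.ResidueField) := Algebra.EssFiniteType.isNoetherianRing B _
  exact isNoetherianRing_of_ringEquiv _ (Algebra.TensorProduct.comm A B q.ResidueField).toRingEquiv

end Groth.L21.GorensteinFieldExt
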