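import Groth.Agent.L07.CIScheme
import Groth.Agent.L21.GorensteinFieldExt
import Groth.Prelude.Def_Dual3
import Groth.Agent.S6281

/-! Gorenstein morphisms of schemes. -/

set_option autoImplicit false
set_option linter.style.haveILetI false
universe u

open CategoryTheory CategoryTheory.Limits AlgebraicGeometry IsLocalRing

namespace Groth.L21.GorensteinScheme

theorem gorenstein_fibre_comp_iff {A B C : Type u} [CommRing A] [CommRing B] [CommRing C]
    [IsLocalRing A] [IsLocalRing B] [IsLocalRing C]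
    [Algebra A B] [Algebra B C] [Algebra A C] [IsScalarTower A B C] [IsLocalHom (algebraMap A B)]
    [IsLocalHom (algebraMap B C)] [Module.Flat B C] [IsLocalHom (algebraMap A C)]
    [IsNoetherianRing (EGA4.FibRing A B)] [IsNoetherianRing (EGA4.FibRing A C)] :
    LocCoh.IsGorensteinLocalRing (EGA4.FibRing A C) ↔
      LocCoh.IsGorensteinLocalRing (EGA4.FibRing A B) ∧ LocCoh.IsGorensteinLocalRing (EGA4.FibRing B C) := by
  let Bb := EGA4.FibRing A B
  let Cb := EGA4.FibRing A C
  have hmap : (EGA4.mB A B).map (algebraMap B C) = EGA4.mB A C := by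
    show ((maximalIdeal A).map _).map _ = (maximalIdeal A).map _
    rw [Ideal.map_map, ← IsScalarTower.algebraMap_eq]
  let f : Bb →+* Cb := Ideal.quotientMap (EGA4.mB A C) (algebraMap B C) (Ideal.map_le_iff_le_comap.mp hmap.le)
  letI : Algebra Bb Cb := f.toAlgebra
  haveI : IsScalarTower B Bb Cb := IsScalarTower.of_algebraMap_eq fun _ => rfl
  haveI : IsLocalHom (algebraMap Bb Cb) := ⟨fun x hx => by
    obtain ⟨x, rfl⟩ := Ideal.Quotient.mk_surjective x
    have h1 : IsUnit (Ideal.Quotient.mk (EGA4.mB A C) (algebraMap B C x)) := hx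
    haveI : IsLocalHom (Ideal.Quotient.mk (EGA4.mB A C)) := IsLocalHom.of_surjective _ Ideal.Quotient.mk_surjective
    exact ((isUnit_map_iff (algebraMap B C) x).mp ((isUnit_map_iff _ _).mp h1)).map _⟩
  haveI : Module.Flat Bb Cb := Groth.L07.RegFlat.flat_quotient (B := B) (N := C) (EGA4.mB A B) Ideal.Quotient.mk_surjective
    Ideal.mk_ker (N' := Cb) (Ideal.Quotient.mkₐ B (EGA4.mB A C)).toLinearMap Ideal.Quotient.mk_surjective (by
      rw [Ideal.smul_top_eq_map, hmap]
      ext c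
      exact Ideal.Quotient.eq_zero_iff_mem)
  have h1 : EGA4.mB Bb Cb = (EGA4.mB B C).map (Ideal.Quotient.mk (EGA4.mB A C)) := by
    show (maximalIdeal Bb).map f = ((maximalIdeal B).map _).map _
    rw [← IsLocalRing.map_maximalIdeal_of_surjective (Ideal.Quotient.mk (EGA4.mB A B)) Ideal.Quotient.mk_surjective,
      Ideal.map_map, Ideal.map_map]
    rfl
  have h2 : EGA4.mB A C ≤ EGA4.mB B C := by
    rw [← hmap]
    exact Ideal.map_mono (IsLocalRing.map_maximalIdeal_le (algebraMap A B))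
  rw [GorensteinFlat.gorenstein_flat_local_iff Bb Cb]
  refine and_congr Iff.rfl ⟨GorensteinAscend.isGorensteinLocalRing_of_ringEquiv
    ((Ideal.quotEquivOfEq h1).trans (DoubleQuot.quotQuotEquivQuotOfLE h2)), ?_⟩
  exact GorensteinAscend.isGorensteinLocalRing_of_ringEquiv
    ((Ideal.quotEquivOfEq h1).trans (DoubleQuot.quotQuotEquivQuotOfLE h2)).symm

variable {X Y : Scheme.{u}}

/-- The fibre ring at a point of the source. -/
theorem gorenstein_fibre_iff (f : X ⟶ Y) (x : X) :
    letI := (f.stalkMap x).hom.toAlgebra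
    LocCoh.IsGorensteinLocalRing (EGA4.FibRing (Y.presheaf.stalk (f x)) (X.presheaf.stalk x)) ↔
      LocCoh.IsGorensteinLocalRing ((f.fiber (f x)).presheaf.stalk (f.asFiber x)) := by
  letI := (f.stalkMap x).hom.toAlgebra
  obtain ⟨e⟩ := Groth.L07.CIScheme.exists_fiberStalkEquiv f (f x) (f.asFiber x) x (f.fiberι_asFiber x)
  exact ⟨GorensteinAscend.isGorensteinLocalRing_of_ringEquiv e,
    GorensteinAscend.isGorensteinLocalRing_of_ringEquiv e.symm⟩

theorem isNoetherianRing_fibRing (f : X ⟶ Y) (x : X) [IsLocallyNoetherian (f.fiber (f x))] :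
    letI := (f.stalkMap x).hom.toAlgebra
    IsNoetherianRing (EGA4.FibRing (Y.presheaf.stalk (f x)) (X.presheaf.stalk x)) := by
  letI := (f.stalkMap x).hom.toAlgebra
  obtain ⟨e⟩ := Groth.L07.CIScheme.exists_fiberStalkEquiv f (f x) (f.asFiber x) x (f.fiberι_asFiber x)
  exact isNoetherianRing_of_ringEquiv _ e.symm

theorem of_flat_of_isGorenstein [IsLocallyNoetherian Y] (f : X ⟶ Y) [Flat f] (hX : Dual3.IsGorenstein X) (x : X) :
    Dual3.IsGorensteinAt f x ∧ LocCoh.IsGorensteinLocalRing (Y.presheaf.stalk (f x)) := by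
  haveI := hX.1
  letI := (f.stalkMap x).hom.toAlgebra
  haveI : Module.Flat (Y.presheaf.stalk (f x)) (X.presheaf.stalk x) := Flat.stalkMap f x
  haveI : IsLocalHom (algebraMap (Y.presheaf.stalk (f x)) (X.presheaf.stalk x)) :=
    inferInstanceAs (IsLocalHom (f.stalkMap x).hom)
  obtain ⟨hA, hC⟩ := (GorensteinFlat.gorenstein_flat_local_iff (Y.presheaf.stalk (f x)) (X.presheaf.stalk x)).1 (hX.2 x)
  exact ⟨⟨Flat.stalkMap f x, (gorenstein_fibre_iff f x).1 hC⟩, hA⟩

variable {Z : Scheme.{u}}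

theorem isGorensteinAt_comp (f : X ⟶ Y) (g : Y ⟶ Z) [∀ y, IsLocallyNoetherian (f.fiber y)]
    [∀ z, IsLocallyNoetherian (g.fiber z)] [∀ z, IsLocallyNoetherian ((f ≫ g).fiber z)] (x : X) :
    (Dual3.IsGorensteinAt f x → Dual3.IsGorensteinAt g (f x) → Dual3.IsGorensteinAt (f ≫ g) x) ∧
      (Dual3.IsGorensteinAt (f ≫ g) x → (f.stalkMap x).hom.Flat →
        Dual3.IsGorensteinAt f x ∧ Dual3.IsGorensteinAt g (f x)) := by
  let A := Z.presheaf.stalk (g (f x))
  let B := Y.presheaf.stalk (f x)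
  let C := X.presheaf.stalk x
  letI iAB : Algebra A B := (g.stalkMap (f x)).hom.toAlgebra
  letI iBC : Algebra B C := (f.stalkMap x).hom.toAlgebra
  letI iAC : Algebra A C := ((f ≫ g).stalkMap x).hom.toAlgebra
  haveI : IsScalarTower A B C := IsScalarTower.of_algebraMap_eq' (by
    show ((f ≫ g).stalkMap x).hom = _
    rw [Scheme.Hom.stalkMap_comp]
    rfl)
  haveI : IsLocalHom (algebraMap A B) := inferInstanceAs (IsLocalHom (g.stalkMap (f x)).hom)
  haveI : IsLocalHom (algebraMap B C) := inferInstanceAs (IsLocalHom (f.stalkMap x).hom)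
  haveI : IsLocalHom (algebraMap A C) := inferInstanceAs (IsLocalHom ((f ≫ g).stalkMap x).hom)
  haveI : IsNoetherianRing (EGA4.FibRing A B) := isNoetherianRing_fibRing g (f x)
  haveI : IsNoetherianRing (EGA4.FibRing A C) := isNoetherianRing_fibRing (f ≫ g) x
  constructor
  · rintro ⟨hf, hGf⟩ ⟨hg, hGg⟩
    haveI : Module.Flat B C := hf
    haveI : Module.Flat A B := hg
    refine ⟨Module.Flat.trans A B C, (gorenstein_fibre_iff (f ≫ g) x).1 ?_⟩
    exact (gorenstein_fibre_comp_iff (A := A) (B := B) (C := C)).2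
      ⟨(gorenstein_fibre_iff g (f x)).2 hGg, (gorenstein_fibre_iff f x).2 hGf⟩
  · rintro ⟨hfg, hG⟩ hf
    haveI : Module.Flat B C := hf
    haveI : Module.Flat A C := hfg
    haveI : Module.FaithfullyFlat B C := Module.FaithfullyFlat.of_flat_of_isLocalHom
    obtain ⟨h1, h2⟩ := (gorenstein_fibre_comp_iff (A := A) (B := B) (C := C)).1
      ((gorenstein_fibre_iff (f ≫ g) x).2 hG)
    exact ⟨⟨hf, (gorenstein_fibre_iff f x).1 h2⟩,
      ⟨Groth.Agent.S6281.result (R := A) (S := B) C, (gorenstein_fibre_iff g (f x)).1 h1⟩⟩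

end Groth.L21.GorensteinScheme
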