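import Groth.Agent.L21.KoszulRegular
import Groth.Agent.L21.GorensteinScheme
import Groth.Prelude.Def_LCI2
import Mathlib.RingTheory.RegularLocalRing.Polynomial

/-! Local complete intersections over Gorenstein rings are Gorenstein. -/

set_option autoImplicit false
set_option linter.style.haveILetI false
set_option maxSynthPendingDepth 3
universe u

open IsLocalRing RingTheory.Sequence TensorProduct

namespace Groth.L21.GorensteinLCI

open GorensteinFieldExt

theorem gorenstein_quot_list : ∀ (L : Type u) [CommRing L] [LocCoh.IsGorensteinLocalRing L] (rs : List L),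
    (∀ r ∈ rs, r ∈ maximalIdeal L) → IsWeaklyRegular L rs → LocCoh.IsGorensteinLocalRing (L ⧸ Ideal.ofList rs) := by
  intro L _ hL rs
  induction hn : rs.length generalizing L with
  | zero =>
    intro _ _
    obtain rfl := List.length_eq_zero_iff.1 hn
    exact GorensteinAscend.isGorensteinLocalRing_of_ringEquiv
      ((RingEquiv.quotientBot L).symm.trans (Ideal.quotEquivOfEq Ideal.ofList_nil.symm)) hL
  | succ n ih =>
    intro hm hr
    obtain ⟨x, rs, rfl⟩ : ∃ x t, rs = x :: t := List.exists_cons_of_length_eq_add_one hn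
    rw [isWeaklyRegular_cons_iff] at hr
    have hx : x ∈ maximalIdeal L := hm x List.mem_cons_self
    have hxr : x ∈ nonZeroDivisors L := mem_nonZeroDivisors_iff.2
      ⟨fun z hz => hr.1 (by simpa using hz), fun z hz => hr.1 (by simpa [mul_comm] using hz)⟩
    haveI : LocCoh.IsGorensteinLocalRing (L ⧸ Ideal.span {x}) :=
      (GorensteinQuotient.isGorensteinLocalRing_quotient_iff L x hx hxr).1 hL
    have hr' : IsWeaklyRegular (L ⧸ Ideal.span {x}) (rs.map (Ideal.Quotient.mk (Ideal.span {x}))) := by
      rw [← Ideal.Quotient.algebraMap_eq, isWeaklyRegular_map_algebraMap_iff]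
      refine (LinearEquiv.isWeaklyRegular_congr (Submodule.quotEquivOfEq _ _ ?_) rs).1 hr.2
      rw [← Submodule.ideal_span_singleton_smul, smul_eq_mul, Ideal.mul_top]
    have h := ih (L ⧸ Ideal.span {x}) (rs.map (Ideal.Quotient.mk _)) (by simpa using hn) (fun r hr => by
      obtain ⟨r, hr', rfl⟩ := List.mem_map.1 hr
      rw [← IsLocalRing.map_maximalIdeal_of_surjective (Ideal.Quotient.mk (Ideal.span {x})) Ideal.Quotient.mk_surjective]
      exact Ideal.mem_map_of_mem _ (hm r (List.mem_cons_of_mem x hr'))) hr'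
    refine GorensteinAscend.isGorensteinLocalRing_of_ringEquiv
      ((Ideal.quotEquivOfEq ?_).trans ((DoubleQuot.quotQuotEquivQuotSup _ _).trans
        (Ideal.quotEquivOfEq (Ideal.ofList_cons x rs).symm))) h
    rw [Ideal.map_ofList]

theorem locGor_mvPolynomial {A : Type u} [CommRing A] [IsNoetherianRing A] (hA : LocGor A) (n : ℕ) :
    LocGor (MvPolynomial (Fin n) A) := by
  refine locGor_of_flat hA fun q _ => ?_
  refine locGor_of_ringEquiv (A := MvPolynomial (Fin n) q.ResidueField)
    (MvPolynomial.algebraTensorAlgEquiv A q.ResidueField).symm.toRingEquiv ?_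
  intro p _
  haveI : IsRegularLocalRing (Localization.AtPrime p) := IsRegularRing.isRegularLocalRing_localization p
  exact Groth.Agent.S0342.result _

theorem gorenstein_quot_of_koszulRegular {P : Type u} [CommRing P] [IsNoetherianRing P] (hP : LocGor P) (I : Ideal P)
    (hI : LCI.IsKoszulRegularIdeal I) (Q : Ideal (P ⧸ I)) [Q.IsPrime] :
    LocCoh.IsGorensteinLocalRing (Localization.AtPrime Q) := by
  let 𝔭 := Q.comap (Ideal.Quotient.mk I)
  obtain ⟨g, hg, l, hl, hmap⟩ := hI ⟨𝔭, inferInstance⟩ fun x hx => by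
    show Ideal.Quotient.mk I x ∈ Q
    rw [Ideal.Quotient.eq_zero_iff_mem.2 hx]
    exact zero_mem _
  let 𝔮 := 𝔭.map (algebraMap P (Localization.Away g))
  have hdisj : Disjoint ((Submonoid.powers g : Submonoid P) : Set P) (𝔭 : Set P) := by
    rw [Set.disjoint_left]
    rintro x ⟨m, rfl⟩ hx
    exact hg (Ideal.IsPrime.mem_of_pow_mem inferInstance m hx)
  haveI : 𝔮.IsPrime := IsLocalization.isPrime_of_isPrime_disjoint (Submonoid.powers g) _ 𝔭 inferInstance hdisj
  have hcomap : 𝔮.comap (algebraMap P (Localization.Away g)) = 𝔭 :=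
    IsLocalization.comap_map_of_isPrime_disjoint (Submonoid.powers g) _ inferInstance hdisj
  let L := Localization.AtPrime 𝔮
  haveI : IsNoetherianRing (Localization.Away g) := IsLocalization.isNoetherianRing (Submonoid.powers g) _ inferInstance
  haveI hloc : IsLocalization.AtPrime L 𝔭 := by
    have := IsLocalization.isLocalization_isLocalization_atPrime_isLocalization (Submonoid.powers g) L 𝔮
    simp only [hcomap] at this
    exact this
  haveI : LocCoh.IsGorensteinLocalRing L := GorensteinAscend.isGorensteinLocalRing_of_ringEquiv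
    (IsLocalization.algEquiv 𝔭.primeCompl (Localization.AtPrime 𝔭) L).toRingEquiv (hP 𝔭)
  have hlq : ∀ x ∈ l, x ∈ 𝔮 := fun x hx => by
    have : x ∈ I.map (algebraMap P (Localization.Away g)) := hmap ▸ Ideal.subset_span hx
    refine Ideal.map_mono (fun z hz => ?_) this
    show Ideal.Quotient.mk I z ∈ Q
    rw [Ideal.Quotient.eq_zero_iff_mem.2 hz]
    exact zero_mem _
  have hreg := KoszulRegular.isWeaklyRegular_localization 𝔮 l hlq fun i hi y => by
    haveI := ModuleCat.subsingleton_of_isZero (hl i hi.ne)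
    exact ⟨1, fun h => (inferInstance : 𝔮.IsPrime).ne_top ((Ideal.eq_top_iff_one _).2 h), Subsingleton.elim _ _⟩
  have hG := gorenstein_quot_list L _ (fun r hr => by
    obtain ⟨r, hr', rfl⟩ := List.mem_map.1 hr
    exact (IsLocalization.AtPrime.to_map_mem_maximal_iff L 𝔮 r).2 (hlq r (List.mem_reverse.1 hr'))) hreg
  let φ : L →+* Localization.AtPrime Q :=
    (Localization.localRingHom 𝔭 Q (Ideal.Quotient.mk I) rfl).comp
      (IsLocalization.algEquiv 𝔭.primeCompl L (Localization.AtPrime 𝔭)).toRingEquiv.toRingHom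
  have hφa : ∀ a : P, φ (algebraMap P L a) = algebraMap (P ⧸ I) _ (Ideal.Quotient.mk I a) := fun a => by
    show Localization.localRingHom 𝔭 Q (Ideal.Quotient.mk I) rfl
      (IsLocalization.algEquiv 𝔭.primeCompl L (Localization.AtPrime 𝔭) (algebraMap P L a)) = _
    rw [AlgEquiv.commutes, Localization.localRingHom_to_map]
  have hφs : ∀ (a : P) (s : 𝔭.primeCompl), φ (IsLocalization.mk' L a s) =
      IsLocalization.mk' (Localization.AtPrime Q) (Ideal.Quotient.mk I a)
        (⟨Ideal.Quotient.mk I s, s.2⟩ : Q.primeCompl) := fun a s => by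
    rw [IsLocalization.eq_mk'_iff_mul_eq]
    show φ _ * algebraMap (P ⧸ I) _ (Ideal.Quotient.mk I s) = _
    rw [← hφa, ← map_mul, IsLocalization.mk'_spec, hφa]
  have hsurj : Function.Surjective φ := fun z => by
    obtain ⟨a, ⟨s, hs⟩, rfl⟩ := IsLocalization.exists_mk'_eq Q.primeCompl z
    obtain ⟨a, rfl⟩ := Ideal.Quotient.mk_surjective a
    obtain ⟨s, rfl⟩ := Ideal.Quotient.mk_surjective s
    exact ⟨IsLocalization.mk' L a (⟨s, hs⟩ : 𝔭.primeCompl), hφs a ⟨s, hs⟩⟩
  have hker : RingHom.ker φ = Ideal.ofList (l.reverse.map (algebraMap (Localization.Away g) L)) := by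
    rw [← Ideal.map_ofList, show Ideal.ofList l.reverse = Ideal.span {x | x ∈ l} from
      congrArg Ideal.span (Set.ext fun _ => List.mem_reverse), ← hmap, Ideal.map_map, ← IsScalarTower.algebraMap_eq]
    refine le_antisymm (fun z hz => ?_) (Ideal.map_le_iff_le_comap.2 fun x hx => ?_)
    · obtain ⟨a, s, rfl⟩ := IsLocalization.exists_mk'_eq 𝔭.primeCompl z
      rw [RingHom.mem_ker, hφs, IsLocalization.mk'_eq_zero_iff] at hz
      obtain ⟨⟨t, ht⟩, hta⟩ := hz
      obtain ⟨t, rfl⟩ := Ideal.Quotient.mk_surjective t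
      rw [IsLocalization.mk'_mem_map_algebraMap_iff 𝔭.primeCompl]
      exact ⟨t, ht, Ideal.Quotient.eq_zero_iff_mem.1 ((map_mul _ t a).trans hta)⟩
    · rw [Ideal.mem_comap, RingHom.mem_ker, hφa, Ideal.Quotient.eq_zero_iff_mem.2 hx, map_zero]
  exact GorensteinAscend.isGorensteinLocalRing_of_ringEquiv
    ((Ideal.quotEquivOfEq hker.symm).trans (RingHom.quotientKerEquivOfSurjective hsurj)) hG

theorem isGorensteinRing_of_isLCI {A B : Type u} [CommRing A] [CommRing B] [Algebra A B]
    (hA : LocCoh.IsGorensteinRing A) (h : LCI.IsLCI A B) : LocCoh.IsGorensteinRing B := by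
  obtain ⟨-, n, f, hf, hI⟩ := h
  haveI := hA
  haveI : IsNoetherianRing B := isNoetherianRing_of_surjective (MvPolynomial (Fin n) A) B f.toRingHom hf
  refine { isGorensteinLocalRing_localization := ?_ }
  exact locGor_of_ringEquiv (RingHom.quotientKerEquivOfSurjective (f := f.toRingHom) hf)
    fun Q _ => gorenstein_quot_of_koszulRegular
      (locGor_mvPolynomial (fun p _ => hA.isGorensteinLocalRing_localization p) n) _ hI Q

end Groth.L21.GorensteinLCI
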