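import Groth.Agent.L21.RR.Sections
import Groth.Agent.L21.Mod.Locality

/-!
A nonzero morphism of invertible modules on an integral scheme is a monomorphism, with cokernel zero on a
dense open.
-/

set_option autoImplicit false
set_option backward.isDefEq.respectTransparency false
universe u

open CategoryTheory CategoryTheory.Limits AlgebraicGeometry TopologicalSpace
open Groth.L18.Frame (IsFrame rs)
open Groth.L21.RR (st st_germ)

noncomputable section

namespace Groth.L21.InvHom

variable {X : Scheme.{u}} [IsIntegral X] {L M : X.Modules}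

omit [IsIntegral X] in
theorem exists_local (hL : PicF.IsInvertible L) (hM : PicF.IsInvertible M) (c : L ⟶ M) (x : X) :
    ∃ (W : X.Opens) (e : Γ(L, W)) (f : Γ(M, W)) (a : Γ(X, W)), x ∈ W ∧ IsFrame L W e ∧ IsFrame M W f ∧
      ∀ (y : X) (hy : y ∈ W), st c y (L.presheaf.germ W y hy e) =
        X.presheaf.germ W y hy a • M.presheaf.germ W y hy f := by
  obtain ⟨W₁, e, hx₁, he⟩ := Groth.L18.Frame.exists_frame hL x
  obtain ⟨W₂, f, hx₂, hf⟩ := Groth.L18.Frame.exists_frame hM x
  obtain ⟨a, ha⟩ := (hf.mono (inf_le_right : W₁ ⊓ W₂ ≤ W₂)).exists_coeff le_rfl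
    (c.app _ (rs L (inf_le_left : W₁ ⊓ W₂ ≤ W₁) e))
  rw [Groth.L18.Frame.rs_self] at ha
  refine ⟨_, _, _, a, ⟨hx₁, hx₂⟩, he.mono inf_le_left, hf.mono inf_le_right, fun y hy => ?_⟩
  rw [st_germ, ← ha, Groth.L20.ModStalk.germ_smul]

theorem germ_ne_zero (hL : PicF.IsInvertible L) (hM : PicF.IsInvertible M) {c : L ⟶ M} (hc : c ≠ 0)
    {W : X.Opens} {e : Γ(L, W)} {f : Γ(M, W)} {a : Γ(X, W)} (he : IsFrame L W e) (hf : IsFrame M W f)
    (h : ∀ (y : X) (hy : y ∈ W), st c y (L.presheaf.germ W y hy e) =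
        X.presheaf.germ W y hy a • M.presheaf.germ W y hy f) {x : X} (hx : x ∈ W) :
    X.presheaf.germ W x hx a ≠ 0 := by
  intro h0
  have hzero : ∀ {V : X.Opens} {e' : Γ(L, V)} (_ : IsFrame L V e') {f' : Γ(M, V)}, IsFrame M V f' →
      ∀ {b : Γ(X, V)}, (∀ (y : X) (hy : y ∈ V), st c y (L.presheaf.germ V y hy e') =
        X.presheaf.germ V y hy b • M.presheaf.germ V y hy f') →
      ∀ {y : X} (_ : y ∈ V), (st c y = 0 ↔ b = 0) := by
    intro V e' he' f' hf' b hb y hy
    constructor
    · intro h1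
      have h2 := hb y hy
      rw [h1, LinearMap.zero_apply] at h2
      have h3 := (Groth.L21.RR.bijective_germ_frame hf' hy).1
        (h2.symm.trans (zero_smul (X.presheaf.stalk y) _).symm)
      exact germ_injective_of_isIntegral X y hy (h3.trans (map_zero _).symm)
    · rintro rfl
      refine LinearMap.ext fun v => ?_
      obtain ⟨r, rfl⟩ := (Groth.L21.RR.bijective_germ_frame he' hy).2 v
      simp only [map_smul, hb y hy, map_zero, zero_smul, smul_zero, LinearMap.zero_apply]
  have ha0 : a = 0 := germ_injective_of_isIntegral X x hx (h0.trans (map_zero _).symm)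
  have hη : genericPoint X ∈ W := ((genericPoint_spec X).specializes trivial).mem_open W.2 hx
  have hcη : st c (genericPoint X) = 0 := (hzero he hf h hη).2 ha0
  refine hc (Groth.L21.Mod.hom_ext_stalk fun y => ?_)
  obtain ⟨V, e', f', b, hy, he', hf', hb⟩ := exists_local hL hM c y
  have hη' : genericPoint X ∈ V := ((genericPoint_spec X).specializes trivial).mem_open V.2 hy
  have hy0 : st c y = 0 := (hzero he' hf' hb hy).2 ((hzero he' hf' hb hη').1 hcη)
  rw [Functor.map_zero]
  ext v
  exact LinearMap.congr_fun hy0 v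

theorem mono_of_ne_zero (hL : PicF.IsInvertible L) (hM : PicF.IsInvertible M) {c : L ⟶ M} (hc : c ≠ 0) :
    Mono c := by
  refine (Groth.L21.Mod.mono_iff_stalk_injective c).2 fun x => ?_
  show Function.Injective (st c x)
  obtain ⟨W, e, f, a, hx, he, hf, h⟩ := exists_local hL hM c x
  refine (injective_iff_map_eq_zero _).2 fun v hv => ?_
  obtain ⟨r, rfl⟩ := (Groth.L21.RR.bijective_germ_frame he hx).2 v
  simp only [map_smul, h x hx, smul_smul] at hv
  have h0 := (Groth.L21.RR.bijective_germ_frame hf hx).1 (hv.trans (zero_smul (X.presheaf.stalk x) _).symm)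
  rcases mul_eq_zero.1 h0 with h1 | h1
  · simp [h1]
  · exact absurd h1 (germ_ne_zero hL hM hc he hf h hx)

theorem exists_isZero_cokernel (hL : PicF.IsInvertible L) (hM : PicF.IsInvertible M) {c : L ⟶ M} (hc : c ≠ 0) :
    ∃ U : X.Opens, (U : Set X).Nonempty ∧ IsZero ((Scheme.Modules.pullback U.ι).obj (cokernel c)) := by
  obtain ⟨W, e, f, a, hx, he, hf, h⟩ := exists_local hL hM c (genericPoint X)
  have hne := germ_ne_zero hL hM hc he hf h hx
  have hU : genericPoint X ∈ X.basicOpen a := by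
    rw [Scheme.mem_basicOpen _ _ _ hx]
    exact isUnit_iff_ne_zero.2 hne
  refine ⟨X.basicOpen a, ⟨_, hU⟩, ?_⟩
  refine IsZero.of_iso ?_ ((Scheme.Modules.restrictFunctorIsoPullback (X.basicOpen a).ι).app (cokernel c)).symm
  rw [Groth.L21.Mod.isZero_iff_stalk]
  intro y
  refine IsZero.of_iso ?_ ((Groth.L21.Mod.restrictStalkF (X.basicOpen a).ι y).app (cokernel c))
  refine IsZero.of_iso ?_ (PreservesCokernel.iso (Groth.L21.Mod.stalkF X ((X.basicOpen a).ι y)) c)
  haveI : Epi ((Groth.L21.Mod.stalkF X ((X.basicOpen a).ι y)).map c) := by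
    rw [AddCommGrpCat.epi_iff_surjective]
    show Function.Surjective (st c ((X.basicOpen a).ι y))
    intro v
    have hy : (X.basicOpen a).ι y ∈ X.basicOpen a := y.2
    have hyW : (X.basicOpen a).ι y ∈ W := X.basicOpen_le a hy
    obtain ⟨r, hr⟩ := (Groth.L21.RR.bijective_germ_frame hf hyW).2 v
    obtain ⟨i, hi⟩ := (Scheme.mem_basicOpen _ _ _ hyW).1 hy
    refine ⟨(r * (↑i⁻¹ : X.presheaf.stalk _)) • L.presheaf.germ W _ hyW e, ?_⟩
    rw [map_smul, h _ hyW, smul_smul, ← hi, mul_assoc, Units.inv_mul, mul_one]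
    exact hr
  exact isZero_cokernel_of_epi _

end Groth.L21.InvHom
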