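import Groth.Agent.L21.RR.PointPow
import Groth.Agent.L21.RR.VeryAmple
import Groth.Agent.L21.Disc.SuppLength
import Groth.Agent.L21.Nodal.ClosedSub
import Groth.Agent.L20.FibreFree
import Groth.Agent.L15.Ref.FreeLocus
import Groth.Agent.L21.Bundle.Lines

/-!
The ideal of a closed point on a possibly singular reduced curve: stalks, invertibility, degree.
-/

set_option autoImplicit false
set_option backward.isDefEq.respectTransparency false
set_option linter.style.haveILetI false
universe u

open CategoryTheory CategoryTheory.Limits AlgebraicGeometry TopologicalSpace IsLocalRing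
open Groth.L21.RR

noncomputable section

namespace Groth.L21.PointIdeal

attribute [local instance] Curv2.resAlgebra Curv2.stalkAlgebra

variable {X : Scheme.{u}} {P : X} (hP : IsClosed ({P} : Set X))

/-- The ideal sheaf of the point. -/
abbrev mI : X.Modules := ClSub.idealMod (Scheme.IdealSheafData.vanishingIdeal ⟨{P}, hP⟩)

/-- The inclusion, read in the local ring. -/
def incl (y : X) : (mI hP).presheaf.stalk y →ₗ[X.presheaf.stalk y] X.presheaf.stalk y :=
  (LinearEquiv.ofBijective (LinearMap.toSpanSingleton (X.presheaf.stalk y)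
    ((Coh.structureModule X).presheaf.stalk y) (one X y)) (bijective_smul_one y)).symm.toLinearMap.comp
      (st (ClSub.idealModι (Scheme.IdealSheafData.vanishingIdeal ⟨{P}, hP⟩)) y)

theorem incl_smul_one (y : X) (v : (mI hP).presheaf.stalk y) :
    incl hP y v • one X y = st (ClSub.idealModι (Scheme.IdealSheafData.vanishingIdeal ⟨{P}, hP⟩)) y v :=
  LinearEquiv.apply_symm_apply (LinearEquiv.ofBijective (LinearMap.toSpanSingleton (X.presheaf.stalk y)
    ((Coh.structureModule X).presheaf.stalk y) (one X y)) (bijective_smul_one y)) _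

theorem injective_incl (y : X) : Function.Injective (incl hP y) := by
  haveI : Mono (ClSub.idealModι (Scheme.IdealSheafData.vanishingIdeal (⟨{P}, hP⟩ : Closeds X))) :=
    inferInstanceAs (Mono (kernel.ι _))
  intro a b h
  refine (Groth.L21.Mod.mono_iff_stalk_injective
    (ClSub.idealModι (Scheme.IdealSheafData.vanishingIdeal (⟨{P}, hP⟩ : Closeds X)))).1 inferInstance y ?_
  show st _ y a = st _ y b
  rw [← incl_smul_one, h, incl_smul_one]

theorem range_incl_self : LinearMap.range (incl hP P) = maximalIdeal (X.presheaf.stalk P) := by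
  obtain ⟨V, hV, hPV, -⟩ := exists_isAffineOpen_mem_and_subset (x := P) (U := ⊤) trivial
  have key := range_st_idealModι (Scheme.IdealSheafData.vanishingIdeal ⟨{P}, hP⟩) hV hPV
  rw [map_vanishingIdeal_point hP hV hPV] at key
  ext r
  constructor
  · rintro ⟨v, rfl⟩
    obtain ⟨r', hr', he⟩ := (key _).1 ⟨v, rfl⟩
    rw [← incl_smul_one] at he
    rwa [(bijective_smul_one P).1 he] at hr'
  · intro hr
    obtain ⟨v, hv⟩ := (key _).2 ⟨r, hr, rfl⟩
    exact ⟨v, (bijective_smul_one P).1 ((incl_smul_one hP P v).trans hv)⟩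

theorem surjective_incl {y : X} (hy : y ≠ P) : Function.Surjective (incl hP y) := by
  intro r
  have h := surjective_st_idealModι_pow_of_ne hP 1 hy
  rw [pow_one] at h
  obtain ⟨v, hv⟩ := h (r • one X y)
  exact ⟨v, (bijective_smul_one y).1 ((incl_smul_one hP y v).trans hv)⟩

/-- Away from the point the stalk is the local ring. -/
def equivNe {y : X} (hy : y ≠ P) : (mI hP).presheaf.stalk y ≃ₗ[X.presheaf.stalk y] X.presheaf.stalk y :=
  LinearEquiv.ofBijective (incl hP y) ⟨injective_incl hP y, surjective_incl hP hy⟩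

/-- At the point the stalk is the maximal ideal. -/
def equivSelf : (mI hP).presheaf.stalk P ≃ₗ[X.presheaf.stalk P] maximalIdeal (X.presheaf.stalk P) :=
  (LinearEquiv.ofInjective (incl hP P) (injective_incl hP P)).trans (LinearEquiv.ofEq _ _ (range_incl_self hP))

theorem isTorsionFree (y : X) : Module.IsTorsionFree (X.presheaf.stalk y) ((mI hP).presheaf.stalk y) :=
  Function.Injective.moduleIsTorsionFree _ (injective_incl hP y) fun r v => map_smul (incl hP y) r v

theorem finrank_of_ne {y : X} (hy : y ≠ P) :
    Module.finrank (X.presheaf.stalk y) ((mI hP).presheaf.stalk y) = 1 := by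
  rw [(equivNe hP hy).finrank_eq, Module.finrank_self]

theorem isInvertible_iff [IsLocallyNoetherian X] :
    PicF.IsInvertible (mI hP) ↔
      Nonempty (maximalIdeal (X.presheaf.stalk P) ≃ₗ[X.presheaf.stalk P] X.presheaf.stalk P) := by
  constructor
  · intro h
    obtain ⟨e, he⟩ := exists_frame_stalk h P
    exact ⟨(equivSelf hP).symm.trans
      (LinearEquiv.ofBijective (LinearMap.toSpanSingleton (X.presheaf.stalk P) ((mI hP).presheaf.stalk P) e) he).symm⟩
  · rintro ⟨θ⟩
    have hst : ∀ y : X, Nonempty ((mI hP).presheaf.stalk y ≃ₗ[X.presheaf.stalk y] X.presheaf.stalk y) := fun y => by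
      by_cases hy : y = P
      · subst hy; exact ⟨(equivSelf hP).trans θ⟩
      · exact ⟨equivNe hP hy⟩
    refine Groth.L21.Bundle.isInvertible_of_rank fun y => ?_
    obtain ⟨θy⟩ := hst y
    haveI : Module.Flat (X.presheaf.stalk y) ((mI hP).presheaf.stalk y) := Module.Flat.of_linearEquiv θy
    obtain ⟨U, n, hyU, ⟨e⟩⟩ := Groth.L20.FibreFree.exists_free_nhd (mI hP)
      (Groth.L15.Ref.isFP_of_isCoh (isCoh_idealMod _)) y inferInstance
    have hU : U.ι ''ᵁ ⊤ = U := (Scheme.Hom.image_top_eq_opensRange U.ι).trans U.opensRange_ι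
    obtain ⟨s, hs⟩ := Groth.L17.FinLocBases.exists_isBasis (mI hP) e
    have hb := Groth.L17.PullBasis.bijective_stalk (mI hP) s hs y (hU.symm ▸ hyU)
    let θn := LinearEquiv.ofBijective (Fintype.linearCombination (X.presheaf.stalk y)
      fun j => Groth.L00.StalkTensor.germ (Groth.L00.Tensor.pre (mI hP)) y (hU.symm ▸ hyU) (s j)) hb
    haveI : Nontrivial (X.presheaf.stalk y) := inferInstance
    have hn : n = 1 := by simpa using (θn.trans θy).finrank_eq
    exact ⟨U, hyU, ⟨hn ▸ e⟩⟩

variable (k : Type u) [Field k] [X.Over (Spec (CommRingCat.of k))] [IsProper (X ↘ Spec (CommRingCat.of k))]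

theorem euler_eq [IsAlgClosed k] (hd : topologicalKrullDim X ≤ 1) :
    Curv2.euler k X (mI hP) = Curv2.euler k X (Coh.structureModule X) - 1 := by
  haveI := isNoetherian_of_proper (X := X) k
  set I := Scheme.IdealSheafData.vanishingIdeal (⟨{P}, hP⟩ : Closeds X)
  haveI : Mono (ClSub.idealModι I) := inferInstanceAs (Mono (kernel.ι _))
  let Q := cokernel (ClSub.idealModι I)
  have hI : Coh.IsCoh (mI hP) := isCoh_idealMod I
  have hO := Groth.L16.CohClosedPush.isCoh_structure (X := X)
  have hQ : Coh.IsCoh Q := (Groth.L16.CohKernel.isCoh_kernel_cokernel hI hO _).2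
  have hsub : ∀ y, y ≠ P → Subsingleton (Q.presheaf.stalk y) := fun y hy => by
    refine subsingleton_of_forall_eq 0 fun v => ?_
    obtain ⟨w, rfl⟩ := (Groth.L21.Mod.epi_iff_stalk_surjective (cokernel.π (ClSub.idealModι I))).1 inferInstance y v
    obtain ⟨r, rfl⟩ := (bijective_smul_one y).2 w
    obtain ⟨u, rfl⟩ := surjective_incl hP hy r
    show st (cokernel.π (ClSub.idealModι I)) y (incl hP y u • one X y) = 0
    rw [incl_smul_one, ← st_comp, cokernel.condition, st, Functor.map_zero]
    rfl
  have hsupp : SuppClosed Q := fun y hy => hsub y fun h => hy (h ▸ hP)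
  let g := (st (cokernel.π (ClSub.idealModι I)) P).comp
    (LinearMap.toSpanSingleton (X.presheaf.stalk P) ((Coh.structureModule X).presheaf.stalk P) (one X P))
  have hg : Function.Surjective g :=
    ((Groth.L21.Mod.epi_iff_stalk_surjective (cokernel.π (ClSub.idealModι I))).1 inferInstance P).comp
      (bijective_smul_one P).2
  have hker : LinearMap.ker g = maximalIdeal (X.presheaf.stalk P) := by
    ext r
    rw [LinearMap.mem_ker]
    show st (cokernel.π (ClSub.idealModι I)) P (r • one X P) = 0 ↔ _
    rw [← range_incl_self hP]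
    refine ⟨fun h => ?_, ?_⟩
    · obtain ⟨u, hu⟩ := exists_of_st_cokernel (ClSub.idealModι I) P _ h
      exact ⟨u, (bijective_smul_one P).1 ((incl_smul_one hP P u).trans hu)⟩
    · rintro ⟨u, rfl⟩
      rw [incl_smul_one, ← st_comp, cokernel.condition, st, Functor.map_zero]
      rfl
  have hlen : Module.length (X.presheaf.stalk P) (Q.presheaf.stalk P) = 1 := by
    rw [← (LinearMap.quotKerEquivOfSurjective g hg).length_eq, hker, Module.length_eq_one_iff]
    exact isSimpleModule_iff_isCoatom.2 (Ideal.isMaximal_def.1 (maximalIdeal.isMaximal _))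
  have hS : (ShortComplex.mk (ClSub.idealModι I) (cokernel.π (ClSub.idealModι I)) (cokernel.condition _)).ShortExact :=
    { exact := ShortComplex.exact_cokernel _ }
  have hadd := euler_add k hd hS hI hO hQ
  rw [euler_eq_h0_of_suppClosed k hsupp, Groth.L21.Disc.h0_eq_sum_length k hQ {P}
    (fun x hx => Finset.mem_singleton.1 hx ▸ hP)
    (fun x hx => hsub x fun h => hx (Finset.mem_singleton.2 h)), Finset.sum_singleton, hlen,
    finrank_residueField_eq_one k hP] at hadd
  push_cast at hadd
  norm_num at hadd
  linarith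

end Groth.L21.PointIdeal
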