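import Groth.Agent.L21.Smooth.EtaleRegular
import Groth.Agent.L22.AffineDim
import Groth.Agent.L22.SchemeDim
import Groth.Agent.L02.Canon.Basic
import Groth.Agent.L21.Bundle.Lines
import Groth.Agent.L19.OmegaSh.Affine
import Mathlib.AlgebraicGeometry.Morphisms.Smooth
import Mathlib.RingTheory.Jacobson.Ring

/-!
A smooth integral curve over a field is smooth of relative dimension one, and its differentials are invertible.
-/

set_option autoImplicit false
set_option backward.isDefEq.respectTransparency false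
set_option linter.style.haveILetI false
universe u

open CategoryTheory CategoryTheory.Limits AlgebraicGeometry TopologicalSpace

namespace Groth.L21.SmoothCurve

theorem relDim_eq_one (k A : Type u) [Field k] [CommRing A] [IsDomain A] [Algebra k A] (n : ℕ)
    [Algebra.IsStandardSmoothOfRelativeDimension n k A] (hA : ringKrullDim A = 1) : n = 1 := by
  haveI : Algebra.IsStandardSmooth k A := Algebra.IsStandardSmoothOfRelativeDimension.isStandardSmooth n
  obtain ⟨q, hq⟩ := Ideal.exists_maximal A
  haveI := hq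
  obtain ⟨g, hg⟩ := Algebra.IsStandardSmoothOfRelativeDimension.exists_etale_mvPolynomial n k A
  letI := g.toRingHom.toAlgebra
  haveI : Algebra.Etale (MvPolynomial (Fin n) k) A := hg
  haveI : (q.under (MvPolynomial (Fin n) k)).IsMaximal := by
    letI : Field (A ⧸ q) := Ideal.Quotient.field q
    haveI : Algebra.FiniteType (MvPolynomial (Fin n) k) (A ⧸ q) :=
      Algebra.FiniteType.of_surjective (Ideal.Quotient.mkₐ (MvPolynomial (Fin n) k) q) Ideal.Quotient.mk_surjective
    haveI : Module.Finite (MvPolynomial (Fin n) k) (A ⧸ q) := finite_of_finite_type_of_isJacobsonRing _ _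
    have hm := Ideal.isMaximal_comap_of_isIntegral_of_isMaximal (R := MvPolynomial (Fin n) k) (⊥ : Ideal (A ⧸ q))
    rw [IsScalarTower.algebraMap_eq (MvPolynomial (Fin n) k) A (A ⧸ q), ← Ideal.comap_comap,
      ← RingHom.ker_eq_comap_bot, Ideal.Quotient.algebraMap_eq, Ideal.mk_ker] at hm
    exact hm
  have h1 := (Groth.L21.Smooth.regular_localization_of_etale (MvPolynomial (Fin n) k) A q).2
  rw [IsLocalization.AtPrime.ringKrullDim_eq_height q, IsLocalization.AtPrime.ringKrullDim_eq_height
    (q.under (MvPolynomial (Fin n) k)), Groth.L22.AffineDim.height_of_isMaximal k A q,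
    Groth.L22.AffineDim.height_of_isMaximal k (MvPolynomial (Fin n) k),
    MvPolynomial.ringKrullDim_of_isNoetherianRing, ringKrullDim_eq_zero_of_field, zero_add, hA] at h1
  simp only [Nat.card_eq_fintype_card, Fintype.card_fin] at h1
  exact_mod_cast h1.symm

variable {k : Type u} [Field k] {X : Scheme.{u}} (p : X ⟶ Spec (CommRingCat.of k))

include p in
theorem smoothOfRelativeDimension_one [IsIntegral X] [Smooth p] (hd : topologicalKrullDim X = 1) :
    SmoothOfRelativeDimension 1 p := by
  letI : X.Over (Spec (CommRingCat.of k)) := ⟨p⟩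
  haveI : LocallyOfFiniteType (X ↘ Spec (CommRingCat.of k)) := (inferInstance : LocallyOfFiniteType p)
  obtain ⟨m, hm, -, hmU⟩ := Groth.L22.SchemeDim.exists_dim_eq_trdeg k X
  refine ⟨fun x => ?_⟩
  obtain ⟨V, hV, W, hW, hxW, e, hsm⟩ := Smooth.exists_isStandardSmooth p x
  obtain rfl : V = ⊤ := by
    ext y
    simp only [Opens.coe_top, Set.mem_univ, iff_true]
    obtain rfl : y = p x := Subsingleton.elim (α := PrimeSpectrum k) _ _
    exact e hxW
  refine ⟨⊤, hV, W, hW, hxW, e, ?_⟩
  let α := (p.appLE ⊤ W e).hom.comp (Scheme.ΓSpecIso (CommRingCat.of k)).inv.hom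
  have hα : α.IsStandardSmooth := RingHom.isStandardSmooth_respectsIso.2 _
    (Scheme.ΓSpecIso (CommRingCat.of k)).symm.commRingCatIsoToRingEquiv hsm
  letI : Algebra k Γ(X, W) := α.toAlgebra
  haveI : Algebra.IsStandardSmooth k Γ(X, W) := hα
  haveI : Nonempty W := ⟨⟨x, hxW⟩⟩
  obtain ⟨_, _, _, _, ⟨S⟩⟩ := Algebra.IsStandardSmooth.out (R := k) (S := Γ(X, W))
  haveI : Algebra.IsStandardSmoothOfRelativeDimension S.dimension k Γ(X, W) := ⟨_, _, _, inferInstance, S, rfl⟩
  have hdim : ringKrullDim Γ(X, W) = 1 := by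
    rw [← Groth.L22.SchemeDim.topologicalKrullDim_affineOpen hW]
    exact (hmU W ⟨x, hxW⟩).trans (hm.symm.trans hd)
  have h1 := relDim_eq_one k Γ(X, W) S.dimension hdim
  have h2 : α.IsStandardSmoothOfRelativeDimension 1 := h1 ▸ (inferInstance :
    Algebra.IsStandardSmoothOfRelativeDimension S.dimension k Γ(X, W))
  have h3 := (RingHom.isStandardSmoothOfRelativeDimension_respectsIso (n := 1)).2 α
    (Scheme.ΓSpecIso (CommRingCat.of k)).commRingCatIsoToRingEquiv h2
  have h4 : α.comp (Scheme.ΓSpecIso (CommRingCat.of k)).commRingCatIsoToRingEquiv.toRingHom =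
      (p.appLE ⊤ W e).hom := by
    ext c
    exact congrArg (p.appLE ⊤ W e).hom
      ((Scheme.ΓSpecIso (CommRingCat.of k)).commRingCatIsoToRingEquiv.symm_apply_apply c)
  rwa [h4] at h3

include p in
theorem isInvertible_of_isUniversal [IsIntegral X] [Smooth p] [QuasiSeparated p] (hd : topologicalKrullDim X = 1)
    {Ω : X.Modules} {d : OmegaSh.Der p Ω} (h : OmegaSh.IsUniversal d) : PicF.IsInvertible Ω := by
  haveI := smoothOfRelativeDimension_one p hd
  obtain ⟨e, -⟩ := Groth.L19.OmegaSh.exists_iso_of_isUniversal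
    (Groth.L19.OmegaSh.isUniversal_dOmega (f := p)) h
  exact Groth.L18.Ample.isInvertible_of_iso e
    (Groth.L21.Bundle.isInvertible_of_rank (Groth.L02.Canon.isFinLocFreeOfRank_omega (f := p) 1))

end Groth.L21.SmoothCurve
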