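import Groth.Agent.L21.CurveTop
import Mathlib.AlgebraicGeometry.ZariskisMainTheorem
import Mathlib.AlgebraicGeometry.Morphisms.Proper

/-!
Morphisms out of proper curves: finiteness.
-/

set_option autoImplicit false
universe u

open TopologicalSpace Set Order

namespace Groth.L21.CurveTop

variable {X : Type u} [TopologicalSpace X]

/-- In a space of dimension at most one an irreducible closed subset properly inside another is a
closed point. -/
theorem exists_eq_singleton_of_ssubset [NoetherianSpace X] [T0Space X]
    (hdim : topologicalKrullDim X ≤ 1) {C C' : Set X} (hC : IsClosed C) (hCi : IsIrreducible C)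
    (hC' : IsClosed C') (hC'i : IsIrreducible C') (hsub : C ⊂ C') : ∃ x, C = {x} := by
  obtain ⟨x, hx, hxc⟩ := IsClosed.exists_closed_singleton hC hCi.nonempty
  refine ⟨x, ?_⟩
  by_contra h
  let C₀ : IrreducibleCloseds X := ⟨{x}, isIrreducible_singleton, hxc⟩
  let C₁ : IrreducibleCloseds X := ⟨C, hCi, hC⟩
  let C₂ : IrreducibleCloseds X := ⟨C', hC'i, hC'⟩
  have h01 : C₀ < C₁ := lt_of_le_of_ne (singleton_subset_iff.mpr hx)
    fun e => h (congrArg (fun Z : IrreducibleCloseds X => (Z : Set X)) e).symm
  have h12 : C₁ < C₂ := lt_of_le_of_ne hsub.subset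
    fun e => hsub.ne (congrArg (fun Z : IrreducibleCloseds X => (Z : Set X)) e)
  have h2 := Order.LTSeries.length_le_krullDim
    (((RelSeries.singleton {(a, b) : IrreducibleCloseds X × IrreducibleCloseds X | a < b} C₀).snoc C₁
      (by simpa using h01)).snoc C₂ (by simpa using h12))
  have h3 : ((2 : ℕ) : WithBot ℕ∞) ≤ (1 : ℕ) := by simpa using h2.trans hdim
  exact absurd (Nat.cast_le.mp h3) (by norm_num)

/-- There are only finitely many non-closed points in a Noetherian space of dimension at most one. -/
theorem finite_setOf_not_isClosed_singleton [NoetherianSpace X] [T0Space X]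
    (hdim : topologicalKrullDim X ≤ 1) : {x : X | ¬ IsClosed ({x} : Set X)}.Finite := by
  refine Set.Finite.of_finite_image (f := fun x => closure ({x} : Set X))
    ((NoetherianSpace.finite_irreducibleComponents (α := X)).subset ?_) ?_
  · rintro _ ⟨x, hx, rfl⟩
    obtain ⟨Z, hZ, hsub⟩ := exists_mem_irreducibleComponents_subset_of_isIrreducible _
      (isIrreducible_singleton (x := x)).closure
    rcases hsub.eq_or_ssubset with h | h
    · show closure {x} ∈ _
      rw [h]; exact hZ
    · obtain ⟨y, hy⟩ := exists_eq_singleton_of_ssubset hdim isClosed_closure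
        isIrreducible_singleton.closure (isClosed_of_mem_irreducibleComponents Z hZ) hZ.1 h
      have : x = y := hy.subset (subset_closure rfl)
      exact absurd (this ▸ hy ▸ isClosed_closure : IsClosed ({x} : Set X)) hx
  · intro x _ y _ h
    exact (inseparable_iff_closure_eq.mpr h).eq

/-- Proper closed subsets of a component of a one-dimensional space are finite. -/
theorem finite_of_ssubset_irreducible [NoetherianSpace X] [T0Space X]
    (hdim : topologicalKrullDim X ≤ 1) {F Z : Set X} (hF : IsClosed F) (hZ : IsClosed Z)
    (hZi : IsIrreducible Z) (h : F ⊂ Z) : F.Finite := by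
  obtain ⟨S, hS, hSc, hSi, rfl⟩ := NoetherianSpace.exists_finite_set_isClosed_irreducible hF
  refine hS.sUnion fun t ht => ?_
  obtain ⟨x, rfl⟩ := exists_eq_singleton_of_ssubset hdim (hSc t ht) (hSi t ht) hZ hZi
    ((subset_sUnion_of_mem ht).trans_ssubset h)
  exact finite_singleton x

open CategoryTheory AlgebraicGeometry

/-- A morphism from a proper scheme of dimension at most one contracting no component is finite. -/
theorem isFinite_of_nonconstant {k : Type u} [Field k] {X Y : Scheme.{u}}
    (p : X ⟶ Spec (CommRingCat.of k)) (q : Y ⟶ Spec (CommRingCat.of k))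
    [IsProper p] [IsSeparated q] (f : X ⟶ Y) (hf : f ≫ q = p) (hdim : topologicalKrullDim X ≤ 1)
    (h : ∀ Z ∈ irreducibleComponents (X : Type u), topologicalKrullDim Z = 1 → (f.base '' Z).Nontrivial) :
    IsFinite f := by
  subst hf
  haveI : IsProper f := IsProper.of_comp f q
  haveI : IsLocallyNoetherian X := LocallyOfFiniteType.isLocallyNoetherian (f ≫ q)
  haveI : CompactSpace X := QuasiCompact.compactSpace_of_compactSpace (f ≫ q)
  haveI : IsNoetherian X := ⟨⟩
  haveI : LocallyQuasiFinite f := by
    refine LocallyQuasiFinite.of_finite_preimage_singleton f fun y => ?_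
    by_cases hy : IsClosed ({y} : Set Y)
    · rw [← inter_univ (f ⁻¹' {y}), ← sUnion_irreducibleComponents (X := X), sUnion_eq_biUnion, inter_iUnion₂]
      refine (NoetherianSpace.finite_irreducibleComponents (α := X)).biUnion fun Z hZ => ?_
      have hZc := isClosed_of_mem_irreducibleComponents Z hZ
      rcases (inter_subset_right (s := f ⁻¹' {y}) (t := Z)).eq_or_ssubset with he | he
      · rw [he]
        by_contra hinf
        have hne : ∀ x, Z ≠ {x} := fun x hx => hinf (hx ▸ finite_singleton x)
        have hd : topologicalKrullDim Z = 1 := by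
          refine le_antisymm ((topologicalKrullDim_subspace_le X Z).trans hdim) ?_
          obtain ⟨z, hz, hzc⟩ := IsClosed.exists_closed_singleton hZc hZ.1.nonempty
          haveI : IrreducibleSpace Z := Subtype.irreducibleSpace hZ.1
          let C₀ : IrreducibleCloseds Z := ⟨{⟨z, hz⟩}, isIrreducible_singleton, by
            convert hzc.preimage (continuous_subtype_val (p := (· ∈ Z))) using 1
            ext w; simp [Subtype.ext_iff]⟩
          let C₁ : IrreducibleCloseds Z := ⟨univ, IrreducibleSpace.isIrreducible_univ _, isClosed_univ⟩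
          have h01 : C₀ < C₁ := lt_of_le_of_ne (subset_univ _) fun e => hne z (by
            refine subset_antisymm (fun w hw => ?_) (singleton_subset_iff.mpr hz)
            have : (⟨w, hw⟩ : Z) ∈ (C₀ : Set Z) := e ▸ mem_univ _
            simpa [C₀, Subtype.ext_iff] using this)
          have h2 := Order.LTSeries.length_le_krullDim
            ((RelSeries.singleton {(a, b) : IrreducibleCloseds Z × IrreducibleCloseds Z | a < b} C₀).snoc
              C₁ (by simpa using h01))
          simpa using! h2
        obtain ⟨a, ⟨a', ha', rfl⟩, b, ⟨b', hb', rfl⟩, hab⟩ := h Z hZ hd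
        rw [← he] at ha' hb'
        exact hab (ha'.1.trans hb'.1.symm)
      · exact finite_of_ssubset_irreducible hdim ((hy.preimage f.continuous).inter hZc) hZc hZ.1 he
    · refine (finite_setOf_not_isClosed_singleton hdim).subset fun x hx hxc => hy ?_
      have := f.isClosedMap _ hxc
      rwa [image_singleton, show f x = y from hx] at this
  exact IsFinite.of_isProper_of_locallyQuasiFinite f

end Groth.L21.CurveTop
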