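import Groth.Agent.L14.Smoothing.Split
import Mathlib.RingTheory.Smooth.Basic
import Mathlib.FieldTheory.IsAlgClosed.Basic
import Mathlib.FieldTheory.IsAlgClosed.AlgebraicClosure
import Mathlib.RingTheory.Polynomial.Resultant.Basic
import Mathlib.RingTheory.FinitePresentation
import Mathlib.Algebra.MvPolynomial.PDeriv

/-! Smoothness of a hypersurface `P₀(t) + P₁(t) w = 0`. -/

set_option autoImplicit false
universe u

open MvPolynomial KaehlerDifferential TensorProduct

namespace Groth.L21.SmoothChart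

variable {k : Type u} [Field k]

theorem unit_of_smooth {σ : Type} [Fintype σ] (f : MvPolynomial σ k) (hf : f ≠ 0)
    [Algebra.Smooth k (MvPolynomial σ k ⧸ Ideal.span {f})] :
    ∃ h : σ → MvPolynomial σ k, f ∣ 1 - ∑ i, pderiv i f * h i := by
  classical
  let P := MvPolynomial σ k
  let S := MvPolynomial σ k ⧸ Ideal.span {f}
  obtain ⟨l, hl⟩ := (Algebra.FormallySmooth.iff_split_injection (R := k) (P := P) (A := S)
    Ideal.Quotient.mk_surjective).mp inferInstance
  let J := RingHom.ker (algebraMap P S)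
  have hJ : J = Ideal.span {f} := Ideal.mk_ker
  have hfJ : f ∈ J := hJ.symm ▸ Ideal.subset_span rfl
  have h1 := LinearMap.congr_fun hl (J.toCotangent ⟨f, hfJ⟩)
  rw [LinearMap.comp_apply, LinearMap.id_apply, kerCotangentToTensor_toCotangent] at h1
  have h2 : D k P f = ∑ i, pderiv i f • D k P (X i) := by
    conv_lhs => rw [← (mvPolynomialBasis k σ).sum_repr (D k P f)]
    exact Finset.sum_congr rfl fun i _ => by simp [P]
  rw [h2, tmul_sum, map_sum] at h1
  have hlift : ∀ i, ∃ h : P, l ((1 : S) ⊗ₜ D k P (X i)) = h • J.toCotangent ⟨f, hfJ⟩ := by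
    intro i
    obtain ⟨⟨x, hx⟩, hx'⟩ := J.toCotangent_surjective (l ((1 : S) ⊗ₜ D k P (X i)))
    obtain ⟨h, rfl⟩ : f ∣ x := Ideal.mem_span_singleton.1 (hJ ▸ hx)
    exact ⟨h, by rw [← hx', ← map_smul]; congr 1; exact Subtype.ext (mul_comm f h)⟩
  choose h hh using hlift
  refine ⟨h, ?_⟩
  have h3 : (∑ i, pderiv i f * h i) • J.toCotangent ⟨f, hfJ⟩ = J.toCotangent ⟨f, hfJ⟩ := by
    rw [Finset.sum_smul]
    refine Eq.trans (Finset.sum_congr rfl fun i _ => ?_) h1
    rw [tmul_smul, map_smul, hh, smul_smul]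
  rw [← map_smul, Ideal.toCotangent_eq] at h3
  simp only [SetLike.val_smul, smul_eq_mul] at h3
  replace h3 : (∑ i, pderiv i f * h i) * f - f ∈ Ideal.span {f ^ 2} := by
    rw [← Ideal.span_singleton_pow, ← hJ]
    exact h3
  rw [Ideal.mem_span_singleton] at h3
  obtain ⟨c, hc⟩ := h3
  refine ⟨-c, mul_left_cancel₀ hf ?_⟩
  linear_combination -hc

theorem smooth_of_unit {σ : Type} [Fintype σ] (f : MvPolynomial σ k) (h : σ → MvPolynomial σ k)
    (hh : f ∣ 1 - ∑ i, pderiv i f * h i) :
    Algebra.Smooth k (MvPolynomial σ k ⧸ Ideal.span {f}) := by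
  classical
  haveI : Algebra.FinitePresentation k (MvPolynomial σ k ⧸ Ideal.span {f}) :=
    Algebra.FinitePresentation.quotient ⟨{f}, by simp⟩
  let h' : σ → Unit → MvPolynomial σ k ⧸ Ideal.span {f} := fun i _ => Ideal.Quotient.mk _ (h i)
  obtain ⟨hfs, -⟩ := Groth.L14.Smoothing.split_of_jacobian (R := k) (Ideal.Quotient.mkₐ k (Ideal.span {f}))
    Ideal.Quotient.mk_surjective (fun _ : Unit => f)
    (fun _ => Ideal.Quotient.eq_zero_iff_mem.2 (Ideal.subset_span rfl))
    (by
      intro x hx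
      refine Ideal.mem_sup_left ?_
      rw [Set.range_const]
      exact Ideal.Quotient.eq_zero_iff_mem.1 hx)
    h' (fun s t => by
      simp only [if_pos, h']
      have := Ideal.Quotient.eq_zero_iff_mem.2 (Ideal.mem_span_singleton.2 hh)
      rw [map_sub, map_one, map_sum, sub_eq_zero] at this
      exact (Finset.sum_congr rfl fun i _ => (map_mul _ _ _).symm).trans this.symm)
  exact ⟨hfs, inferInstance⟩

/-- The chart polynomial `P₀(t) + P₁(t) w`. -/
noncomputable def chart (P₀ P₁ : Polynomial k) : MvPolynomial (Fin 2) k :=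
  Polynomial.aeval (X 0 : MvPolynomial (Fin 2) k) P₀ + Polynomial.aeval (X 0 : MvPolynomial (Fin 2) k) P₁ * X 1

theorem pderiv_one_aeval (P : Polynomial k) :
    pderiv 1 (Polynomial.aeval (X 0 : MvPolynomial (Fin 2) k) P) = 0 := by
  induction P using Polynomial.induction_on' with
  | add p q hp hq => simp [hp, hq]
  | monomial n a => simp [pderiv_X, Derivation.leibniz_pow]

theorem pderiv_zero_aeval (P : Polynomial k) :
    pderiv 0 (Polynomial.aeval (X 0 : MvPolynomial (Fin 2) k) P) =
      Polynomial.aeval (X 0 : MvPolynomial (Fin 2) k) (Polynomial.derivative P) := by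
  induction P using Polynomial.induction_on' with
  | add p q hp hq => simp [hp, hq]
  | monomial n a =>
    simp only [Polynomial.aeval_monomial, Polynomial.derivative_monomial, Derivation.leibniz, Derivation.leibniz_pow,
      pderiv_X_self, Derivation.map_algebraMap, smul_eq_mul, nsmul_eq_mul, mul_zero, add_zero, map_mul, map_natCast]
    ring

theorem smooth_chart {P₀ P₁ : Polynomial k} (h : IsCoprime P₀ P₁) :
    Algebra.Smooth k (MvPolynomial (Fin 2) k ⧸ Ideal.span {chart P₀ P₁}) := by
  obtain ⟨a, b, hab⟩ := h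
  let ev : Polynomial k →ₐ[k] MvPolynomial (Fin 2) k := Polynomial.aeval (X 0)
  refine smooth_of_unit _ ![0, ev b - ev a * X 1] ⟨ev a, ?_⟩
  have h1 : pderiv 1 (chart P₀ P₁) = ev P₁ := by
    simp [chart, pderiv_one_aeval, ev]
  have h2 := congrArg ev hab
  rw [map_add, map_mul, map_mul, map_one] at h2
  rw [Fin.sum_univ_two, h1, Matrix.cons_val_zero, Matrix.cons_val_one, mul_zero, zero_add]
  simp only [chart, Matrix.cons_val_fin_one]
  linear_combination -h2

theorem exists_root_of_not_isCoprime {P₀ P₁ : Polynomial k} (h : ¬ IsCoprime P₀ P₁) :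
    ∃ a : AlgebraicClosure k, Polynomial.aeval a P₀ = 0 ∧ Polynomial.aeval a P₁ = 0 := by
  rw [Polynomial.isCoprime_iff_aeval_ne_zero_of_isAlgClosed k (AlgebraicClosure k)] at h
  push Not at h
  exact h

theorem isCoprime_of_smooth {P₀ P₁ : Polynomial k} (h0 : P₀ ≠ 0 ∨ P₁ ≠ 0)
    (h : Algebra.Smooth k (MvPolynomial (Fin 2) k ⧸ Ideal.span {chart P₀ P₁}))
    (h' : Algebra.Smooth k (MvPolynomial (Fin 2) k ⧸ Ideal.span {chart P₁ P₀})) :
    IsCoprime P₀ P₁ := by
  by_contra hc
  obtain ⟨a, ha0, ha1⟩ := exists_root_of_not_isCoprime hc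
  have key : ∀ R₀ R₁ : Polynomial k, Polynomial.aeval a R₀ = 0 → Polynomial.aeval a R₁ = 0 →
      (R₀ ≠ 0 ∨ R₁ ≠ 0) → Algebra.Smooth k (MvPolynomial (Fin 2) k ⧸ Ideal.span {chart R₀ R₁}) →
      ∀ w : AlgebraicClosure k,
        Polynomial.aeval a (Polynomial.derivative R₀) + Polynomial.aeval a (Polynomial.derivative R₁) * w ≠ 0 := by
    intro R₀ R₁ e0 e1 hne hsm w hw
    have hf : chart R₀ R₁ ≠ 0 := by
      intro hz
      have hev : ∀ (c : Polynomial k) (R : Polynomial k),
          MvPolynomial.aeval ![Polynomial.X, c] (Polynomial.aeval (X 0 : MvPolynomial (Fin 2) k) R) = R := by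
        intro c R
        rw [← Polynomial.aeval_algHom_apply]
        simp
      have z0 := congrArg (MvPolynomial.aeval ![(Polynomial.X : Polynomial k), 0]) hz
      have z1 := congrArg (MvPolynomial.aeval ![(Polynomial.X : Polynomial k), 1]) hz
      simp only [chart, map_add, map_mul, hev, MvPolynomial.aeval_X, map_zero, Matrix.cons_val_one,
        Matrix.cons_val_fin_one, mul_zero, add_zero, mul_one] at z0 z1
      rw [z0, zero_add] at z1
      exact hne.elim (· z0) (· z1)
    obtain ⟨g, ⟨c, hc⟩⟩ := @unit_of_smooth k _ (Fin 2) _ _ hf hsm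
    let φ := MvPolynomial.aeval (R := k) ![a, w]
    have hφ : ∀ R : Polynomial k, φ (Polynomial.aeval (X 0 : MvPolynomial (Fin 2) k) R) = Polynomial.aeval a R := by
      intro R
      rw [← Polynomial.aeval_algHom_apply]
      simp [φ]
    have e2 : φ (chart R₀ R₁) = 0 := by simp [chart, hφ, e0, e1]
    have e3 : φ (pderiv 0 (chart R₀ R₁)) = 0 := by
      simp only [chart, map_add, Derivation.leibniz, pderiv_zero_aeval, smul_eq_mul, map_mul, hφ, e1]
      rw [pderiv_X_of_ne (show (1 : Fin 2) ≠ 0 by decide), map_zero, mul_zero, zero_add,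
        show φ (X 1) = w from MvPolynomial.aeval_X _ 1]
      linear_combination hw
    have e4 : φ (pderiv 1 (chart R₀ R₁)) = 0 := by
      simp [chart, pderiv_one_aeval, hφ, e1]
    have e5 := congrArg φ hc
    rw [Fin.sum_univ_two] at e5
    simp only [map_sub, map_one, map_add, map_mul, e2, e3, e4, zero_mul, add_zero, sub_zero] at e5
    exact one_ne_zero e5
  by_cases hd : Polynomial.aeval a (Polynomial.derivative P₁) = 0
  · by_cases hd' : Polynomial.aeval a (Polynomial.derivative P₀) = 0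
    · exact key P₀ P₁ ha0 ha1 h0 h 0 (by simp [hd'])
    · exact key P₁ P₀ ha1 ha0 h0.symm h' 0 (by simp [hd])
  · exact key P₀ P₁ ha0 ha1 h0 h
      (-(Polynomial.aeval a (Polynomial.derivative P₀)) / Polynomial.aeval a (Polynomial.derivative P₁))
      (by field_simp; ring)

/-- Resultant with formal degrees. -/
theorem resultant_ne_zero_iff {P Q : Polynomial k} {m n : ℕ} (hm : m ≠ 0) (hn : n ≠ 0)
    (hP : P.natDegree ≤ m) (hQ : Q.natDegree ≤ n) :
    Polynomial.resultant P Q m n ≠ 0 ↔ IsCoprime P Q ∧ (P.coeff m ≠ 0 ∨ Q.coeff n ≠ 0) := by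
  constructor
  · intro h
    refine ⟨?_, ?_⟩
    · by_contra hc
      obtain ⟨a, ha0, ha1⟩ := exists_root_of_not_isCoprime hc
      obtain ⟨p, q, -, -, e⟩ := Polynomial.exists_mul_add_mul_eq_C_resultant P Q hP hQ (Or.inl hm)
      have := congrArg (Polynomial.aeval a) e
      simp only [map_add, map_mul, ha0, ha1, zero_mul, add_zero, Polynomial.aeval_C] at this
      exact h ((map_eq_zero _).1 this.symm)
    · by_contra hc
      push Not at hc
      have lt : ∀ (R : Polynomial k) (d : ℕ), d ≠ 0 → R.natDegree ≤ d → R.coeff d = 0 → R.natDegree < d := by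
        intro R d hd hR hcd
        refine lt_of_le_of_ne hR fun he => ?_
        rw [← he] at hcd hd
        exact Polynomial.leadingCoeff_ne_zero.2 (fun h0 => hd (by rw [h0]; simp)) hcd
      exact h (Polynomial.resultant_eq_zero_of_lt_lt _ _ _ _ (lt P m hm hP hc.1) (lt Q n hn hQ hc.2))
  · rintro ⟨hco, htop⟩
    have h0 := Polynomial.resultant_ne_zero P Q hco
    rcases htop with ht | ht
    · obtain ⟨d, hd⟩ := Nat.exists_eq_add_of_le hQ
      have : P.natDegree = m := le_antisymm hP (Polynomial.le_natDegree_of_ne_zero ht)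
      subst this
      rw [hd, Polynomial.resultant_add_right_deg _ _ _ _ d le_rfl]
      exact mul_ne_zero (pow_ne_zero _ ht) h0
    · obtain ⟨d, hd⟩ := Nat.exists_eq_add_of_le hP
      have : Q.natDegree = n := le_antisymm hQ (Polynomial.le_natDegree_of_ne_zero ht)
      subst this
      rw [hd, Polynomial.resultant_add_left_deg _ _ _ _ d le_rfl]
      exact mul_ne_zero (mul_ne_zero (pow_ne_zero _ (neg_ne_zero.2 one_ne_zero)) (pow_ne_zero _ ht)) h0

end Groth.L21.SmoothChart
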