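import Groth.Agent.L21.CurveMaps
import Groth.Agent.L21.NormalAffine
import Mathlib.AlgebraicGeometry.Morphisms.ClosedImmersion

/-!
A finite birational morphism onto a normal integral scheme is an isomorphism.
-/

set_option autoImplicit false
universe u

open CategoryTheory AlgebraicGeometry

namespace Groth.L21

/-- A finite morphism of integral schemes, bijective on function fields, with normal target is an
isomorphism. -/
theorem isIso_of_isFinite_of_normal {X C : Scheme.{u}} [IsIntegral X] [IsIntegral C] (f : X ⟶ C)
    [IsFinite f] (hN : ∀ x : C, IsDomain (C.presheaf.stalk x) ∧ IsIntegrallyClosed (C.presheaf.stalk x))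
    (hdom : f.base (genericPoint X) = genericPoint C)
    (hdeg : IsIso (f.stalkMap (genericPoint X))) : IsIso f := by
  haveI : Surjective f := by
    refine ⟨fun y => ?_⟩
    have hcl := f.isClosedMap _ isClosed_univ
    rw [Set.image_univ] at hcl
    have hmem : genericPoint C ∈ Set.range f := ⟨genericPoint X, hdom⟩
    exact (genericPoint_spec C).specializes trivial |>.mem_closed hcl hmem
  haveI : IsClosedImmersion f := by
    rw [isClosedImmersion_iff_isAffineHom]
    refine ⟨inferInstance, fun V hV b => ?_⟩
    rcases (f ⁻¹ᵁ V : X.Opens).1.eq_empty_or_nonempty with he | hne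
    · have : f ⁻¹ᵁ V = ⊥ := TopologicalSpace.Opens.ext he
      haveI : Subsingleton Γ(X, f ⁻¹ᵁ V) := by
        rw [this]; infer_instance
      exact ⟨0, Subsingleton.elim _ _⟩
    haveI : Nonempty (f ⁻¹ᵁ V : X.Opens) := hne.to_subtype
    have hη : genericPoint X ∈ f ⁻¹ᵁ V :=
      ((genericPoint_spec X).mem_open_set_iff (f ⁻¹ᵁ V).isOpen).mpr (by simpa using hne)
    haveI : Nonempty V := ⟨⟨f (genericPoint X), hη⟩⟩
    letI : Algebra Γ(C, V) (C.presheaf.stalk (f (genericPoint X))) :=
      (C.presheaf.germ V _ hη).hom.toAlgebra
    haveI : IsFractionRing Γ(C, V) (C.presheaf.stalk (f (genericPoint X))) := by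
      have key : ∀ y : C, y = genericPoint C → ∀ hy : y ∈ V,
          @IsFractionRing Γ(C, V) _ (C.presheaf.stalk y) _ (C.presheaf.germ V y hy).hom.toAlgebra := by
        rintro y rfl hy
        exact functionField_isFractionRing_of_isAffineOpen C V hV
      exact key _ hdom hη
    haveI := isIntegrallyClosed_of_normal hN hV
    let e := (asIso (f.stalkMap (genericPoint X))).commRingCatIsoToRingEquiv
    have hcomp : ∀ a : Γ(C, V), e (algebraMap Γ(C, V) (C.presheaf.stalk (f (genericPoint X))) a) =
        X.presheaf.germ _ _ hη (f.app V a) := fun a => by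
      exact ConcreteCategory.congr_hom (f.germ_stalkMap V (genericPoint X) hη) a
    have hint : IsIntegral Γ(C, V) (e.symm (X.presheaf.germ _ _ hη b)) := by
      obtain ⟨p, hp, hpb⟩ := RingHom.Finite.to_isIntegral (f.finite_app V hV) b
      refine ⟨p, hp, e.injective ?_⟩
      rw [map_zero, ← RingEquiv.coe_toRingHom, Polynomial.hom_eval₂, RingEquiv.coe_toRingHom,
        e.apply_symm_apply]
      have h2 : e.toRingHom.comp (algebraMap Γ(C, V) (C.presheaf.stalk (f (genericPoint X)))) =
          (X.presheaf.germ _ _ hη).hom.comp (f.app V).hom := RingHom.ext hcomp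
      erw [h2, ← Polynomial.hom_eval₂, hpb, map_zero]
    obtain ⟨a, ha⟩ := IsIntegrallyClosed.isIntegral_iff.mp hint
    refine ⟨a, germ_injective_of_isIntegral X (genericPoint X) hη ?_⟩
    rw [← hcomp, ha, e.apply_symm_apply]
  exact isIso_of_isClosedImmersion_of_surjective f

/-- A degree one morphism from a proper curve to a normal curve is an isomorphism. -/
theorem isIso_of_proper_curve {k : Type u} [Field k] {C' C : Scheme.{u}}
    (p' : C' ⟶ Spec (CommRingCat.of k)) (p : C ⟶ Spec (CommRingCat.of k))
    [IsIntegral C'] [IsProper p'] (h1' : topologicalKrullDim C' ≤ 1)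
    [IsIntegral C] [IsSeparated p] (h1 : topologicalKrullDim C = 1)
    (hN : ∀ x : C, IsDomain (C.presheaf.stalk x) ∧ IsIntegrallyClosed (C.presheaf.stalk x))
    (f : C' ⟶ C) (hf : f ≫ p = p')
    (hdom : f.base (genericPoint C') = genericPoint C)
    (hdeg : IsIso (f.stalkMap (genericPoint C'))) : IsIso f := by
  haveI : IsProper f := by subst hf; exact IsProper.of_comp f p
  haveI : IsFinite f := by
    refine CurveTop.isFinite_of_nonconstant p' p f hf h1' fun Z hZ _ => ?_
    rw [irreducibleComponents_eq_singleton, Set.mem_singleton_iff] at hZ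
    subst hZ
    by_contra hnt
    have hrange : Set.range f = {genericPoint C} := by
      rw [← Set.image_univ]
      exact ((Set.not_nontrivial_iff.mp hnt).eq_singleton_of_mem ⟨genericPoint C', trivial, hdom⟩)
    have hcl : IsClosed ({genericPoint C} : Set C) := by
      rw [← hrange, ← Set.image_univ]; exact f.isClosedMap _ isClosed_univ
    haveI : Subsingleton C := ⟨fun a b => by
      have ha : a ∈ ({genericPoint C} : Set C) :=
        (genericPoint_spec C).specializes trivial |>.mem_closed hcl rfl
      have hb : b ∈ ({genericPoint C} : Set C) :=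
        (genericPoint_spec C).specializes trivial |>.mem_closed hcl rfl
      exact ha.trans hb.symm⟩
    haveI : DiscreteTopology C := ⟨Subsingleton.elim _ _⟩
    have h0 := topologicalKrullDim_zero_of_discreteTopology C
    rw [h1] at h0
    exact absurd h0 (by simp)
  exact isIso_of_isFinite_of_normal f hN hdom hdeg

end Groth.L21
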