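import Groth.Agent.L02.CMMor.AffineChart
import Groth.Agent.L05.Point.FibreMap
import Groth.Agent.L07.OpenDim
import Groth.Agent.L02.CMMor.SliceOne
import Groth.Agent.S2082
import Groth.Agent.S2768
import Groth.Agent.S1343

/-!
Quasi-finite morphisms to affine space of the expected dimension are flat at Cohen–Macaulay points.
-/

set_option autoImplicit false
set_option linter.style.haveILetI false
set_option backward.isDefEq.respectTransparency.types false
set_option backward.isDefEq.respectTransparency false

universe u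

open CategoryTheory CategoryTheory.Limits AlgebraicGeometry IsLocalRing

noncomputable section

namespace Groth.L21.GorChart

/-- The local rings of the fibres of a morphism smooth of relative dimension `d` have dimension at most `d`. -/
theorem dim_stalk_fiber_le {Y S : Scheme.{u}} (π : Y ⟶ S) (d : ℕ) [SmoothOfRelativeDimension d π] (s : S)
    (z : π.fiber s) : ringKrullDim ((π.fiber s).presheaf.stalk z) ≤ (d : WithBot ℕ∞) := by
  obtain ⟨y, hy⟩ : ∃ y : Y, π.fiberι s z = y := ⟨_, rfl⟩
  have hs : π y = s := by
    have : π.fiberι s z ∈ Set.range (π.fiberι s) := ⟨z, rfl⟩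
    rw [π.range_fiberι s] at this
    rw [← hy]
    exact this
  subst hs
  obtain rfl : z = π.asFiber y :=
    (π.fiberι (π y)).isEmbedding.injective (hy.trans (π.fiberι_asFiber y).symm)
  haveI : Smooth π := SmoothOfRelativeDimension.smooth d π
  let k := S.residueField (π y)
  letI : (π.fiber (π y)).Over (Spec (CommRingCat.of k)) := ⟨π.fiberToSpecResidueField (π y)⟩
  haveI : LocallyOfFiniteType ((π.fiber (π y)) ↘ Spec (CommRingCat.of k)) :=
    MorphismProperty.pullback_snd π (S.fromSpecResidueField (π y)) inferInstance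
  obtain ⟨a, b, -, hb, hab⟩ := Groth.L22.SchemeDim.exists_localDim k _ (π.asFiber y)
  have h := Groth.Agent.S2768.result d π y
  change FlatMor.localDim _ _ = _ at h
  rw [hab] at h
  rw [hb, ← h]
  exact_mod_cast Nat.le_add_left b a

/-- A locally quasi-finite morphism to affine `d`-space over the base is flat at a Cohen–Macaulay point whose
fibre has dimension `d`. -/
theorem flat_chart {X S : Scheme.{u}} (h : X ⟶ S) [LocallyOfFinitePresentation h]
    (hcm : ∀ y, MoreMor.IsCMAt h y) (d : ℕ) (g : X ⟶ 𝔸(ULift.{u} (Fin d); S))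
    (hw : g ≫ (𝔸(ULift.{u} (Fin d); S) ↘ S) = h) [LocallyQuasiFinite g] (x : X)
    (hd : FlatMor.fibreDimAt h x = (d : WithBot ℕ∞)) : (g.stalkMap x).hom.Flat := by
  let π := 𝔸(ULift.{u} (Fin d); S) ↘ S
  haveI : SmoothOfRelativeDimension d π := by
    have := Groth.L20.CMChart.smoothOfRelativeDimension_affineSpace (ULift.{u} (Fin d)) S
    rwa [Nat.card_eq_fintype_card, Fintype.card_ulift, Fintype.card_fin] at this
  haveI : Smooth π := L02.CMMor.smooth_affineSpace _ S
  haveI : LocallyOfFinitePresentation (g ≫ π) := by rw [show g ≫ π = h from hw]; infer_instance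
  haveI : LocallyOfFinitePresentation g := Groth.L20.locallyOfFinitePresentation_of_comp g π
  obtain ⟨x0, hxx0, hd0, hcl⟩ : ∃ x0, x ⤳ x0 ∧ FlatMor.fibreDimAt h x0 = (d : WithBot ℕ∞) ∧
      IsClosed ({h.asFiber x0} : Set ↑(h.fiber (h x0))) := by
    have hopen : IsOpen {y : X | FlatMor.fibreDimAt h y = (d : WithBot ℕ∞)} :=
      (L02.CMMor.isLocallyConstant_fibreDimAt h hcm).isOpen_fiber _
    let F := h.fiber (h x)
    haveI : LocallyOfFiniteType (h.fiberToSpecResidueField (h x)) :=
      MorphismProperty.pullback_snd h (S.fromSpecResidueField (h x)) inferInstance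
    haveI : JacobsonSpace F := LocallyOfFiniteType.jacobsonSpace (h.fiberToSpecResidueField (h x))
    obtain ⟨z, ⟨hz₁, hz₂⟩, hzc⟩ := nonempty_inter_closedPoints (X := F)
      (Z := h.fiberι (h x) ⁻¹' {y : X | FlatMor.fibreDimAt h y = (d : WithBot ℕ∞)} ∩ closure {h.asFiber x})
      ⟨h.asFiber x, show FlatMor.fibreDimAt h (h.fiberι (h x) (h.asFiber x)) = _ by
          rw [h.fiberι_asFiber]; exact hd, subset_closure rfl⟩
      ((hopen.preimage (h.fiberι (h x)).continuous).isLocallyClosed.inter isClosed_closure.isLocallyClosed)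
    refine ⟨h.fiberι (h x) z, ?_, hz₁, L02.CMMor.isClosed_asFiber h (h x) z _ rfl hzc⟩
    have := (specializes_iff_mem_closure.mpr hz₂).map (h.fiberι (h x)).continuous
    rwa [h.fiberι_asFiber] at this
  refine hxx0.mem_open (Groth.L20.isOpen_flat_stalkMap g) (?_ : (g.stalkMap x0).hom.Flat)
  let s := h x0
  let φ := CohIII.fiberMapOver g h π hw s
  let z := h.asFiber x0
  refine Groth.L05.Point.flat_of_fiberMapOver g π h hw x0 (hcm x0).1 z (h.fiberι_asFiber x0) ?_
  have sq := Groth.L05.Point.isPullback_fiberMapOver g π h hw s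
  haveI : LocallyQuasiFinite φ := MorphismProperty.of_isPullback sq inferInstance
  haveI : LocallyOfFiniteType φ := MorphismProperty.of_isPullback sq inferInstance
  haveI hsm : Smooth (π.fiberToSpecResidueField s) :=
    MorphismProperty.pullback_snd π (S.fromSpecResidueField s) inferInstance
  let A := (π.fiber s).presheaf.stalk (φ z)
  let B := (h.fiber s).presheaf.stalk z
  haveI : IsRegularLocalRing A := @Groth.L21.Smooth.regular_stalk _ _ _ (π.fiberToSpecResidueField s) hsm (φ z)
  haveI : LocCoh.IsCohenMacaulayLocalRing B := (hcm x0).2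
  letI : Algebra A B := (φ.stalkMap z).hom.toAlgebra
  haveI : IsLocalHom (algebraMap A B) := inferInstanceAs (IsLocalHom (φ.stalkMap z).hom)
  haveI : LocallyOfFiniteType (h.fiberToSpecResidueField s) :=
    MorphismProperty.pullback_snd h (S.fromSpecResidueField s) inferInstance
  haveI := LocallyOfFiniteType.isLocallyNoetherian (h.fiberToSpecResidueField s)
  haveI := LocallyOfFiniteType.isLocallyNoetherian (π.fiberToSpecResidueField s)
  have hB : ringKrullDim B = (d : WithBot ℕ∞) := (L02.CMMor.fibreDimAt_of_closed h x0 hcl).symm.trans hd0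
  have hA : ringKrullDim A ≤ (d : WithBot ℕ∞) := dim_stalk_fiber_le π d s (φ z)
  have h0 : ringKrullDim (B ⧸ (maximalIdeal A).map (algebraMap A B)) ≤ 0 := by
    refine le_of_eq_of_le (Groth.L07.OpenDim.fibre_ringKrullDim φ z).symm ?_
    haveI : DiscreteTopology ↥(φ.fiber (φ z)) := inferInstance
    rw [← PrimeSpectrum.topologicalKrullDim_eq_ringKrullDim]
    exact ((φ.fiber (φ z)).fromSpecStalk (φ.asFiber z)).isEmbedding.isInducing.topologicalKrullDim_le.trans
      (topologicalKrullDim_zero_of_discreteTopology _)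
  refine Groth.Agent.S2082.result (R := A) (S := B) (le_antisymm (Groth.L07.OpenDim.dim_le_add_fibre A B) ?_)
  calc ringKrullDim A + ringKrullDim (B ⧸ (maximalIdeal A).map (algebraMap A B))
      ≤ (d : WithBot ℕ∞) + 0 := add_le_add hA h0
    _ = ringKrullDim B := by rw [add_zero, hB]

end Groth.L21.GorChart
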