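import Groth.Agent.L21.GorensteinLCI
import Mathlib.AlgebraicGeometry.Noetherian

/-! Local complete intersection morphisms over Gorenstein schemes. -/

set_option autoImplicit false
set_option linter.style.haveILetI false
universe u

open CategoryTheory CategoryTheory.Limits AlgebraicGeometry

namespace Groth.L21.GorensteinLCI

theorem gorenstein_stalk_iff_localization {X : Scheme.{u}} {V : X.Opens} (hV : IsAffineOpen V)
    (q : PrimeSpectrum Γ(X, V)) :
    LocCoh.IsGorensteinLocalRing (X.presheaf.stalk (hV.fromSpec q)) ↔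
      LocCoh.IsGorensteinLocalRing (Localization.AtPrime q.asIdeal) := by
  have hx : hV.fromSpec q ∈ V := by
    have : hV.fromSpec q ∈ Set.range hV.fromSpec := ⟨q, rfl⟩
    rwa [hV.range_fromSpec] at this
  letI := X.presheaf.algebra_section_stalk ⟨_, hx⟩
  have h1 : hV.primeIdealOf ⟨_, hx⟩ = q :=
    hV.fromSpec.isOpenEmbedding.injective (hV.fromSpec_primeIdealOf ⟨_, hx⟩)
  have hl := hV.isLocalization_stalk ⟨_, hx⟩
  haveI : IsLocalization q.asIdeal.primeCompl (X.presheaf.stalk (hV.fromSpec q)) := by
    have hl' : IsLocalization (hV.primeIdealOf ⟨_, hx⟩).asIdeal.primeCompl (X.presheaf.stalk (hV.fromSpec q)) := hl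
    convert hl' using 2
    rw [h1]
  let e := (IsLocalization.algEquiv q.asIdeal.primeCompl (X.presheaf.stalk (hV.fromSpec q))
    (Localization.AtPrime q.asIdeal)).toRingEquiv
  exact ⟨GorensteinAscend.isGorensteinLocalRing_of_ringEquiv e,
    GorensteinAscend.isGorensteinLocalRing_of_ringEquiv e.symm⟩

theorem isGorenstein_of_isLCIMor {Y X : Scheme.{u}} (f : Y ⟶ X) (hf : Dual3.IsLCIMor f)
    (hX : Dual3.IsGorenstein X) : Dual3.IsGorenstein Y := by
  haveI := hX.1
  choose U V e hU hlci using hf
  have hG : ∀ y, LocCoh.IsGorensteinRing Γ(Y, (U y).1) := fun y => by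
    letI := (f.appLE (V y).1 (U y).1 (e y)).hom.toAlgebra
    haveI : IsNoetherianRing Γ(X, (V y).1) := IsLocallyNoetherian.component_noetherian (V y)
    refine isGorensteinRing_of_isLCI { (inferInstance : IsNoetherianRing Γ(X, (V y).1)) with isGorensteinLocalRing_localization := fun p _ => ?_ } (hlci y)
    exact (gorenstein_stalk_iff_localization (V y).2 ⟨p, inferInstance⟩).1 (hX.2 _)
  haveI : IsLocallyNoetherian Y := by
    refine isLocallyNoetherian_of_affine_cover (S := fun y : Y => U y) ?_ fun y =>
      (haveI := hG y; inferInstance)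
    exact eq_top_iff.2 fun y _ => TopologicalSpace.Opens.mem_iSup.2 ⟨y, hU y⟩
  refine ⟨inferInstance, fun y => ?_⟩
  have h := (gorenstein_stalk_iff_localization (U y).2 ((U y).2.primeIdealOf ⟨y, hU y⟩)).2
    ((hG y).isGorensteinLocalRing_localization _)
  rwa [(U y).2.fromSpec_primeIdealOf] at h

end Groth.L21.GorensteinLCI
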