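import Groth.Agent.L21.GorensteinScheme
import Groth.Agent.L07.CIScheme

/-! Gorenstein points and change of the base field; base change of Gorenstein morphisms. -/

set_option autoImplicit false
set_option linter.style.haveILetI false
set_option maxSynthPendingDepth 3
universe u

open CategoryTheory CategoryTheory.Limits AlgebraicGeometry IsLocalRing

namespace Groth.L21.GorensteinBaseChange

variable {k k' : Type u} [Field k] [Field k'] [Algebra k k'] {X : Scheme.{u}}

/-- The fibres of a change of base field have Gorenstein local rings, given this for the residue fields. -/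
theorem isGorenstein_fibre (f : X ⟶ Spec (CommRingCat.of k)) (x : X)
    (hres : letI := (Spec.preimage (X.fromSpecResidueField x ≫ f)).hom.toAlgebra
      IsNoetherianRing (TensorProduct k (X.residueField x) k') ∧
        GorensteinFieldExt.LocGor (TensorProduct k (X.residueField x) k'))
    (y : (pullback.fst f (Spec.map (CommRingCat.ofHom (algebraMap k k')))).fiber x) :
    LocCoh.IsGorensteinLocalRing
      (((pullback.fst f (Spec.map (CommRingCat.ofHom (algebraMap k k')))).fiber x).presheaf.stalk y) := by
  let g := Spec.map (CommRingCat.ofHom (algebraMap k k'))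
  let φ : CommRingCat.of k ⟶ X.residueField x := Spec.preimage (X.fromSpecResidueField x ≫ f)
  have hφ : Spec.map φ = X.fromSpecResidueField x ≫ f := Spec.map_preimage _
  letI := φ.hom.toAlgebra
  obtain ⟨hN, hL⟩ := hres
  let W := Spec (CommRingCat.of (TensorProduct k (X.residueField x) k'))
  let e : (pullback.fst f g).fiber x ≅ W :=
    (pullbackSymmetry (pullback.fst f g) (X.fromSpecResidueField x)) ≪≫
      pullbackRightPullbackFstIso f g (X.fromSpecResidueField x) ≪≫
      pullback.congrHom (hφ.symm) rfl ≪≫ pullbackSpecIso k (X.residueField x) k'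
  let w : W := e.hom y
  haveI hwp : (show PrimeSpectrum (TensorProduct k (X.residueField x) k') from w).asIdeal.IsPrime :=
    PrimeSpectrum.isPrime _
  let eR : W.presheaf.stalk w ≃+* ((pullback.fst f g).fiber x).presheaf.stalk y :=
    (asIso (e.hom.stalkMap y)).commRingCatIsoToRingEquiv
  haveI : IsNoetherianRing (TensorProduct k (X.residueField x) k') := hN
  letI : Algebra (TensorProduct k (X.residueField x) k') (W.presheaf.stalk w) :=
    StructureSheaf.stalkAlgebra _ w
  haveI : IsLocalization.AtPrime (W.presheaf.stalk w) w.asIdeal := StructureSheaf.IsLocalization.to_stalk _ w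
  haveI : IsNoetherianRing (W.presheaf.stalk w) :=
    IsLocalization.isNoetherianRing w.asIdeal.primeCompl _ hN
  haveI : IsNoetherianRing (Localization.AtPrime w.asIdeal) :=
    IsLocalization.isNoetherianRing w.asIdeal.primeCompl _ hN
  haveI := isNoetherianRing_of_ringEquiv _ eR
  exact GorensteinAscend.isGorensteinLocalRing_of_ringEquiv
    ((IsLocalization.algEquiv w.asIdeal.primeCompl (Localization.AtPrime w.asIdeal)
      (W.presheaf.stalk w)).toRingEquiv.trans eR) (hL w.asIdeal)

/-- A point of a base change to a larger field is Gorenstein iff its image is. -/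
theorem gorenstein_iff_of_field (f : X ⟶ Spec (CommRingCat.of k)) [IsLocallyNoetherian X]
    [IsLocallyNoetherian (pullback f (Spec.map (CommRingCat.ofHom (algebraMap k k'))))]
    (z : ↥(pullback f (Spec.map (CommRingCat.ofHom (algebraMap k k')))))
    (hres : letI := (Spec.preimage
        (X.fromSpecResidueField (pullback.fst f (Spec.map (CommRingCat.ofHom (algebraMap k k'))) z) ≫ f)).hom.toAlgebra
      IsNoetherianRing (TensorProduct k
          (X.residueField (pullback.fst f (Spec.map (CommRingCat.ofHom (algebraMap k k'))) z)) k') ∧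
        GorensteinFieldExt.LocGor (TensorProduct k
          (X.residueField (pullback.fst f (Spec.map (CommRingCat.ofHom (algebraMap k k'))) z)) k')) :
    LocCoh.IsGorensteinLocalRing ((pullback f (Spec.map (CommRingCat.ofHom (algebraMap k k')))).presheaf.stalk z) ↔
      LocCoh.IsGorensteinLocalRing
        (X.presheaf.stalk (pullback.fst f (Spec.map (CommRingCat.ofHom (algebraMap k k'))) z)) := by
  haveI : Flat (Spec.map (CommRingCat.ofHom (algebraMap k k'))) := by
    rw [HasRingHomProperty.Spec_iff (P := @Flat)]
    exact RingHom.flat_algebraMap_iff.mpr inferInstance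
  let p := pullback.fst f (Spec.map (CommRingCat.ofHom (algebraMap k k')))
  haveI : Flat p := inferInstance
  letI := (p.stalkMap z).hom.toAlgebra
  haveI : Module.Flat (X.presheaf.stalk (p z)) ((pullback f (Spec.map (CommRingCat.ofHom (algebraMap k k')))).presheaf.stalk z) :=
    Flat.stalkMap p z
  haveI : IsLocalHom (algebraMap (X.presheaf.stalk (p z)) ((pullback f (Spec.map (CommRingCat.ofHom (algebraMap k k')))).presheaf.stalk z)) :=
    inferInstanceAs (IsLocalHom (p.stalkMap z).hom)
  rw [GorensteinFlat.gorenstein_flat_local_iff (X.presheaf.stalk (p z))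
    ((pullback f (Spec.map (CommRingCat.ofHom (algebraMap k k')))).presheaf.stalk z)]
  exact ⟨fun h => h.1, fun h => ⟨h, (GorensteinScheme.gorenstein_fibre_iff p z).2
    (isGorenstein_fibre f (p z) hres (p.asFiber z))⟩⟩

theorem gorenstein_iff_of_isPullback (f : X ⟶ Spec (CommRingCat.of k)) [IsLocallyNoetherian X]
    {X' : Scheme.{u}} {p : X' ⟶ X} {q : X' ⟶ Spec (CommRingCat.of k')}
    (h : IsPullback p q f (Spec.map (CommRingCat.ofHom (algebraMap k k')))) [IsLocallyNoetherian X']
    (hres : ∀ x : X, letI := (Spec.preimage (X.fromSpecResidueField x ≫ f)).hom.toAlgebra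
      IsNoetherianRing (TensorProduct k (X.residueField x) k') ∧
        GorensteinFieldExt.LocGor (TensorProduct k (X.residueField x) k'))
    (z : X') :
    LocCoh.IsGorensteinLocalRing (X'.presheaf.stalk z) ↔ LocCoh.IsGorensteinLocalRing (X.presheaf.stalk (p z)) := by
  let e := h.isoPullback
  haveI : IsLocallyNoetherian (pullback f (Spec.map (CommRingCat.ofHom (algebraMap k k')))) :=
    isLocallyNoetherian_of_isOpenImmersion e.inv
  let eR : (pullback f (Spec.map (CommRingCat.ofHom (algebraMap k k')))).presheaf.stalk (e.hom z) ≃+*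
      X'.presheaf.stalk z := (asIso (e.hom.stalkMap z)).commRingCatIsoToRingEquiv
  have he : pullback.fst f (Spec.map (CommRingCat.ofHom (algebraMap k k'))) (e.hom z) = p z :=
    congrArg (fun m : X' ⟶ X => m z) h.isoPullback_hom_fst
  rw [← he, ← gorenstein_iff_of_field f (e.hom z) (hres _)]
  exact ⟨GorensteinAscend.isGorensteinLocalRing_of_ringEquiv eR.symm,
    GorensteinAscend.isGorensteinLocalRing_of_ringEquiv eR⟩

/-- Residue fields of schemes locally of finite type over a field tensor well with every field. -/
theorem res_of_locallyOfFiniteType (f : X ⟶ Spec (CommRingCat.of k)) [LocallyOfFiniteType f] (x : X) :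
    letI := (Spec.preimage (X.fromSpecResidueField x ≫ f)).hom.toAlgebra
    IsNoetherianRing (TensorProduct k (X.residueField x) k') ∧
      GorensteinFieldExt.LocGor (TensorProduct k (X.residueField x) k') := by
  letI := (Spec.preimage (X.fromSpecResidueField x ≫ f)).hom.toAlgebra
  exact GorensteinFieldExt.locGor_baseChange k (X.residueField x) k'
    (Groth.L07.CIScheme.residueField_fg f x _ (Spec.map_preimage _)) (GorensteinFieldExt.locGor_field k')

/-- The Gorenstein locus of a flat morphism locally of finite type commutes with base change. -/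
theorem isGorensteinAt_baseChange {X Y X' Y' : Scheme.{u}} (f : X ⟶ Y) [Flat f] [LocallyOfFiniteType f]
    (g : Y' ⟶ Y) (f' : X' ⟶ Y') (g' : X' ⟶ X) (hsq : IsPullback g' f' f g) (x' : X') :
    Dual3.IsGorensteinAt f' x' ↔ Dual3.IsGorensteinAt f (g' x') := by
  haveI : Flat f' := MorphismProperty.of_isPullback hsq inferInstance
  haveI : LocallyOfFiniteType f' := MorphismProperty.of_isPullback hsq inferInstance
  set y' := f' x'
  letI : Algebra (Y.residueField (g y')) (Y'.residueField y') := (g.residueFieldMap y').hom.toAlgebra
  haveI : LocallyOfFiniteType (f.fiberToSpecResidueField (g y')) :=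
    MorphismProperty.pullback_snd f (Y.fromSpecResidueField (g y')) inferInstance
  haveI : LocallyOfFiniteType (f'.fiberToSpecResidueField y') :=
    MorphismProperty.pullback_snd f' (Y'.fromSpecResidueField y') inferInstance
  haveI := LocallyOfFiniteType.isLocallyNoetherian (f.fiberToSpecResidueField (g y'))
  haveI := LocallyOfFiniteType.isLocallyNoetherian (f'.fiberToSpecResidueField y')
  have sq := isPullback_fiberToSpecResidueField_of_isPullback hsq y'
  have key := gorenstein_iff_of_isPullback (k := Y.residueField (g y')) (k' := Y'.residueField y')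
    (f.fiberToSpecResidueField (g y')) sq (res_of_locallyOfFiniteType _) (f'.asFiber x')
  let m : f'.fiber y' ⟶ f.fiber (g y') := pullback.map f' (Y'.fromSpecResidueField y') f
    (Y.fromSpecResidueField (g y')) g' (Spec.map (g.residueFieldMap y')) g hsq.w.symm (by simp)
  have hmc : m ≫ f.fiberι (g y') = f'.fiberι y' ≫ g' := pullback.lift_fst _ _ _
  have hm : f.fiberι (g y') (m (f'.asFiber x')) = g' x' :=
    ((congrArg (fun t : f'.fiber y' ⟶ X => t (f'.asFiber x')) hmc).trans
      (congrArg g' (f'.fiberι_asFiber x')))
  letI := (f.stalkMap (g' x')).hom.toAlgebra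
  obtain ⟨e⟩ := Groth.L07.CIScheme.exists_fiberStalkEquiv f (g y') _ (g' x') hm
  refine ⟨fun h => ⟨Flat.stalkMap f _, ?_⟩, fun h => ⟨Flat.stalkMap f' _, ?_⟩⟩
  · exact (GorensteinScheme.gorenstein_fibre_iff f (g' x')).1
      (GorensteinAscend.isGorensteinLocalRing_of_ringEquiv e.symm (key.1 h.2))
  · exact key.2 (GorensteinAscend.isGorensteinLocalRing_of_ringEquiv e
      ((GorensteinScheme.gorenstein_fibre_iff f (g' x')).2 h.2))

end Groth.L21.GorensteinBaseChange
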