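import Groth.Agent.L02.PC.Basic
import Groth.Prelude.Def_Koszul
import Mathlib.Algebra.Homology.DerivedCategory.HomologySequence
import Mathlib.Algebra.Homology.SingleHomology
import Mathlib.Algebra.Homology.Linear
import Mathlib.Algebra.Homology.ShortComplex.Linear
import Mathlib.RingTheory.Regular.RegularSequence
import Mathlib.RingTheory.Localization.AtPrime.Basic
import Mathlib.Algebra.Module.LocalizedModule.Basic
import Mathlib.RingTheory.Nakayama
import Mathlib.RingTheory.Finiteness.Basic

/-! Acyclic Koszul complexes and regular sequences in local rings. -/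

set_option autoImplicit false
set_option backward.isDefEq.respectTransparency false
universe u

open CategoryTheory CategoryTheory.Limits CategoryTheory.Pretriangulated RingTheory.Sequence

attribute [local instance] HasDerivedCategory.standard

namespace Groth.L21.KoszulRegular

variable {A : Type u} [CommRing A]

/-- Homology of the Koszul complex. -/
noncomputable abbrev H (l : List A) (i : ℤ) : ModuleCat.{u} A := (Koszul.koszul A l).homology i

theorem homologyMap_smul_id (K : CochainComplex (ModuleCat.{u} A) ℤ) (f : A) (n : ℤ) :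
    HomologicalComplex.homologyMap (f • 𝟙 K) n = f • 𝟙 (K.homology n) := by
  rw [← HomologicalComplex.homologyMap_id]
  exact ShortComplex.homologyMap_smul ((HomologicalComplex.shortComplexFunctor _ _ n).map (𝟙 K)) f

section LES

variable (f : A) (l : List A)

noncomputable def T : Triangle (CochainComplex (ModuleCat.{u} A) ℤ) :=
  CochainComplex.mappingCone.triangle (f • 𝟙 (Koszul.koszul A l))

theorem hT : DerivedCategory.Q.mapTriangle.obj (T f l) ∈ distTriang _ :=
  Groth.L02.PC.mappingCone_distinguished _

/-- `H^n(K(l)) → H^n(K(f :: l))` -/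
noncomputable def p (n : ℤ) : H l n →ₗ[A] H (f :: l) n := (HomologicalComplex.homologyMap (T f l).mor₂ n).hom

/-- `H^n₀(K(f :: l)) → H^n₁(K(l))` -/
noncomputable def d (n₀ n₁ : ℤ) (h : n₀ + 1 = n₁) : H (f :: l) n₀ →ₗ[A] H l n₁ :=
  (CochainComplex.homologyδOfTriangle (T f l) n₀ n₁ h).hom

theorem mor₁_apply (n : ℤ) (x : H l n) : (HomologicalComplex.homologyMap (T f l).mor₁ n).hom x = f • x :=
  (LinearMap.congr_fun (congrArg ModuleCat.Hom.hom (homologyMap_smul_id (Koszul.koszul A l) f n)) x).trans rfl

theorem smul_d (n₀ n₁ : ℤ) (h : n₀ + 1 = n₁) (y : H (f :: l) n₀) : f • d f l n₀ n₁ h y = 0 := by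
  rw [← mor₁_apply f l n₁]
  exact LinearMap.congr_fun (congrArg ModuleCat.Hom.hom
    (CochainComplex.homologyδOfTriangle_homologyMap (T f l) (hT f l) n₀ n₁ h)) y

theorem p_smul (n : ℤ) (x : H l n) : p f l n (f • x) = 0 := by
  rw [← mor₁_apply f l n]
  exact LinearMap.congr_fun (congrArg ModuleCat.Hom.hom
    (CochainComplex.homologyMap_comp_eq_zero_of_distTriang (T f l) (hT f l) n)) x

theorem exact_d_smul (n₀ n₁ : ℤ) (h : n₀ + 1 = n₁) (x : H l n₁) (hx : f • x = 0) :
    ∃ y, d f l n₀ n₁ h y = x :=
  (ShortComplex.moduleCat_exact_iff _).1 (CochainComplex.homologyMap_exact₁_of_distTriang (T f l) (hT f l) n₀ n₁ h) x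
    ((mor₁_apply f l n₁ x).trans hx)

theorem exact_smul_p (n : ℤ) (x : H l n) (hx : p f l n x = 0) : ∃ x', f • x' = x := by
  obtain ⟨x', hx'⟩ := (ShortComplex.moduleCat_exact_iff _).1
    (CochainComplex.homologyMap_exact₂_of_distTriang (T f l) (hT f l) n) x hx
  exact ⟨x', (mor₁_apply f l n x').symm.trans hx'⟩

theorem exact_p_d (n₀ n₁ : ℤ) (h : n₀ + 1 = n₁) (y : H (f :: l) n₀) (hy : d f l n₀ n₁ h y = 0) :
    ∃ x, p f l n₀ x = y :=
  (ShortComplex.moduleCat_exact_iff _).1 (CochainComplex.homologyMap_exact₃_of_distTriang (T f l) (hT f l) n₀ n₁ h) y hy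

end LES

theorem finite_H [IsNoetherianRing A] : ∀ (l : List A) (i : ℤ), Module.Finite A (H l i) := by
  intro l
  induction l with
  | nil =>
    intro i
    by_cases hi : i = 0
    · subst hi
      exact Module.Finite.equiv
        ((HomologicalComplex.singleObjHomologySelfIso (ComplexShape.up ℤ) 0 (ModuleCat.of A A)).toLinearEquiv).symm
    · haveI : Subsingleton (H ([] : List A) i) := ModuleCat.subsingleton_of_isZero
        (HomologicalComplex.isZero_single_obj_homology (ComplexShape.up ℤ) 0 (ModuleCat.of A A) i hi)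
      infer_instance
  | cons f l ih =>
    intro i
    haveI := ih i
    haveI := ih (i + 1)
    haveI : IsNoetherian A (H (f :: l) i) := isNoetherian_of_range_eq_ker (p f l i) (d f l i (i + 1) rfl) (by
      ext y
      exact ⟨fun ⟨x, hx⟩ => hx ▸ LinearMap.congr_fun (congrArg ModuleCat.Hom.hom
          (CochainComplex.homologyMap_homologyδOfTriangle (T f l) (hT f l) i (i + 1) rfl)) x,
        fun hy => exact_p_d f l i (i + 1) rfl y hy⟩)
    infer_instance

theorem top : ∀ l : List A, (∀ i : ℤ, 0 < i → Subsingleton (H l i)) ∧ Nonempty (H l 0 ≃ₗ[A] A ⧸ Ideal.ofList l) := by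
  intro l
  induction l with
  | nil =>
    refine ⟨fun i hi => ModuleCat.subsingleton_of_isZero
      (HomologicalComplex.isZero_single_obj_homology (ComplexShape.up ℤ) 0 (ModuleCat.of A A) i (by omega)), ⟨?_⟩⟩
    exact (HomologicalComplex.singleObjHomologySelfIso (ComplexShape.up ℤ) 0 (ModuleCat.of A A)).toLinearEquiv ≪≫ₗ
      (Submodule.quotEquivOfEqBot (Ideal.ofList ([] : List A)) Ideal.ofList_nil).symm
  | cons f l ih =>
    obtain ⟨hpos, ⟨e⟩⟩ := ih
    refine ⟨fun i hi => subsingleton_of_forall_eq 0 fun y => ?_, ⟨?_⟩⟩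
    · haveI := hpos (i + 1) (by omega)
      haveI := hpos i hi
      obtain ⟨x, rfl⟩ := exact_p_d f l i (i + 1) rfl y (Subsingleton.elim _ _)
      rw [Subsingleton.elim x 0, map_zero]
    · have hp : Function.Surjective (p f l 0) := fun y => by
        haveI := hpos 1 one_pos
        exact exact_p_d f l 0 1 rfl y (Subsingleton.elim _ _)
      have hle : Ideal.ofList l ≤ Ideal.ofList (f :: l) := by rw [Ideal.ofList_cons]; exact le_sup_right
      let q : H l 0 →ₗ[A] A ⧸ Ideal.ofList (f :: l) := Submodule.factor hle ∘ₗ e.toLinearMap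
      have hq : Function.Surjective q := (Submodule.factor_surjective hle).comp e.surjective
      refine ((p f l 0).quotKerEquivOfSurjective hp).symm ≪≫ₗ Submodule.quotEquivOfEq _ _ ?_ ≪≫ₗ
        q.quotKerEquivOfSurjective hq
      refine le_antisymm (fun x hx => ?_) (fun x hx => ?_)
      · obtain ⟨x', rfl⟩ := exact_smul_p f l 0 x hx
        obtain ⟨c, hc⟩ := Ideal.Quotient.mk_surjective (e x')
        rw [LinearMap.mem_ker, map_smul]
        change f • Submodule.factor hle (e x') = 0
        rw [← hc]
        change Ideal.Quotient.mk (Ideal.ofList (f :: l)) (f * c) = 0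
        rw [Ideal.Quotient.eq_zero_iff_mem, Ideal.ofList_cons]
        exact Submodule.mem_sup_left (Ideal.mul_mem_right c _ (Ideal.mem_span_singleton_self f))
      · obtain ⟨c, hc⟩ := Ideal.Quotient.mk_surjective (e x)
        have hx' : Ideal.Quotient.mk (Ideal.ofList (f :: l)) c = 0 := by
          have : Submodule.factor hle (e x) = (0 : A ⧸ Ideal.ofList (f :: l)) := hx
          rwa [← hc] at this
        rw [Ideal.Quotient.eq_zero_iff_mem, Ideal.ofList_cons, Submodule.mem_sup] at hx'
        obtain ⟨u, hu, v, hv, huv⟩ := hx'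
        obtain ⟨w, rfl⟩ := Ideal.mem_span_singleton'.1 hu
        have : x = f • e.symm (Ideal.Quotient.mk _ w) := e.injective (by
          rw [map_smul, e.apply_symm_apply, ← hc]
          refine Ideal.Quotient.eq.2 ?_
          change c - f * w ∈ Ideal.ofList l
          rw [← huv, show w * f + v - f * w = v by ring]
          exact hv)
        rw [this]
        exact p_smul f l 0 _

/-- A finite module with `M = f M` near a prime containing `f` vanishes near that prime. -/
theorem exists_smul_eq_zero {M : Type u} [AddCommGroup M] [Module A M] [Module.Finite A M] (P : Ideal A) [P.IsPrime]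
    {f : A} (hf : f ∈ P) (h : ∀ x : M, ∃ s ∉ P, ∃ x', s • x = f • x') (x : M) : ∃ s ∉ P, s • x = 0 := by
  let L := Localization.AtPrime P
  let g := LocalizedModule.mkLinearMap P.primeCompl M
  have hx : g x = 0 := by
    have htop : (⊤ : Submodule L (LocalizedModule P.primeCompl M)) ≤
        Ideal.span {algebraMap A L f} • (⊤ : Submodule L (LocalizedModule P.primeCompl M)) := by
      intro z _
      obtain ⟨⟨m, s⟩, rfl⟩ := IsLocalizedModule.mk'_surjective P.primeCompl g z
      obtain ⟨t, ht, m', hm⟩ := h m
      rw [show Function.uncurry (IsLocalizedModule.mk' g) (m, s) =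
        algebraMap A L f • IsLocalizedModule.mk' g m' (⟨t, ht⟩ * s) from ?_]
      · exact Submodule.smul_mem_smul (Ideal.mem_span_singleton_self _) trivial
      · rw [algebraMap_smul, ← IsLocalizedModule.mk'_smul, ← hm]
        exact (IsLocalizedModule.mk'_cancel_left g m ⟨t, ht⟩ s).symm
    haveI : Module.Finite L (LocalizedModule P.primeCompl M) :=
      Module.Finite.of_isLocalizedModule P.primeCompl g
    have hbot := Submodule.eq_bot_of_le_smul_of_le_jacobson_bot _ _ Module.Finite.fg_top htop (by
      rw [IsLocalRing.jacobson_eq_maximalIdeal _ bot_ne_top, Ideal.span_singleton_le_iff_mem]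
      exact (IsLocalization.AtPrime.to_map_mem_maximal_iff L P f).2 hf)
    exact (Submodule.eq_bot_iff _).1 hbot _ trivial
  obtain ⟨s, hs⟩ := (IsLocalizedModule.eq_zero_iff P.primeCompl g).1 hx
  exact ⟨s, s.2, hs⟩

/-- An acyclic Koszul complex near a prime gives a weakly regular sequence in the local ring. -/
theorem isWeaklyRegular_localization [IsNoetherianRing A] (P : Ideal A) [P.IsPrime] :
    ∀ l : List A, (∀ x ∈ l, x ∈ P) → (∀ i : ℤ, i < 0 → ∀ y : H l i, ∃ s ∉ P, s • y = 0) →
      IsWeaklyRegular (Localization.AtPrime P) (l.reverse.map (algebraMap A (Localization.AtPrime P))) := by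
  intro l
  induction l with
  | nil => intro _ _; exact IsWeaklyRegular.nil _ _
  | cons f l ih =>
    intro hmem hac
    have hf : f ∈ P := hmem f List.mem_cons_self
    haveI := finite_H l
    have hac' : ∀ i : ℤ, i < 0 → ∀ y : H l i, ∃ s ∉ P, s • y = 0 := fun i hi y => by
      refine exists_smul_eq_zero P hf (fun x => ?_) y
      obtain ⟨s, hs, hsx⟩ := hac i hi (p f l i x)
      obtain ⟨x', hx'⟩ := exact_smul_p f l i (s • x) (by rw [map_smul, hsx])
      exact ⟨s, hs, x', hx'.symm⟩
    rw [List.reverse_cons, List.map_append, isWeaklyRegular_append_iff, List.map_singleton,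
      isWeaklyRegular_singleton_iff]
    refine ⟨ih (fun x hx => hmem x (List.mem_cons_of_mem f hx)) hac', ?_⟩
    obtain ⟨e⟩ := (top l).2
    let L := Localization.AtPrime P
    have hJ : Ideal.ofList (l.reverse.map (algebraMap A L)) = (Ideal.ofList l).map (algebraMap A L) := by
      rw [← Ideal.map_ofList]
      congr 1
      exact congrArg Ideal.span (Set.ext fun _ => List.mem_reverse)
    rw [smul_eq_mul, Ideal.mul_top, hJ]
    rw [isSMulRegular_iff_right_eq_zero_of_smul]
    intro z hz
    obtain ⟨z, rfl⟩ := Ideal.Quotient.mk_surjective z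
    obtain ⟨a, s, rfl⟩ := IsLocalization.exists_mk'_eq P.primeCompl z
    have hz' : algebraMap A L f * IsLocalization.mk' L a s ∈ (Ideal.ofList l).map (algebraMap A L) :=
      Ideal.Quotient.eq_zero_iff_mem.1 hz
    rw [IsLocalization.mul_mk'_eq_mk'_of_mul, IsLocalization.mk'_mem_map_algebraMap_iff P.primeCompl] at hz'
    obtain ⟨t, ht, hta⟩ := hz'
    obtain ⟨y, hy⟩ := exact_d_smul f l (-1) 0 (by norm_num) (e.symm (Ideal.Quotient.mk _ (t * a))) (by
      apply e.injective
      rw [map_smul, e.apply_symm_apply, map_zero]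
      refine Ideal.Quotient.eq_zero_iff_mem.2 ?_
      show f * (t * a) ∈ Ideal.ofList l
      rw [mul_left_comm]
      exact hta)
    obtain ⟨r, hr, hry⟩ := hac (-1) (by norm_num) y
    have h2 : r * (t * a) ∈ Ideal.ofList l := by
      have := congrArg e (congrArg (fun w => r • w) hy)
      simp only [← map_smul, hry, map_zero, e.apply_symm_apply] at this
      exact Ideal.Quotient.eq_zero_iff_mem.1 this.symm
    rw [Ideal.Quotient.eq_zero_iff_mem, IsLocalization.mk'_mem_map_algebraMap_iff P.primeCompl]
    exact ⟨r * t, fun hmem' => (Ideal.IsPrime.mem_or_mem ‹_› hmem').elim hr ht, by rwa [mul_assoc]⟩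

end Groth.L21.KoszulRegular
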