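import Groth.Agent.L21.GorensteinScheme
import Groth.Agent.L21.GorensteinBaseChangeFG
import Groth.Agent.L19.FlatComp
import Groth.Agent.L05.Henselization.EtaleLike

/-! Gorenstein points and etale maps. -/

set_option autoImplicit false
set_option linter.style.haveILetI false
universe u

open CategoryTheory CategoryTheory.Limits AlgebraicGeometry IsLocalRing

namespace Groth.L21.GorensteinCharts

theorem flat_fibRing_and_map {A B C : Type u} [CommRing A] [CommRing B] [CommRing C]
    [IsLocalRing A] [IsLocalRing B] [IsLocalRing C]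
    [Algebra A B] [Algebra B C] [Algebra A C] [IsScalarTower A B C] [IsLocalHom (algebraMap A B)]
    [IsLocalHom (algebraMap B C)] [Module.Flat B C] [IsLocalHom (algebraMap A C)]
 :
    ∃ (_ : Algebra (EGA4.FibRing A B) (EGA4.FibRing A C))
      (_ : IsScalarTower B (EGA4.FibRing A B) (EGA4.FibRing A C)),
      Module.FaithfullyFlat (EGA4.FibRing A B) (EGA4.FibRing A C) ∧
        ((maximalIdeal B).map (algebraMap B C) = maximalIdeal C → (maximalIdeal (EGA4.FibRing A B)).map (algebraMap (EGA4.FibRing A B) (EGA4.FibRing A C)) =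
          maximalIdeal (EGA4.FibRing A C)) := by
  let Bb := EGA4.FibRing A B
  let Cb := EGA4.FibRing A C
  have hmap : (EGA4.mB A B).map (algebraMap B C) = EGA4.mB A C := by
    show ((maximalIdeal A).map _).map _ = (maximalIdeal A).map _
    rw [Ideal.map_map, ← IsScalarTower.algebraMap_eq]
  let f : Bb →+* Cb := Ideal.quotientMap (EGA4.mB A C) (algebraMap B C) (Ideal.map_le_iff_le_comap.mp hmap.le)
  letI : Algebra Bb Cb := f.toAlgebra
  haveI : IsScalarTower B Bb Cb := IsScalarTower.of_algebraMap_eq fun _ => rfl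
  haveI : IsLocalHom (algebraMap Bb Cb) := ⟨fun x hx => by
    obtain ⟨x, rfl⟩ := Ideal.Quotient.mk_surjective x
    have h1 : IsUnit (Ideal.Quotient.mk (EGA4.mB A C) (algebraMap B C x)) := hx
    haveI : IsLocalHom (Ideal.Quotient.mk (EGA4.mB A C)) := IsLocalHom.of_surjective _ Ideal.Quotient.mk_surjective
    exact ((isUnit_map_iff (algebraMap B C) x).mp ((isUnit_map_iff _ _).mp h1)).map _⟩
  haveI : Module.Flat Bb Cb := Groth.L07.RegFlat.flat_quotient (B := B) (N := C) (EGA4.mB A B) Ideal.Quotient.mk_surjective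
    Ideal.mk_ker (N' := Cb) (Ideal.Quotient.mkₐ B (EGA4.mB A C)).toLinearMap Ideal.Quotient.mk_surjective (by
      rw [Ideal.smul_top_eq_map, hmap]
      ext c
      exact Ideal.Quotient.eq_zero_iff_mem)
  refine ⟨f.toAlgebra, inferInstance, Module.FaithfullyFlat.of_flat_of_isLocalHom, fun hn => ?_⟩
  show (maximalIdeal Bb).map f = maximalIdeal Cb
  rw [← IsLocalRing.map_maximalIdeal_of_surjective (Ideal.Quotient.mk (EGA4.mB A B)) Ideal.Quotient.mk_surjective,
    ← IsLocalRing.map_maximalIdeal_of_surjective (Ideal.Quotient.mk (EGA4.mB A C)) Ideal.Quotient.mk_surjective,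
    ← hn, Ideal.map_map, Ideal.map_map]
  rfl

variable {X Y Z : Scheme.{u}}

theorem map_maximalIdeal_of_etale (p : X ⟶ Y) [Etale p] (x : X) :
    (maximalIdeal (Y.presheaf.stalk (p x))).map (p.stalkMap x).hom = maximalIdeal (X.presheaf.stalk x) := by
  have hu : (p.stalkMap x).hom.FormallyUnramified := AlgebraicGeometry.FormallyUnramified.stalkMap p x
  have he : (p.stalkMap x).hom.EssFiniteType := LocallyOfFiniteType.stalkMap p x
  algebraize [(p.stalkMap x).hom]
  haveI : IsLocalHom (algebraMap (Y.presheaf.stalk (p x)) (X.presheaf.stalk x)) :=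
    inferInstanceAs (IsLocalHom (p.stalkMap x).hom)
  exact Algebra.FormallyUnramified.map_maximalIdeal

theorem isGorensteinAt_congr {f g : X ⟶ Y} (e : f = g) (x : X) :
    Dual3.IsGorensteinAt f x ↔ Dual3.IsGorensteinAt g x := by subst e; rfl

/-- An etale morphism before does not change the Gorenstein property at a point. -/
theorem isGorensteinAt_etale_comp_iff (p : X ⟶ Y) [Etale p] (h : Y ⟶ Z) (x : X) :
    Dual3.IsGorensteinAt (p ≫ h) x ↔ Dual3.IsGorensteinAt h (p x) := by
  let A := Z.presheaf.stalk (h (p x))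
  let B := Y.presheaf.stalk (p x)
  let C := X.presheaf.stalk x
  letI iAB : Algebra A B := (h.stalkMap (p x)).hom.toAlgebra
  letI iBC : Algebra B C := (p.stalkMap x).hom.toAlgebra
  letI iAC : Algebra A C := ((p ≫ h).stalkMap x).hom.toAlgebra
  haveI : IsScalarTower A B C := IsScalarTower.of_algebraMap_eq' (by
    show ((p ≫ h).stalkMap x).hom = _
    rw [Scheme.Hom.stalkMap_comp]
    rfl)
  haveI : IsLocalHom (algebraMap A B) := inferInstanceAs (IsLocalHom (h.stalkMap (p x)).hom)
  haveI : IsLocalHom (algebraMap B C) := inferInstanceAs (IsLocalHom (p.stalkMap x).hom)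
  haveI : IsLocalHom (algebraMap A C) := inferInstanceAs (IsLocalHom ((p ≫ h).stalkMap x).hom)
  haveI : Module.Flat B C := Flat.stalkMap p x
  haveI : Algebra.EssFiniteType B C := RingHom.essFiniteType_algebraMap.mp (LocallyOfFiniteType.stalkMap p x)
  obtain ⟨i, it, hff, hmax'⟩ := flat_fibRing_and_map (A := A) (B := B) (C := C)
  have hmax := hmax' (map_maximalIdeal_of_etale p x)
  letI := i
  haveI := it
  haveI := hff
  constructor
  · rintro ⟨h1, h2⟩
    have hC := (GorensteinScheme.gorenstein_fibre_iff (p ≫ h) x).2 h2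
    haveI : Module.Flat A C := h1
    haveI : Module.FaithfullyFlat B C := Module.FaithfullyFlat.of_flat_of_isLocalHom
    haveI hC' : LocCoh.IsGorensteinLocalRing (EGA4.FibRing A C) := hC
    haveI : IsNoetherianRing (EGA4.FibRing A B) :=
      Groth.L19.isNoetherianRing_of_faithfullyFlat (EGA4.FibRing A B) (EGA4.FibRing A C)
    exact ⟨Groth.Agent.S6281.result (R := A) (S := B) C, (GorensteinScheme.gorenstein_fibre_iff h (p x)).1
      (GorensteinFlat.isGorensteinLocalRing_descend (A := EGA4.FibRing A B) (EGA4.FibRing A C) (hB := hC'))⟩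
  · rintro ⟨h1, h2⟩
    haveI : Module.Flat A B := h1
    haveI : LocCoh.IsGorensteinLocalRing (EGA4.FibRing A B) := (GorensteinScheme.gorenstein_fibre_iff h (p x)).2 h2
    haveI : Algebra.EssFiniteType B (EGA4.FibRing A C) := inferInstanceAs (Algebra.EssFiniteType B (C ⧸ _))
    haveI : Algebra.EssFiniteType (EGA4.FibRing A B) (EGA4.FibRing A C) := Algebra.EssFiniteType.of_comp B _ _
    haveI : IsNoetherianRing (EGA4.FibRing A C) := Algebra.EssFiniteType.isNoetherianRing (EGA4.FibRing A B) _
    have hG : LocCoh.IsGorensteinLocalRing (EGA4.FibRing A C) :=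
      GorensteinAscend.isGorensteinLocalRing_of_map_maximalIdeal (EGA4.FibRing A B) (EGA4.FibRing A C) hmax
    exact ⟨Module.Flat.trans A B C, (GorensteinScheme.gorenstein_fibre_iff (p ≫ h) x).1 hG⟩

/-- An etale morphism after does not change the Gorenstein property at a point. -/
theorem isGorensteinAt_comp_etale_iff (f : X ⟶ Y) (g : Y ⟶ Z) [Etale g] (x : X) :
    Dual3.IsGorensteinAt (f ≫ g) x ↔ Dual3.IsGorensteinAt f x := by
  refine and_congr (Groth.L23.flat_stalkMap_comp_etale_iff f g x) ?_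
  let A := Z.presheaf.stalk (g (f x))
  let B := Y.presheaf.stalk (f x)
  let C := X.presheaf.stalk x
  letI iBC : Algebra B C := (f.stalkMap x).hom.toAlgebra
  letI iAC : Algebra A C := ((f ≫ g).stalkMap x).hom.toAlgebra
  have e : EGA4.mB A C = EGA4.mB B C := by
    show (maximalIdeal A).map ((f ≫ g).stalkMap x).hom = (maximalIdeal B).map (f.stalkMap x).hom
    refine (congrArg (fun (t : Z.presheaf.stalk (g (f x)) ⟶ X.presheaf.stalk x) => (maximalIdeal A).map t.hom)
      (Scheme.Hom.stalkMap_comp f g x)).trans ?_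
    exact (Ideal.map_map (g.stalkMap (f x)).hom (f.stalkMap x).hom).symm.trans
      (congrArg (Ideal.map (f.stalkMap x).hom) (map_maximalIdeal_of_etale g (f x)))
  refine (GorensteinScheme.gorenstein_fibre_iff (f ≫ g) x).symm.trans
    (Iff.trans ?_ (GorensteinScheme.gorenstein_fibre_iff f x))
  exact ⟨GorensteinAscend.isGorensteinLocalRing_of_ringEquiv (Ideal.quotEquivOfEq e),
    GorensteinAscend.isGorensteinLocalRing_of_ringEquiv (Ideal.quotEquivOfEq e.symm)⟩

/-- The composite at a point, with hypotheses on the composite only. -/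
theorem isGorensteinAt_comp_of (f : X ⟶ Y) (g : Y ⟶ Z) (x : X) :
    (IsNoetherianRing (((f ≫ g).fiber ((f ≫ g) x)).presheaf.stalk ((f ≫ g).asFiber x)) →
      Dual3.IsGorensteinAt f x → Dual3.IsGorensteinAt g (f x) → Dual3.IsGorensteinAt (f ≫ g) x) ∧
      (Dual3.IsGorensteinAt (f ≫ g) x → (f.stalkMap x).hom.Flat →
        Dual3.IsGorensteinAt f x ∧ Dual3.IsGorensteinAt g (f x)) := by
  let A := Z.presheaf.stalk (g (f x))
  let B := Y.presheaf.stalk (f x)
  let C := X.presheaf.stalk x
  letI iAB : Algebra A B := (g.stalkMap (f x)).hom.toAlgebra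
  letI iBC : Algebra B C := (f.stalkMap x).hom.toAlgebra
  letI iAC : Algebra A C := ((f ≫ g).stalkMap x).hom.toAlgebra
  haveI : IsScalarTower A B C := IsScalarTower.of_algebraMap_eq' (by
    show ((f ≫ g).stalkMap x).hom = _
    rw [Scheme.Hom.stalkMap_comp]
    rfl)
  haveI : IsLocalHom (algebraMap A B) := inferInstanceAs (IsLocalHom (g.stalkMap (f x)).hom)
  haveI : IsLocalHom (algebraMap B C) := inferInstanceAs (IsLocalHom (f.stalkMap x).hom)
  haveI : IsLocalHom (algebraMap A C) := inferInstanceAs (IsLocalHom ((f ≫ g).stalkMap x).hom)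
  obtain ⟨e⟩ := Groth.L07.CIScheme.exists_fiberStalkEquiv (f ≫ g) ((f ≫ g) x) ((f ≫ g).asFiber x) x
    ((f ≫ g).fiberι_asFiber x)
  constructor
  · rintro hN ⟨hf, hGf⟩ ⟨hg, hGg⟩
    haveI : Module.Flat B C := hf
    haveI : Module.Flat A B := hg
    haveI : LocCoh.IsGorensteinLocalRing (EGA4.FibRing A B) := (GorensteinScheme.gorenstein_fibre_iff g (f x)).2 hGg
    haveI : IsNoetherianRing (EGA4.FibRing A C) := isNoetherianRing_of_ringEquiv _ e.symm
    refine ⟨Module.Flat.trans A B C, (GorensteinScheme.gorenstein_fibre_iff (f ≫ g) x).1 ?_⟩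
    exact (GorensteinScheme.gorenstein_fibre_comp_iff (A := A) (B := B) (C := C)).2
      ⟨(GorensteinScheme.gorenstein_fibre_iff g (f x)).2 hGg, (GorensteinScheme.gorenstein_fibre_iff f x).2 hGf⟩
  · rintro ⟨hfg, hG⟩ hf
    haveI : Module.Flat B C := hf
    haveI : Module.Flat A C := hfg
    haveI : Module.FaithfullyFlat B C := Module.FaithfullyFlat.of_flat_of_isLocalHom
    haveI : LocCoh.IsGorensteinLocalRing (EGA4.FibRing A C) := (GorensteinScheme.gorenstein_fibre_iff (f ≫ g) x).2 hG
    haveI : IsNoetherianRing (EGA4.FibRing A B) := by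
      obtain ⟨i, it, hff, -⟩ := flat_fibRing_and_map (A := A) (B := B) (C := C)
      letI := i
      haveI := hff
      exact Groth.L19.isNoetherianRing_of_faithfullyFlat (EGA4.FibRing A B) (EGA4.FibRing A C)
    obtain ⟨h1, h2⟩ := (GorensteinScheme.gorenstein_fibre_comp_iff (A := A) (B := B) (C := C)).1
      ((GorensteinScheme.gorenstein_fibre_iff (f ≫ g) x).2 hG)
    exact ⟨⟨hf, (GorensteinScheme.gorenstein_fibre_iff f x).1 h2⟩,
      ⟨Groth.Agent.S6281.result (R := A) (S := B) C, (GorensteinScheme.gorenstein_fibre_iff g (f x)).1 h1⟩⟩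

end Groth.L21.GorensteinCharts
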