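import Groth.Agent.L18.CurveModel
import Groth.Agent.L16.ProjSpace.Dim
import Groth.Agent.L16.ProjSpace.Basic
import Groth.Agent.L21.Curve.BirationalOpen
import Groth.Agent.L21.Curve.NormalConnected
import Groth.Agent.L21.Curve.SmoothDescent
import Groth.Agent.L21.Birational
import Groth.Agent.L18.ExtendCodimOne
import Groth.Agent.L18.CurveBasic
import Groth.Prelude.Def_Pi1
import Mathlib.FieldTheory.RatFunc.Luroth
import Mathlib.RingTheory.Polynomial.UniqueFactorization

/-!
The projective line is a normal curve; curves dominated by it.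
-/

set_option autoImplicit false
set_option linter.style.haveILetI false
universe u

open CategoryTheory CategoryTheory.Limits AlgebraicGeometry TopologicalSpace MvPolynomial

namespace Groth.L21.ProjLine

variable {k : Type u} [Field k]

theorem isNormalScheme : Pi1.IsNormalScheme (CohB1.ProjSpace 1 k) := by
  intro x
  haveI : IsIntegral (CohB1.ProjSpace 1 k) := Groth.L16.ProjSpace.isIntegral (n := 1) (R := k)
  refine ⟨inferInstance, ?_⟩
  obtain ⟨i, hi⟩ := TopologicalSpace.Opens.mem_iSup.mp
    (show x ∈ ⨆ i, Proj.basicOpen (CohB1.polyGrading 1 k) (X i) from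
      (Groth.L18.PS.iSup_chart (n := 1) (R := k)).ge trivial)
  rw [← Groth.L18.PS.range_chart] at hi
  obtain ⟨z, rfl⟩ := hi
  haveI : IsDomain (Groth.L18.CurveModel.R (k := k) i) :=
    (Groth.L18.CurveModel.chartEquiv (k := k) i).symm.toMulEquiv.isDomain _
  haveI : IsIntegrallyClosed (Groth.L18.CurveModel.R (k := k) i) :=
    IsIntegrallyClosed.of_equiv (Groth.L18.CurveModel.chartEquiv (k := k) i)
  haveI : IsIntegrallyClosed (Localization.AtPrime z.asIdeal) :=
    isIntegrallyClosed_of_isLocalization _ z.asIdeal.primeCompl z.asIdeal.primeCompl_le_nonZeroDivisors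
  exact IsIntegrallyClosed.of_equiv ((asIso ((Groth.L18.PS.chart 1 k i).stalkMap z)) ≪≫
    Spec.stalkIso (CommRingCat.of (Groth.L18.CurveModel.R (k := k) i)) z).commRingCatIsoToRingEquiv.symm

/-- The constants in the function field of a scheme over a field. -/
noncomputable def cst {S : Scheme.{u}} [IrreducibleSpace S] (p : S ⟶ Spec (CommRingCat.of k)) :
    k →+* S.functionField :=
  ((S.presheaf.germ ⊤ (genericPoint S) trivial).hom.comp p.appTop.hom).comp
    (Scheme.ΓSpecIso (CommRingCat.of k)).inv.hom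

theorem ffMap_comp_cst {S T : Scheme.{u}} [IsIntegral S] [IsIntegral T] (f : S ⟶ T)
    (e : f (genericPoint S) = genericPoint T) (p : T ⟶ Spec (CommRingCat.of k))
    (q : S ⟶ Spec (CommRingCat.of k)) (hf : f ≫ p = q) :
    (Curve.ffMap f e).comp (cst p) = cst q := by
  subst hf
  have h : T.presheaf.germ ⊤ (genericPoint T) trivial ≫
      T.presheaf.stalkSpecializes (specializes_of_eq e) ≫ f.stalkMap (genericPoint S) =
      f.appTop ≫ S.presheaf.germ ⊤ (genericPoint S) trivial := by
    rw [TopCat.Presheaf.germ_stalkSpecializes_assoc]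
    exact f.germ_stalkMap ⊤ (genericPoint S) trivial
  ext c
  exact ConcreteCategory.congr_hom h (p.appTop.hom ((Scheme.ΓSpecIso (CommRingCat.of k)).inv.hom c))

theorem specMap_fromSpecStalk_comp {S T : Scheme.{u}} [IsIntegral S] [IsIntegral T]
    (p : T ⟶ Spec (CommRingCat.of k)) (q : S ⟶ Spec (CommRingCat.of k))
    (ψ : T.functionField →+* S.functionField) (hψ : ψ.comp (cst p) = cst q) :
    (Spec.map (CommRingCat.ofHom ψ) ≫ T.fromSpecStalk (genericPoint T)) ≫ p =
      S.fromSpecStalk (genericPoint S) ≫ q := by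
  have h1 : (Scheme.ΓSpecIso (CommRingCat.of k)).inv ≫ p.appTop ≫
      T.presheaf.germ ⊤ (genericPoint T) trivial ≫ CommRingCat.ofHom ψ =
      (Scheme.ΓSpecIso (CommRingCat.of k)).inv ≫ q.appTop ≫ S.presheaf.germ ⊤ (genericPoint S) trivial := by
    ext c
    exact RingHom.congr_fun hψ c
  have h2 := (cancel_epi _).1 h1
  rw [← cancel_mono (Spec (CommRingCat.of k)).toSpecΓ]
  simp only [Category.assoc, Scheme.toSpecΓ_naturality, Scheme.fromSpecStalk_toSpecΓ_assoc]
  refine (congrArg (Spec.map (CommRingCat.ofHom ψ) ≫ ·) (Spec.map_comp _ _).symm).trans ?_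
  refine ((Spec.map_comp _ _).symm.trans ?_).trans (Spec.map_comp _ _)
  rw [Category.assoc]
  exact congrArg Spec.map h2

/-- The function field of the projective line is the field of rational functions. -/
theorem exists_ringEquiv_ratFunc [IsIntegral (CohB1.ProjSpace 1 k)] :
    ∃ θ : (CohB1.ProjSpace 1 k).functionField ≃+* RatFunc k,
      ∀ c : k, θ (cst (CohB1.ProjSpace.toSpec 1 k) c) = algebraMap k (RatFunc k) c := by
  have hfg : (⊤ : IntermediateField k (RatFunc k)).FG :=
    ⟨{RatFunc.X}, by rw [Finset.coe_singleton]; exact RatFunc.adjoin_X⟩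
  have htr : Algebra.trdeg k (RatFunc k) = 1 := by
    haveI : Algebra.IsAlgebraic (Polynomial k) (RatFunc k) :=
      (IsFractionRing.comap_isAlgebraic_iff (A := Polynomial k) (K := RatFunc k) (C := RatFunc k)).mpr
        inferInstance
    rw [← trdeg_add_eq k (Polynomial k) (A := RatFunc k), trdeg_eq_zero (R := Polynomial k) (A := RatFunc k),
      add_zero, Polynomial.trdeg_of_isDomain]
  obtain ⟨φ, hφ, hk⟩ := Groth.L18.CurveModel.exists_embedding (RatFunc k) hfg htr
  let E : IntermediateField k (RatFunc k) := { φ.fieldRange with algebraMap_mem' := fun c => ⟨_, hk c⟩ }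
  have hE : E ≠ ⊥ := fun hb => by
    have hmem : ∀ z, φ z ∈ (⊥ : IntermediateField k (RatFunc k)) := fun z => hb ▸ ⟨z, rfl⟩
    haveI : Module.Finite k (RatFunc k) := by
      rw [← RingHom.finite_algebraMap]
      have h : φ.comp (cst (CohB1.ProjSpace.toSpec 1 k)) = algebraMap k (RatFunc k) := RingHom.ext hk
      rw [← h]
      refine hφ.comp (RingHom.Finite.of_surjective _ fun z => ?_)
      obtain ⟨c, hc⟩ := IntermediateField.mem_bot.1 (hmem z)
      exact ⟨c, φ.injective ((hk c).trans hc)⟩
    exact RatFunc.transcendental_X (K := k) (Algebra.IsAlgebraic.isAlgebraic _)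
  let e₁ : (CohB1.ProjSpace 1 k).functionField ≃+* E :=
    RingEquiv.ofBijective (φ.codRestrict E fun z => ⟨z, rfl⟩)
      ⟨fun a b h => φ.injective (congrArg Subtype.val h), fun ⟨y, z, hz⟩ => ⟨z, Subtype.ext hz⟩⟩
  refine ⟨e₁.trans (RatFunc.Luroth.algEquiv hE).symm.toRingEquiv, fun c => ?_⟩
  have : e₁ (cst (CohB1.ProjSpace.toSpec 1 k) c) = algebraMap k E c := Subtype.ext (hk c)
  rw [RingEquiv.trans_apply, this]
  exact (RatFunc.Luroth.algEquiv hE).symm.commutes c

/-- The function field of a positive dimensional scheme over a field is not the constants. -/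
theorem cst_not_surjective {S : Scheme.{u}} [IsIntegral S] (p : S ⟶ Spec (CommRingCat.of k))
    (h : topologicalKrullDim S ≠ 0) : ¬ Function.Surjective (cst p) := by
  intro hs
  have hsing : ∀ U : S.Opens, IsAffineOpen U → ∀ x ∈ U, x = genericPoint S := by
    intro U hU x hx
    haveI : Nonempty U := ⟨⟨x, hx⟩⟩
    have hη : genericPoint S ∈ U :=
      ((genericPoint_spec S).mem_open_set_iff U.isOpen).mpr ⟨x, trivial, hx⟩
    have hfac : ∀ c, S.germToFunctionField U ((S.presheaf.map (homOfLE (le_top : U ≤ ⊤)).op)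
        (p.appTop.hom ((Scheme.ΓSpecIso (CommRingCat.of k)).inv.hom c))) = cst p c := fun c =>
      TopCat.Presheaf.germ_res_apply S.presheaf (homOfLE (le_top : U ≤ ⊤)) (genericPoint S) hη _
    let e : Γ(S, U) ≃+* S.functionField := RingEquiv.ofBijective (S.germToFunctionField U).hom
      ⟨S.germToFunctionField_injective U, fun z => by
        obtain ⟨c, hc⟩ := hs z
        exact ⟨_, (hfac c).trans hc⟩⟩
    haveI : Subsingleton ↥(Spec Γ(S, U)) := by
      letI := (e.toMulEquiv.isField (Field.toIsField _)).toField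
      exact (inferInstance : Subsingleton (PrimeSpectrum Γ(S, U)))
    obtain ⟨a, ha⟩ : x ∈ Set.range hU.fromSpec := by rw [hU.range_fromSpec]; exact hx
    obtain ⟨b, hb⟩ : genericPoint S ∈ Set.range hU.fromSpec := by rw [hU.range_fromSpec]; exact hη
    rw [← ha, ← hb, Subsingleton.elim a b]
  haveI : Subsingleton S := ⟨fun a b => by
    obtain ⟨U, hU, ha, -⟩ := exists_isAffineOpen_mem_and_subset (X := S) (U := ⊤) (Opens.mem_top a)
    obtain ⟨V, hV, hb, -⟩ := exists_isAffineOpen_mem_and_subset (X := S) (U := ⊤) (Opens.mem_top b)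
    rw [hsing U hU a ha, hsing V hV b hb]⟩
  haveI : DiscreteTopology S := ⟨Subsingleton.elim _ _⟩
  haveI : Nonempty (IrreducibleCloseds S) :=
    ⟨⟨Set.univ, IrreducibleSpace.isIrreducible_univ S, isClosed_univ⟩⟩
  exact h (le_antisymm (topologicalKrullDim_zero_of_discreteTopology S) Order.krullDim_nonneg)

/-- A curve dominated by the projective line has the same function field. -/
theorem exists_ringEquiv_functionField [IsIntegral (CohB1.ProjSpace 1 k)] {T : Scheme.{u}}
    [IsIntegral T] (p : T ⟶ Spec (CommRingCat.of k)) (hdim : topologicalKrullDim T ≠ 0)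
    (ψ : T.functionField →+* (CohB1.ProjSpace 1 k).functionField)
    (hψ : ψ.comp (cst p) = cst (CohB1.ProjSpace.toSpec 1 k)) :
    ∃ χ : T.functionField ≃+* (CohB1.ProjSpace 1 k).functionField,
      (χ : T.functionField →+* _).comp (cst p) = cst (CohB1.ProjSpace.toSpec 1 k) := by
  obtain ⟨θ, hθ⟩ := exists_ringEquiv_ratFunc (k := k)
  let φ : T.functionField →+* RatFunc k := (θ : _ →+* RatFunc k).comp ψ
  have hk : ∀ c, φ (cst p c) = algebraMap k (RatFunc k) c := fun c =>
    (congrArg θ (RingHom.congr_fun hψ c)).trans (hθ c)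
  let E : IntermediateField k (RatFunc k) := { φ.fieldRange with algebraMap_mem' := fun c => ⟨_, hk c⟩ }
  have hE : E ≠ ⊥ := fun hb => cst_not_surjective p hdim fun z => by
    obtain ⟨c, hc⟩ := IntermediateField.mem_bot.1 (show φ z ∈ (⊥ : IntermediateField k (RatFunc k)) by rw [← hb]; exact ⟨z, rfl⟩)
    exact ⟨c, φ.injective ((hk c).trans hc)⟩
  let e₁ : T.functionField ≃+* E :=
    RingEquiv.ofBijective (φ.codRestrict E fun z => ⟨z, rfl⟩)
      ⟨fun a b h => φ.injective (congrArg Subtype.val h), fun ⟨y, z, hz⟩ => ⟨z, Subtype.ext hz⟩⟩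
  refine ⟨(e₁.trans (RatFunc.Luroth.algEquiv hE).symm.toRingEquiv).trans θ.symm, RingHom.ext fun c => ?_⟩
  have : e₁ (cst p c) = algebraMap k E c := Subtype.ext (hk c)
  simp only [RingHom.comp_apply, RingEquiv.coe_toRingHom, RingEquiv.trans_apply, this]
  rw [show (RatFunc.Luroth.algEquiv hE).symm.toRingEquiv (algebraMap k E c) = algebraMap k _ c from
    (RatFunc.Luroth.algEquiv hE).symm.commutes c, RingEquiv.symm_apply_eq, hθ]

/-- A normal curve dominated by the projective line is the projective line. -/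
theorem exists_iso {T : Scheme.{u}} (p : T ⟶ Spec (CommRingCat.of k)) [IsSeparated p]
    [LocallyOfFiniteType p] [QuasiCompact p] [ConnectedSpace T] (hN : Pi1.IsNormalScheme T)
    (hdim : topologicalKrullDim T = 1)
    (f : CohB1.ProjSpace 1 k ⟶ T) (hf : f ≫ p = CohB1.ProjSpace.toSpec 1 k)
    (hnc : ∃ a b : ↥(CohB1.ProjSpace 1 k), f.base a ≠ f.base b) :
    ∃ e : T ≅ CohB1.ProjSpace 1 k, e.hom ≫ CohB1.ProjSpace.toSpec 1 k = p := by
  let P := CohB1.ProjSpace 1 k
  let q : P ⟶ Spec (CommRingCat.of k) := CohB1.ProjSpace.toSpec 1 k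
  haveI : IsIntegral P := Groth.L16.ProjSpace.isIntegral (n := 1) (R := k)
  haveI : IsProper q := Groth.L16.ProjSpace.isProper_toSpec (n := 1) (R := k)
  haveI : IsLocallyNoetherian P := LocallyOfFiniteType.isLocallyNoetherian q
  haveI : IsLocallyNoetherian T := LocallyOfFiniteType.isLocallyNoetherian p
  haveI : CompactSpace T := QuasiCompact.compactSpace_of_compactSpace p
  haveI : IsNoetherian T := ⟨⟩
  haveI : IsIntegral T := NormalTotal.isIntegral_of_connected fun x => (hN x).1
  haveI : IsProper f := by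
    haveI : IsProper (f ≫ p) := hf ▸ inferInstanceAs (IsProper q)
    exact IsProper.of_comp f p
  have e : f (genericPoint P) = genericPoint T := by
    by_contra hne
    obtain ⟨a, b, hab⟩ := hnc
    have hall : ∀ c, f (genericPoint P) = f c := fun c =>
      (Groth.L18.Curve.eq_or_eq_genericPoint_of_specializes
        (((genericPoint_spec P).specializes trivial).map f.continuous)
        ((SmoothDescent.ringKrullDim_stalk_le _).trans hdim.le)).resolve_right hne
    exact hab ((hall a).symm.trans (hall b))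
  haveI : Surjective f := ⟨fun y => by
    have hcl := f.isClosedMap _ isClosed_univ
    rw [Set.image_univ] at hcl
    exact ((genericPoint_spec T).specializes trivial).mem_closed hcl ⟨genericPoint P, e⟩⟩
  haveI : IsProper p := by
    haveI : UniversallyClosed (f ≫ p) := hf ▸ inferInstanceAs (UniversallyClosed q)
    haveI := UniversallyClosed.of_comp_surjective f p
    exact ⟨⟩
  obtain ⟨χ, hχ⟩ := exists_ringEquiv_functionField p (by rw [hdim]; exact one_ne_zero)
    (Curve.ffMap f e) (ffMap_comp_cst f e p q hf)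
  let g₀ : Spec P.functionField ⟶ T :=
    Spec.map (CommRingCat.ofHom (χ : T.functionField →+* P.functionField)) ≫ T.fromSpecStalk (genericPoint T)
  obtain ⟨V, hV, g, hg, hgp⟩ := spread_out_of_isGermInjective' q p (x := genericPoint P) g₀
    (specMap_fromSpecStalk_comp p q _ hχ)
  have hVd : Dense (V : Set P) := V.isOpen.dense ⟨_, hV⟩
  obtain ⟨U, hVU, g', hg'p, hg', hU⟩ := Groth.L18.Codim1.exists_extension_proper p q V hVd g hgp Set.univ
    fun y _ => ⟨(isNormalScheme y).1, by
      haveI := (isNormalScheme (k := k) y).2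
      refine Groth.L18.Codim1.valuationRing_of_normal _ ((SmoothDescent.ringKrullDim_stalk_le y).trans ?_)
      rw [Groth.L16.ProjSpace.topologicalKrullDim_eq_of_field, Nat.cast_one]⟩
  obtain rfl : U = ⊤ := eq_top_iff.2 fun y _ => hU y trivial
  let h : P ⟶ T := P.topIso.inv ≫ g'
  have hιinv : ∀ W : P.Opens, P.homOfLE (le_top : W ≤ ⊤) = W.ι ≫ P.topIso.inv := fun W => by
    rw [← cancel_mono (⊤ : P.Opens).ι, Scheme.homOfLE_ι, Category.assoc, ← Scheme.topIso_hom,
      Iso.inv_hom_id, Category.comp_id]
  have hhp : h ≫ p = q := by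
    rw [Category.assoc, hg'p, ← Scheme.topIso_hom, Iso.inv_hom_id_assoc]
  have hgen : P.fromSpecStalk (genericPoint P) ≫ h = g₀ := by
    refine Eq.trans ?_ hg.symm
    rw [← hg', hιinv, ← Scheme.Opens.fromSpecStalkOfMem_ι V (genericPoint P) hV]
    simp only [h, Category.assoc]
  have hdom : h (genericPoint P) = genericPoint T := by
    have h1 := congrArg (fun m : Spec P.functionField ⟶ T => m (IsLocalRing.closedPoint P.functionField)) hgen
    simp only [g₀, Scheme.Hom.comp_apply, Scheme.fromSpecStalk_closedPoint] at h1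
    rw [h1]
    exact (congrArg (T.fromSpecStalk (genericPoint T)) (@Subsingleton.elim (PrimeSpectrum T.functionField)
      inferInstance _ _)).trans Scheme.fromSpecStalk_closedPoint
  have hdeg : IsIso (h.stalkMap (genericPoint P)) := by
    have h1 : T.presheaf.stalkSpecializes (specializes_of_eq hdom) ≫ h.stalkMap (genericPoint P) =
        CommRingCat.ofHom (χ : T.functionField →+* P.functionField) := by
      refine Spec.map_injective ((cancel_mono (T.fromSpecStalk (genericPoint T))).1 ?_)
      rw [Spec.map_comp, Category.assoc, Scheme.SpecMap_stalkSpecializes_fromSpecStalk,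
        Scheme.SpecMap_stalkMap_fromSpecStalk]
      exact hgen
    haveI : IsIso (CommRingCat.ofHom (χ : T.functionField →+* P.functionField)) :=
      inferInstanceAs (IsIso χ.toCommRingCatIso.hom)
    haveI : IsIso (T.presheaf.stalkSpecializes (specializes_of_eq hdom)) :=
      inferInstanceAs (IsIso (T.presheaf.stalkCongr (Inseparable.of_eq hdom.symm)).hom)
    haveI : IsIso (T.presheaf.stalkSpecializes (specializes_of_eq hdom) ≫ h.stalkMap (genericPoint P)) := by
      rw [h1]; infer_instance
    exact IsIso.of_isIso_comp_left (T.presheaf.stalkSpecializes (specializes_of_eq hdom)) _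
  haveI : IsIso h := Groth.L21.isIso_of_proper_curve q p
    (Groth.L16.ProjSpace.topologicalKrullDim_eq_of_field 1 k).le hdim hN h hhp hdom hdeg
  exact ⟨(asIso h).symm, by rw [Iso.symm_hom, asIso_inv, IsIso.inv_comp_eq]; exact hhp.symm⟩

end Groth.L21.ProjLine
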