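import Mathlib.Algebra.Polynomial.Degree.Lemmas
import Mathlib.Algebra.Polynomial.Coeff
import Mathlib.Algebra.CharP.Basic
import Mathlib.Data.Nat.Choose.Lucas
import Mathlib.Data.Matrix.Mul
import Mathlib.Algebra.Ring.Parity
import Mathlib.Algebra.Polynomial.Taylor

namespace Groth.L21.CartierManin

open Polynomial

variable {k : Type*} [CommRing k]

theorem coeff_comp_X_add_C {N : ℕ} (F : k[X]) (hF : F.natDegree < N) (α : k) (m : ℕ) :
    (F.comp (X + C α)).coeff m = ∑ M ∈ Finset.range N, F.coeff M * α ^ (M - m) * (M.choose m : k) := by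
  conv_lhs => rw [F.as_sum_range' N hF]
  rw [← Polynomial.coe_compRingHom_apply, map_sum, finsetSum_coeff]
  refine Finset.sum_congr rfl fun M _ => ?_
  rw [Polynomial.coe_compRingHom_apply, monomial_comp, coeff_C_mul, coeff_X_add_C_pow]
  ring

variable (p : ℕ) [Fact p.Prime] [CharP k p]

theorem cast_choose_eq (M m : ℕ) :
    ((M.choose m : ℕ) : k) = ((M % p).choose (m % p) : ℕ) * ((M / p).choose (m / p) : ℕ) := by
  rw [← Nat.cast_mul, CharP.natCast_eq_natCast k p]
  exact Choose.choose_modEq_choose_mod_mul_choose_div_nat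

/-- The Cartier–Manin matrix of `(f (X + α))` in terms of the one of `f`. -/
theorem matrix_comp (hp : p ≠ 2) (g : ℕ) (hg : g ≤ p) (f : k[X]) (hf : f.natDegree ≤ 2 * g + 2) (α : k) :
    (Matrix.of fun i j : Fin g =>
        ((f.comp (Polynomial.X + Polynomial.C α)) ^ ((p - 1) / 2)).coeff (((i : ℕ) + 1) * p - ((j : ℕ) + 1))) =
      (Matrix.of fun i I : Fin g => (((I : ℕ).choose (i : ℕ) : ℕ) : k) * α ^ (((I : ℕ) - (i : ℕ)) * p)) *
        (Matrix.of fun i j : Fin g => (f ^ ((p - 1) / 2)).coeff (((i : ℕ) + 1) * p - ((j : ℕ) + 1))) *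
        (Matrix.of fun J j : Fin g => (((p - ((J : ℕ) + 1)).choose (p - ((j : ℕ) + 1)) : ℕ) : k) * α ^ ((j : ℕ) - (J : ℕ))) := by
  have hp2 : 2 ≤ p := (Fact.out : p.Prime).two_le
  obtain ⟨h, hh⟩ : ∃ h, p = 2 * h + 1 := ((Fact.out : p.Prime).odd_of_ne_two hp)
  rw [show (p - 1) / 2 = h by omega, ← pow_comp]
  set F := f ^ h with hFdef
  have hdeg : F.natDegree + g + 1 ≤ (g + 1) * p := by
    have h1 : F.natDegree ≤ h * (2 * g + 2) :=
      natDegree_pow_le.trans (Nat.mul_le_mul le_rfl hf)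
    have h2 : h * (2 * g + 2) + g + 1 = (g + 1) * p := by rw [hh]; ring
    omega
  ext i j
  have hi := i.isLt
  have hj := j.isLt
  set m := ((i : ℕ) + 1) * p - ((j : ℕ) + 1) with hm
  have hmval : m = (i : ℕ) * p + (p - ((j : ℕ) + 1)) := by
    have : ((i : ℕ) + 1) * p = (i : ℕ) * p + p := by ring
    omega
  have hmdiv : m / p = i ∧ m % p = p - ((j : ℕ) + 1) := by
    rw [Nat.div_mod_unique (by omega)]
    exact ⟨by rw [hmval]; ring, by omega⟩
  rw [Matrix.of_apply, coeff_comp_X_add_C F (show F.natDegree < (g + 1) * p by omega)]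
  simp only [Matrix.mul_apply, Matrix.of_apply, Finset.sum_mul]
  rw [Finset.sum_comm, ← Fintype.sum_prod_type']
  symm
  let φ : Fin g × Fin g → ℕ := fun q => (q.1 : ℕ) * p + (p - ((q.2 : ℕ) + 1))
  have hφdiv : ∀ q, φ q / p = q.1 ∧ φ q % p = p - ((q.2 : ℕ) + 1) := fun q => by
    have := q.2.isLt
    rw [Nat.div_mod_unique (by omega)]
    exact ⟨by simp only [φ]; ring, by omega⟩
  refine Finset.sum_of_injOn φ ?_ ?_ ?_ ?_
  · intro a _ b _ hab
    have h1 := hφdiv a
    have h2 := hφdiv b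
    rw [hab] at h1
    have := a.2.isLt
    have := b.2.isLt
    exact Prod.ext (Fin.ext (h1.1.symm.trans h2.1)) (Fin.ext (by omega))
  · intro q _
    simp only [Finset.coe_range, Set.mem_Iio]
    have := q.2.isLt
    have h1 : ((q.1 : ℕ) + 1) * p ≤ g * p := Nat.mul_le_mul q.1.isLt le_rfl
    have h2 : ((q.1 : ℕ) + 1) * p = (q.1 : ℕ) * p + p := by ring
    have h3 : (g + 1) * p = g * p + p := by ring
    simp only [φ]
    omega
  · intro M hM hMn
    rw [Finset.mem_range] at hM
    rw [cast_choose_eq p M m, hmdiv.1, hmdiv.2]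
    have hR : M % p < p := Nat.mod_lt _ (by omega)
    by_cases hFz : F.coeff M = 0
    · simp [hFz]
    have hMd : M ≤ F.natDegree := le_natDegree_of_ne_zero hFz
    by_cases hsmall : M % p < p - ((j : ℕ) + 1)
    · simp [Nat.choose_eq_zero_of_lt hsmall]
    exfalso
    have hI : M / p < g := by
      by_contra hI
      push Not at hI
      have h1 : g * p ≤ M / p * p := Nat.mul_le_mul hI le_rfl
      have h2 := Nat.div_add_mod M p
      have h3 : (g + 1) * p = g * p + p := by ring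
      have h4 : p * (M / p) = M / p * p := mul_comm _ _
      omega
    apply hMn
    refine ⟨(⟨M / p, hI⟩, ⟨p - 1 - M % p, by omega⟩), by simp, ?_⟩
    have h2 := Nat.div_add_mod M p
    have h4 : p * (M / p) = M / p * p := mul_comm _ _
    simp only [φ]
    omega
  · intro q _
    have hJ := q.2.isLt
    obtain ⟨hd, hr⟩ := hφdiv q
    rw [cast_choose_eq p (φ q) m, hd, hr, hmdiv.1, hmdiv.2]
    have hφv : ((q.1 : ℕ) + 1) * p - ((q.2 : ℕ) + 1) = φ q := by
      have : ((q.1 : ℕ) + 1) * p = (q.1 : ℕ) * p + p := by ring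
      simp only [φ]; omega
    rw [hφv]
    by_cases h1 : (q.1 : ℕ) < i
    · simp [Nat.choose_eq_zero_of_lt h1]
    by_cases h2 : (j : ℕ) < q.2
    · have h3 : p - ((q.2 : ℕ) + 1) < p - ((j : ℕ) + 1) := by omega
      simp [Nat.choose_eq_zero_of_lt h3]
    have hexp : φ q - m = ((q.1 : ℕ) - i) * p + ((j : ℕ) - q.2) := by
      obtain ⟨d, hd'⟩ : ∃ d, (q.1 : ℕ) = i + d := ⟨_, (Nat.add_sub_cancel' (not_lt.1 h1)).symm⟩
      have : (q.1 : ℕ) * p = (i : ℕ) * p + d * p := by rw [hd']; ring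
      simp only [φ]
      rw [hmval, hd', Nat.add_sub_cancel_left]
      rw [hd'] at this
      omega
    rw [hexp, pow_add]
    ring

end Groth.L21.CartierManin
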