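import Groth.Agent.L29.Dual.Gorenstein
import Groth.Agent.L29.Dual.ResidueDegree
import Mathlib.Algebra.Homology.DerivedCategory.Ext.Linear
import Mathlib.Algebra.Homology.DerivedCategory.Ext.ExactSequences

/-! The socle of a Gorenstein local ring modulo a regular element is one-dimensional. -/

set_option autoImplicit false
set_option backward.isDefEq.respectTransparency false
universe u

open CategoryTheory Abelian IsLocalRing

attribute [local instance] HasDerivedCategory.standard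

namespace Groth.L21.GorensteinSocle

theorem socle_dependent {R : Type u} [CommRing R] [LocCoh.IsGorensteinLocalRing R] {x : R}
    (hx : x ∈ maximalIdeal R) (hreg : x ∈ nonZeroDivisors R) {y z : R}
    (hy : ∀ r ∈ maximalIdeal R, x ∣ r * y) (hz : ∀ r ∈ maximalIdeal R, x ∣ r * z) :
    ∃ a b : R, (IsUnit a ∨ IsUnit b) ∧ x ∣ a * y + b * z := by
  let I : Submodule R R := LinearMap.range (LinearMap.lsmul R R x)
  have hI : ∀ t, t ∈ I ↔ x ∣ t := fun t => ⟨fun ⟨c, hc⟩ => ⟨c, hc.symm⟩, fun ⟨c, hc⟩ => ⟨c, hc.symm⟩⟩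
  let mk : ∀ y : R, (∀ r ∈ maximalIdeal R, x ∣ r * y) → ((R ⧸ maximalIdeal R) →ₗ[R] R ⧸ I) := fun y hy =>
    Submodule.liftQ (maximalIdeal R) (I.mkQ ∘ₗ LinearMap.toSpanSingleton R R y) fun r hr =>
      (Submodule.Quotient.mk_eq_zero I).2 ((hI _).2 (hy r hr))
  let S : ShortComplex (ModuleCat.{u} R) :=
    ShortComplex.mk (ModuleCat.ofHom (LinearMap.lsmul R R x)) (ModuleCat.ofHom I.mkQ)
      (by ext t; exact (Submodule.Quotient.mk_eq_zero I).2 ⟨_, rfl⟩)
  have hS : S.ShortExact :=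
    { exact := by
        rw [ShortComplex.moduleCat_exact_iff]
        intro t ht
        exact (Submodule.Quotient.mk_eq_zero I).1 ht
      mono_f := (ModuleCat.mono_iff_injective _).2 ((injective_iff_map_eq_zero _).2
        fun a ha => hreg.1 a ha)
      epi_g := (ModuleCat.epi_iff_surjective _).2 (Submodule.mkQ_surjective _) }
  let N := ModuleCat.of R (R ⧸ maximalIdeal R)
  let δ : ((R ⧸ maximalIdeal R) →ₗ[R] R ⧸ I) →ₗ[R] Ext N S.X₁ 1 :=
    (hS.extClass.postcompOfLinear R N (zero_add 1)) ∘ₗ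
      ((Ext.linearEquiv₀ (R := R) (X := N) (Y := S.X₃)).trans ModuleCat.homLinearEquiv).symm.toLinearMap
  have hδ : Function.Injective δ := by
    rw [injective_iff_map_eq_zero]
    intro φ hφ
    obtain ⟨w, hw⟩ := Ext.covariant_sequence_exact₃ N hS (Ext.mk₀ (ModuleCat.ofHom φ)) (zero_add 1) hφ
    obtain ⟨g, rfl⟩ := Ext.addEquiv₀.symm.surjective w
    rw [Ext.addEquiv₀_symm_apply, Ext.mk₀_comp_mk₀] at hw
    have hg : ∀ t, φ t = I.mkQ (g.hom t) := fun t =>
      (LinearMap.congr_fun (congrArg ModuleCat.Hom.hom ((Ext.mk₀_bijective _ _).1 hw)) t).symm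
    have hg0 : ∀ t, g.hom t = 0 := fun t => by
      obtain ⟨r, rfl⟩ := Ideal.Quotient.mk_surjective t
      apply hreg.1
      change x • g.hom _ = 0
      rw [← map_smul, show x • Ideal.Quotient.mk (maximalIdeal R) r = 0 from
        Ideal.Quotient.eq_zero_iff_mem.2 (Ideal.mul_mem_right r _ hx), map_zero]
    exact LinearMap.ext fun t => by rw [hg, hg0, map_zero]; rfl
  by_cases hy1 : x ∣ y
  · exact ⟨1, 0, Or.inl isUnit_one, by rwa [one_mul, zero_mul, add_zero]⟩
  obtain ⟨n, hn, ⟨en⟩⟩ := Groth.L29.HomD.residue_degree (maximalIdeal R)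
    (Groth.L29.Gorenstein.isGorensteinLocalRing_iff_isDualizing.1 (inferInstance : LocCoh.IsGorensteinLocalRing R))
  let eh : Ext N S.X₁ 1 ≃ₗ[R] (Dual.inD R (R ⧸ maximalIdeal R) ⟶ (Dual.inD R R)⟦((1 : ℕ) : ℤ)⟧) :=
    Ext.homLinearEquiv
  have hn1 : n = 1 := by
    by_contra hne
    haveI : Subsingleton (Dual.inD R (R ⧸ maximalIdeal R) ⟶ (Dual.inD R R)⟦((1 : ℕ) : ℤ)⟧) :=
      hn _ (by simpa using Ne.symm hne)
    haveI := eh.toEquiv.subsingleton
    have h0 := LinearMap.congr_fun (hδ (Subsingleton.elim (δ (mk y hy)) (δ 0))) (Submodule.Quotient.mk (1 : R))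
    have h1 : I.mkQ ((1 : R) • y) = 0 := h0
    rw [one_smul] at h1
    exact hy1 ((hI y).1 ((Submodule.Quotient.mk_eq_zero I).1 h1))
  subst hn1
  let ψ : ((R ⧸ maximalIdeal R) →ₗ[R] R ⧸ I) →ₗ[R] (R ⧸ maximalIdeal R) :=
    en.toLinearMap ∘ₗ eh.toLinearMap ∘ₗ δ
  have hψ : Function.Injective ψ := en.injective.comp (eh.injective.comp hδ)
  obtain ⟨α, hα⟩ := Ideal.Quotient.mk_surjective (ψ (mk y hy))
  obtain ⟨β, hβ⟩ := Ideal.Quotient.mk_surjective (ψ (mk z hz))
  have hαu : IsUnit α := by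
    by_contra hu
    have : ψ (mk y hy) = ψ 0 := by
      rw [map_zero, ← hα, Ideal.Quotient.eq_zero_iff_mem]
      exact hu
    have h1 : I.mkQ ((1 : R) • y) = 0 := LinearMap.congr_fun (hψ this) (Submodule.Quotient.mk (1 : R))
    rw [one_smul] at h1
    exact hy1 ((hI y).1 ((Submodule.Quotient.mk_eq_zero I).1 h1))
  refine ⟨β, -α, Or.inr hαu.neg, ?_⟩
  have h2 : ψ (β • mk y hy + (-α) • mk z hz) = ψ 0 := by
    rw [map_add, map_smul, map_smul, map_zero, ← hα, ← hβ]
    change Ideal.Quotient.mk (maximalIdeal R) (β * α) + Ideal.Quotient.mk (maximalIdeal R) (-α * β) = 0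
    rw [← map_add, show β * α + -α * β = 0 by ring, map_zero]
  have h3 : β • I.mkQ ((1 : R) • y) + (-α) • I.mkQ ((1 : R) • z) = 0 :=
    LinearMap.congr_fun (hψ h2) (Submodule.Quotient.mk (1 : R))
  rw [one_smul, one_smul, ← map_smul, ← map_smul, ← map_add] at h3
  exact (hI _).1 ((Submodule.Quotient.mk_eq_zero I).1 h3)

end Groth.L21.GorensteinSocle
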