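import Mathlib.AlgebraicGeometry.Morphisms.Affine
import Mathlib.RingTheory.DedekindDomain.Ideal.Lemmas
import Mathlib.RingTheory.DedekindDomain.PID

/-!
Open subschemes of the spectrum of a Dedekind domain are affine.
-/

set_option autoImplicit false
universe u

open CategoryTheory AlgebraicGeometry PrimeSpectrum

namespace Groth.L21.DedekindOpen

variable {A : Type u} [CommRing A] [IsDedekindDomain A]

/-- An ideal in a Dedekind domain is principal near every prime. -/
theorem exists_locally_principal (I : Ideal A) (P : Ideal A) [P.IsPrime] :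
    ∃ g ∉ P, ∃ f ∈ I, ∀ a ∈ I, ∃ c, g * a = c * f := by
  rcases eq_or_ne I ⊥ with rfl | hI
  · exact ⟨1, fun h => (inferInstance : P.IsPrime).ne_top (P.eq_top_iff_one.mpr h), 0, zero_mem _,
      fun a ha => ⟨0, by simp [Submodule.mem_bot A |>.mp ha]⟩⟩
  classical
  rcases eq_or_ne P ⊥ with rfl | hP
  · obtain ⟨f, hf, hf0⟩ := Submodule.exists_mem_ne_zero_of_ne_bot hI
    exact ⟨f, by simpa using hf0, f, hf, fun a _ => ⟨a, mul_comm f a⟩⟩
  haveI : IsPrincipalIdealRing (Localization.AtPrime P) :=
    have := IsLocalization.AtPrime.isDiscreteValuationRing_of_dedekind_domain A hP (Localization.AtPrime P)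
    inferInstance
  obtain ⟨π, hπ⟩ := (IsPrincipalIdealRing.principal (I.map (algebraMap A (Localization.AtPrime P)))).principal
  have hπmem : π ∈ I.map (algebraMap A (Localization.AtPrime P)) := hπ ▸ Submodule.mem_span_singleton_self π
  obtain ⟨⟨⟨f, hf⟩, s⟩, hfs⟩ := (IsLocalization.mem_map_algebraMap_iff P.primeCompl _).mp hπmem
  -- finitely many generators
  obtain ⟨T, hT⟩ := (IsNoetherian.noetherian I : I.FG)
  have key : ∀ a ∈ I, ∃ g ∉ P, ∃ c, g * a = c * f := fun a ha => by
    have h1 : algebraMap A (Localization.AtPrime P) a ∈ Ideal.span {π} := by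
      have := Ideal.mem_map_of_mem (algebraMap A (Localization.AtPrime P)) ha
      rwa [hπ] at this
    obtain ⟨c', hc'⟩ := Ideal.mem_span_singleton'.mp h1
    obtain ⟨c, t, rfl⟩ := IsLocalization.exists_mk'_eq P.primeCompl c'
    have h2 : algebraMap A (Localization.AtPrime P) (a * (s * t)) =
        algebraMap A (Localization.AtPrime P) (c * f) := by
      rw [map_mul, map_mul, map_mul, ← hc', ← hfs,
        ← IsLocalization.mk'_spec (Localization.AtPrime P) c t]
      ring
    obtain ⟨w, hw⟩ := IsLocalization.exists_of_eq (M := P.primeCompl) h2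
    refine ⟨(w * (s * t) : P.primeCompl), (w * (s * t)).2, w * c, ?_⟩
    simp only [Submonoid.coe_mul]
    linear_combination hw
  choose g hgP c hc using key
  let G : A := ∏ a : T, g a.1 (hT ▸ Submodule.subset_span a.2)
  refine ⟨G, fun h => ?_, f, hf, ?_⟩
  · obtain ⟨a, -, ha⟩ := ((inferInstance : P.IsPrime).prod_mem_iff).mp h
    exact hgP _ _ ha
  · intro a ha
    rw [← hT] at ha
    induction ha using Submodule.span_induction with
    | mem x hx =>
      obtain ⟨d, hd⟩ : g x (hT ▸ Submodule.subset_span hx) ∣ G :=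
        Finset.dvd_prod_of_mem (fun a : T => g a.1 (hT ▸ Submodule.subset_span a.2)) (Finset.mem_univ (⟨x, hx⟩ : T))
      exact ⟨d * c x (hT ▸ Submodule.subset_span hx), by rw [hd, mul_assoc d, ← hc x _]; ring⟩
    | zero => exact ⟨0, by simp⟩
    | add x y _ _ hx hy =>
      obtain ⟨cx, hx⟩ := hx
      obtain ⟨cy, hy⟩ := hy
      exact ⟨cx + cy, by rw [mul_add, hx, hy]; ring⟩
    | smul r x _ hx =>
      obtain ⟨cx, hx⟩ := hx
      exact ⟨r * cx, by rw [smul_eq_mul, mul_assoc r, ← hx]; ring⟩

/-- Open subschemes of the spectrum of a Dedekind domain are affine. -/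
theorem isAffineOpen (U : (Spec (CommRingCat.of A)).Opens) : IsAffineOpen U := by
  obtain ⟨I, hI⟩ : ∃ I : Ideal A, (U.carrier : Set (PrimeSpectrum A))ᶜ = zeroLocus (I : Set A) := by
    have hc : IsClosed (U.carrier : Set (PrimeSpectrum A))ᶜ := U.isOpen.isClosed_compl
    exact (isClosed_iff_zeroLocus_ideal _).mp hc
  haveI : IsAffineHom U.ι := isAffineHom_of_forall_exists_isAffineOpen _ fun x => by
    obtain ⟨g, hg, f, hf, hgf⟩ := exists_locally_principal I x.asIdeal
    refine ⟨PrimeSpectrum.basicOpen g, hg, IsAffineOpen.Spec_basicOpen (R := CommRingCat.of A) g, ?_⟩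
    rw [← U.ι.isAffineOpen_iff_of_isOpenImmersion, Scheme.Hom.image_preimage_eq_opensRange_inf, Scheme.Opens.opensRange_ι]
    convert IsAffineOpen.Spec_basicOpen (R := CommRingCat.of A) (g * f) using 1
    ext p
    change p ∈ (U.carrier : Set (PrimeSpectrum A)) ∩ {q | g ∉ q.asIdeal} ↔ g * f ∉ (p : PrimeSpectrum A).asIdeal
    rw [← compl_compl (U.carrier : Set (PrimeSpectrum A)), hI]
    simp only [Set.mem_inter_iff, Set.mem_compl_iff, mem_zeroLocus, Set.mem_ofPred_eq]
    constructor
    · rintro ⟨hp, hgp⟩ hmul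
      refine hp fun a ha => ?_
      obtain ⟨c, hc⟩ := hgf a ha
      have hfp : f ∈ p.asIdeal := (p.isPrime.mem_or_mem hmul).resolve_left hgp
      exact (p.isPrime.mem_or_mem (hc ▸ p.asIdeal.mul_mem_left c hfp)).resolve_left hgp
    · intro h
      exact ⟨fun hp => h (p.asIdeal.mul_mem_left g (hp hf)), fun hgp => h (p.asIdeal.mul_mem_right f hgp)⟩
  exact isAffine_of_isAffineHom U.ι

end Groth.L21.DedekindOpen
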