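import Groth.Prelude.Def_MeroDiv
import Groth.Agent.L22.Mero
import Mathlib.AlgebraicGeometry.Properties
import Mathlib.AlgebraicGeometry.Noetherian
import Mathlib.RingTheory.Ideal.MinimalPrime.Localization
import Mathlib.RingTheory.KrullDimension.Zero

/-! Divisors on curves are finite families of germs at closed points. -/

set_option autoImplicit false
universe u

open CategoryTheory AlgebraicGeometry TopologicalSpace _root_.Mero

noncomputable section

namespace Groth.L21.DivisorSupport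

variable {C : Scheme.{u}}

theorem isClosed_of_nonunit [IsNoetherian C]
    (hC : ∀ x : C, IsClosed ({x} : Set C) → ringKrullDim (C.presheaf.stalk x) = 1) (y : C)
    (c : C.presheaf.stalk y) (hc : c ∈ nonZeroDivisors (C.presheaf.stalk y)) (hu : ¬ IsUnit c) :
    IsClosed ({y} : Set C) := by
  by_contra hy
  obtain ⟨z, hz, hzc⟩ := IsClosed.exists_closed_singleton (isClosed_closure (s := ({y} : Set C)))
    (closure_nonempty_iff.2 (Set.singleton_nonempty y))
  have hlt : z < y := by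
    refine lt_iff_le_not_ge.2 ⟨Scheme.le_iff_specializes.2 (specializes_iff_mem_closure.2 hz), fun h => hy ?_⟩
    have : y = z := (Scheme.le_iff_specializes.1 h).mem_closed hzc rfl
    rw [this]
    exact hzc
  have h1 : Order.coheight z = 1 := by
    have := hC z hzc
    rw [ringKrullDim_stalk_eq_coheight] at this
    exact_mod_cast this
  have h0 : Order.coheight y = 0 := by
    have h2 := Order.coheight_add_one_le hlt
    rw [h1] at h2
    generalize Order.coheight y = n at h2 ⊢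
    cases n with
    | top => simp at h2
    | coe n =>
      have h3 : n + 1 ≤ 1 := by exact_mod_cast h2
      simp only [Nat.cast_eq_zero]
      omega
  haveI : Ring.KrullDimLE 0 (C.presheaf.stalk y) := by
    rw [Ring.KrullDimLE, Order.krullDimLE_iff]
    show ringKrullDim (C.presheaf.stalk y) ≤ _
    rw [ringKrullDim_stalk_eq_coheight, h0]
    simp
  exact Set.disjoint_left.mp (Ideal.disjoint_nonZeroDivisors_of_mem_minimalPrimes
    (Ideal.mem_minimalPrimes_of_krullDimLE_zero (IsLocalRing.maximalIdeal (C.presheaf.stalk y))))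
    ((IsLocalRing.mem_maximalIdeal c).2 hu) hc

theorem finite_notMem_basicOpen [IsNoetherian C]
    (hC : ∀ x : C, IsClosed ({x} : Set C) → ringKrullDim (C.presheaf.stalk x) = 1) {W : C.Opens}
    (c : Γ(C, W)) (hc : c ∈ regSub C W) :
    ((W : Set C) \ C.basicOpen c).Finite ∧ ∀ y ∈ (W : Set C) \ C.basicOpen c, IsClosed ({y} : Set C) := by
  have hpts : ∀ y ∈ (W : Set C) \ C.basicOpen c, IsClosed ({y} : Set C) := fun y hy =>
    isClosed_of_nonunit hC y _ (hc ⟨y, hy.1⟩) fun h => hy.2 ((C.mem_basicOpen c y hy.1).2 h)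
  refine ⟨?_, hpts⟩
  haveI : NoetherianSpace C := inferInstance
  let T : Set C := (W : Set C) \ C.basicOpen c
  haveI : NoetherianSpace T := Topology.IsEmbedding.subtypeVal.isInducing.noetherianSpace
  have hsing : ∀ Z ∈ irreducibleComponents T, Z.Subsingleton := by
    intro Z hZ
    have hcl : closure (Subtype.val '' Z) ∩ T = Subtype.val '' Z := by
      have h1 := isClosed_of_mem_irreducibleComponents Z hZ
      obtain ⟨F, hF, hFZ⟩ := isClosed_induced_iff.1 h1
      refine Set.Subset.antisymm ?_ (fun w hw => ⟨subset_closure hw, by obtain ⟨t, -, rfl⟩ := hw; exact t.2⟩)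
      rintro w ⟨hw, hwT⟩
      have : Subtype.val '' Z ⊆ F := by
        rintro _ ⟨t, ht, rfl⟩
        rw [← hFZ] at ht
        exact ht
      exact ⟨⟨w, hwT⟩, by rw [← hFZ]; exact closure_minimal this hF hw, rfl⟩
    obtain ⟨η, hη⟩ := QuasiSober.sober ((hZ.1.image Subtype.val continuous_subtype_val.continuousOn).closure)
      isClosed_closure
    have hηT : η ∈ T := by
      refine ⟨?_, fun h => ?_⟩
      · obtain ⟨t, ht⟩ := hZ.1.nonempty
        exact (hη.specializes (subset_closure ⟨t, ht, rfl⟩)).mem_open W.isOpen t.2.1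
      · obtain ⟨w, hw, t, ht, rfl⟩ := mem_closure_iff.1 hη.mem _ (C.basicOpen c).isOpen h
        exact t.2.2 hw
    have hclη := hpts η hηT
    intro a ha b hb
    have ha' : a.1 ∈ closure (Subtype.val '' Z) := subset_closure ⟨a, ha, rfl⟩
    have hb' : b.1 ∈ closure (Subtype.val '' Z) := subset_closure ⟨b, hb, rfl⟩
    rw [← hη.def, hclη.closure_eq, Set.mem_singleton_iff] at ha' hb'
    exact Subtype.ext (ha'.trans hb'.symm)
  have hfin : (Set.univ : Set T).Finite :=
    ((NoetherianSpace.finite_irreducibleComponents (α := T)).biUnion fun Z hZ => (hsing Z hZ).finite).subset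
      fun t _ => Set.mem_biUnion (irreducibleComponent_mem_irreducibleComponents t) mem_irreducibleComponent
  exact (hfin.image Subtype.val).subset fun y hy => ⟨⟨y, hy⟩, trivial, rfl⟩

/-- A fraction of two regular sections is a unit of the meromorphic functions. -/
theorem exists_unit_of_fraction {U : C.Opens} (a b : regSub C U) :
    ∃ f : (Γ(kmod C, U))ˣ, ∀ y : U,
      (Units.map (evalK C U y).toMonoidHom f : KStalk C y.1) =
        LocalizedModule.mk (C.presheaf.germ U y.1 y.2 a.1) (regGerm y b) := by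
  have mk : ∀ a b : regSub C U, (kLoc C).pred fun y : U =>
      (LocalizedModule.mk (C.presheaf.germ U y.1 y.2 a.1) (regGerm y b) : KStalk C y.1) := fun a b x =>
    ⟨U, x.2, 𝟙 _, a.1, b, fun _ => rfl⟩
  let F : regSub C U → regSub C U → Γ(kmod C, U) := fun a b => ⟨_, mk a b⟩
  have inv : ∀ a b : regSub C U, F a b * F b a = 1 := fun a b => by
    refine Groth.L22.Mero.kmod_ext fun y => ?_
    change (LocalizedModule.mk _ _ : KStalk C y.1) * LocalizedModule.mk _ _ = 1
    rw [← mk_self_eq_one (regGerm y (a * b))]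
    refine LocalizedModule.mk_mul_mk.trans (mk_congr ?_ ?_)
    · simp [regGerm]
    · simp [regGerm, mul_comm]
  exact ⟨⟨F a b, F b a, inv a b, inv b a⟩, fun y => rfl⟩

theorem mk_eq_one_class {x : C} (a : C.presheaf.stalk x) (b : regStalk C x) (ha : IsUnit a)
    (hb : IsUnit (b : C.presheaf.stalk x)) (q : (KStalk C x)ˣ)
    (hq : (q : KStalk C x) = LocalizedModule.mk a b) : (QuotientGroup.mk q : Germ C x) = 1 := by
  rw [QuotientGroup.eq_one_iff]
  obtain ⟨ua, hua⟩ := ha
  obtain ⟨ub, hub⟩ := hb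
  refine ⟨ua * ub⁻¹, Units.ext ?_⟩
  refine Eq.trans ?_ hq.symm
  change algebraMap (C.presheaf.stalk x) (KStalk C x) ((ua * ub⁻¹ : (C.presheaf.stalk x)ˣ) : C.presheaf.stalk x) = _
  rw [Groth.L22.Mero.algebraMap_eq_mk, Groth.L22.Mero.mk_eq_mk_iff]
  rw [OneMemClass.coe_one, mul_one, ← hua, ← hub, Units.val_mul, mul_assoc, Units.inv_mul, mul_one]

theorem exists_local_fraction {U : C.Opens} (f : (Γ(kmod C, U))ˣ) (x : U) :
    ∃ (W : C.Opens) (i : W ⟶ U) (a b : regSub C W), x.1 ∈ W ∧ ∀ y : W,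
      (Units.map (evalK C U (i y)).toMonoidHom f : KStalk C y.1) =
        LocalizedModule.mk (C.presheaf.germ W y.1 y.2 a.1) (regGerm y b) := by
  obtain ⟨V, hV, i, a, b, w⟩ := f.1.2 x
  obtain ⟨V', hV', i', a', b', w'⟩ := (↑f⁻¹ : Γ(kmod C, U)).2 x
  refine ⟨V ⊓ V', homOfLE inf_le_left ≫ i, ⟨C.presheaf.map (homOfLE inf_le_left).op a, fun y => ?_⟩,
    ⟨C.presheaf.map (homOfLE inf_le_left).op b.1, regSub_res _ b.2⟩, ⟨hV, hV'⟩, fun y => ?_⟩
  · have e : (f.1).1 (i ⟨y.1, y.2.1⟩) * (↑f⁻¹ : Γ(kmod C, U)).1 (i' ⟨y.1, y.2.2⟩) = 1 := by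
      exact congrArg (fun t : Γ(kmod C, U) => t.1 (i ⟨y.1, y.2.1⟩)) f.mul_inv
    have wa := w ⟨y.1, y.2.1⟩
    have wa' := w' ⟨y.1, y.2.2⟩
    dsimp only at wa wa'
    rw [wa, wa', ← mk_self_eq_one (1 : regStalk C y.1)] at e
    replace e := LocalizedModule.mk_mul_mk.symm.trans e
    rw [Groth.L22.Mero.mk_eq_mk_iff, OneMemClass.coe_one, mul_one, one_mul, Submonoid.coe_mul] at e
    change C.presheaf.germ (V ⊓ V') y.1 y.2 (C.presheaf.map (homOfLE inf_le_left).op a) ∈ _
    rw [TopCat.Presheaf.germ_res_apply]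
    exact (mul_mem_nonZeroDivisors.1 (e ▸ Submonoid.mul_mem _ (regStalk_le_nonZeroDivisors _ (regGerm ⟨y.1, y.2.1⟩ b).2)
      (regStalk_le_nonZeroDivisors _ (regGerm ⟨y.1, y.2.2⟩ b').2))).1
  · have wa := w ⟨y.1, y.2.1⟩
    dsimp only at wa
    refine (show (f.1).1 _ = _ from wa).trans (mk_congr ?_ ?_)
    · exact (TopCat.Presheaf.germ_res_apply C.presheaf _ y.1 y.2 a).symm
    · exact (TopCat.Presheaf.germ_res_apply C.presheaf _ y.1 y.2 b.1).symm

theorem mem_divisorGroup_iff [IsNoetherian C]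
    (hC : ∀ x : C, IsClosed ({x} : Set C) → ringKrullDim (C.presheaf.stalk x) = 1) (g : ∀ x : C, Germ C x) :
    g ∈ divisorGroup C ↔ ({x : C | g x ≠ 1}.Finite ∧ ∀ x : C, ¬ IsClosed ({x} : Set C) → g x = 1) := by
  constructor
  · intro hg
    have hloc : ∀ x : C, ∃ (W : C.Opens) (c : Γ(C, W)), x ∈ W ∧ c ∈ regSub C W ∧
        ∀ y ∈ W, y ∈ C.basicOpen c → g y = 1 := by
      intro x
      obtain ⟨U, hx, f, hf⟩ := hg x
      obtain ⟨W, i, a, b, hxW, hab⟩ := exists_local_fraction f ⟨x, hx⟩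
      refine ⟨W, a.1 * b.1, hxW, mul_mem a.2 b.2, fun y hyW hy => ?_⟩
      rw [C.mem_basicOpen _ y hyW, map_mul, IsUnit.mul_iff] at hy
      refine (hf (i ⟨y, hyW⟩)).trans ?_
      exact mk_eq_one_class _ (regGerm ⟨y, hyW⟩ b) hy.1 hy.2 _ (hab ⟨y, hyW⟩)
    choose W c hxW hc hgc using hloc
    refine ⟨?_, fun x hx => by_contra fun hne => hx ?_⟩
    · obtain ⟨t, ht⟩ := isCompact_univ.elim_finite_subcover (fun x => (W x : Set C)) (fun x => (W x).isOpen)
        (fun x _ => Set.mem_iUnion.2 ⟨x, hxW x⟩)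
      refine (t.finite_toSet.biUnion fun x _ => (finite_notMem_basicOpen hC (c x) (hc x)).1).subset fun y hy => ?_
      obtain ⟨x, hxt, hyx⟩ := Set.mem_iUnion₂.1 (ht (Set.mem_univ y))
      exact Set.mem_biUnion hxt ⟨hyx, fun h => hy (hgc x y hyx h)⟩
    · exact (finite_notMem_basicOpen hC (c x) (hc x)).2 x ⟨hxW x, fun h => hne (hgc x x (hxW x) h)⟩
  · rintro ⟨hfin, hcl⟩ x
    have hsupp : ∀ y, g y ≠ 1 → IsClosed ({y} : Set C) := fun y hy => by_contra fun h => hy (hcl y h)
    by_cases hgx : g x = 1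
    · let U : C.Opens := ⟨{y | g y ≠ 1}ᶜ, by
        rw [← Set.biUnion_of_singleton {y | g y ≠ 1}]
        exact (hfin.isClosed_biUnion fun y hy => hsupp y hy).isOpen_compl⟩
      refine ⟨U, fun h => h hgx, 1, fun y => ?_⟩
      rw [germOf, map_one, QuotientGroup.mk_one]
      exact not_not.1 y.2
    obtain ⟨q, hq⟩ := QuotientGroup.mk_surjective (g x)
    obtain ⟨⟨a₀, s⟩, hq1⟩ : ∃ p : C.presheaf.stalk x × regStalk C x, LocalizedModule.mk p.1 p.2 = (q : KStalk C x) := by
      induction (q : KStalk C x) using LocalizedModule.induction_on with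
      | h m t => exact ⟨(m, t), rfl⟩
    obtain ⟨⟨a₁, s'⟩, hq2⟩ : ∃ p : C.presheaf.stalk x × regStalk C x,
        LocalizedModule.mk p.1 p.2 = ((q⁻¹ : (KStalk C x)ˣ) : KStalk C x) := by
      induction ((q⁻¹ : (KStalk C x)ˣ) : KStalk C x) using LocalizedModule.induction_on with
      | h m t => exact ⟨(m, t), rfl⟩
    have e := q.mul_inv
    rw [← hq1, ← hq2, ← mk_self_eq_one (1 : regStalk C x)] at e
    replace e := LocalizedModule.mk_mul_mk.symm.trans e
    rw [Groth.L22.Mero.mk_eq_mk_iff, OneMemClass.coe_one, mul_one, one_mul, Submonoid.coe_mul] at e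
    obtain ⟨Ub, hxb, b, hb, hbg⟩ := s.2
    obtain ⟨Ub', hxb', b', hb', hbg'⟩ := s'.2
    obtain ⟨Ua, hxa, a, hag⟩ := TopCat.Presheaf.germ_exist C.presheaf a₀
    obtain ⟨Ua', hxa', a', hag'⟩ := TopCat.Presheaf.germ_exist C.presheaf a₁
    let V : C.Opens := Ua ⊓ Ua' ⊓ Ub ⊓ Ub'
    have le1 : V ≤ Ua := fun z hz => hz.1.1.1
    have le2 : V ≤ Ua' := fun z hz => hz.1.1.2
    have le3 : V ≤ Ub := fun z hz => hz.1.2
    have le4 : V ≤ Ub' := fun z hz => hz.2
    let L := C.presheaf.map (homOfLE le1).op a * C.presheaf.map (homOfLE le2).op a'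
    let R := C.presheaf.map (homOfLE le3).op b * C.presheaf.map (homOfLE le4).op b'
    have hxV : x ∈ V := ⟨⟨⟨hxa, hxa'⟩, hxb⟩, hxb'⟩
    obtain ⟨W', hxW', j1, j2, hLR⟩ := TopCat.Presheaf.germ_eq C.presheaf x hxV hxV L R (by
      simp only [L, R, map_mul, TopCat.Presheaf.germ_res_apply]
      rw [hag, hag', hbg, hbg']
      exact e)
    have hbW : C.presheaf.map (homOfLE (j1.le.trans le3)).op b ∈ regSub C W' := regSub_res _ hb
    have haW : C.presheaf.map (homOfLE (j1.le.trans le1)).op a ∈ regSub C W' := fun y => by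
      have h1 := congrArg (C.presheaf.germ W' y.1 y.2) hLR
      rw [TopCat.Presheaf.germ_res_apply, TopCat.Presheaf.germ_res_apply] at h1
      simp only [L, R, map_mul, TopCat.Presheaf.germ_res_apply] at h1
      change C.presheaf.germ W' y.1 y.2 _ ∈ _
      rw [TopCat.Presheaf.germ_res_apply]
      exact (mul_mem_nonZeroDivisors.1 (h1 ▸ Submonoid.mul_mem _
        (hb ⟨y.1, le3 (j1.le y.2)⟩) (hb' ⟨y.1, le4 (j1.le y.2)⟩))).1
    let A : regSub C W' := ⟨_, haW⟩
    let B : regSub C W' := ⟨_, hbW⟩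
    obtain ⟨hF, hFcl⟩ := finite_notMem_basicOpen hC (A.1 * B.1) (mul_mem A.2 B.2)
    let F : Set C := (((W' : Set C) \ C.basicOpen (A.1 * B.1)) ∪ {y | g y ≠ 1}) \ {x}
    have hFfin : F.Finite := (hF.union hfin).diff
    let U : C.Opens := ⟨(W' : Set C) ∩ Fᶜ, W'.isOpen.inter (by
      rw [← Set.biUnion_of_singleton F]
      refine (hFfin.isClosed_biUnion fun y hy => ?_).isOpen_compl
      rcases hy.1 with h | h
      exacts [hFcl y h, hsupp y h])⟩
    have leU : U ≤ W' := fun z hz => hz.1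
    obtain ⟨f, hf⟩ := exists_unit_of_fraction
      (⟨C.presheaf.map (homOfLE leU).op A.1, regSub_res _ A.2⟩ : regSub C U)
      ⟨C.presheaf.map (homOfLE leU).op B.1, regSub_res _ B.2⟩
    have hxU : x ∈ U := ⟨hxW', fun h => h.2 rfl⟩
    refine ⟨U, hxU, f, fun y => ?_⟩
    by_cases hyx : y.1 = x
    · obtain rfl : y = ⟨x, hxU⟩ := Subtype.ext hyx
      rw [← hq]
      congr 1
      refine Units.ext (Eq.trans hq1.symm ((mk_congr ?_ ?_).trans (hf ⟨_, hxU⟩).symm))
      · simp only [A, TopCat.Presheaf.germ_res_apply]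
        exact hag.symm
      · simp only [regGerm, B, TopCat.Presheaf.germ_res_apply]
        exact hbg.symm
    · have hgy : g y.1 = 1 := by_contra fun h => y.2.2 ⟨Or.inr h, hyx⟩
      have hu : y.1 ∈ C.basicOpen (A.1 * B.1) := by_contra fun h => y.2.2 ⟨Or.inl ⟨y.2.1, h⟩, hyx⟩
      rw [C.mem_basicOpen _ _ y.2.1, map_mul, IsUnit.mul_iff] at hu
      rw [hgy]
      refine (mk_eq_one_class _ _ ?_ ?_ _ (hf y)).symm
      · simp only [TopCat.Presheaf.germ_res_apply] at hu ⊢
        exact hu.1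
      · simp only [regGerm, TopCat.Presheaf.germ_res_apply] at hu ⊢
        exact hu.2

end Groth.L21.DivisorSupport
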