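import Groth.Prelude.Def_Curves
import Groth.Agent.L21.Tsen.Transcendence
import Groth.Agent.L19.Topology
import Mathlib.AlgebraicGeometry.FunctionField
import Mathlib.AlgebraicGeometry.Morphisms.FiniteType
import Mathlib.RingTheory.NoetherNormalization
import Mathlib.RingTheory.Ideal.GoingUp
import Mathlib.RingTheory.KrullDimension.Polynomial
import Mathlib.RingTheory.KrullDimension.Field
import Mathlib.Topology.KrullDimension
import Mathlib.RingTheory.AlgebraicIndependent.TranscendenceBasis

/-!
Function fields of finite type integral schemes over a field: transcendence degree is bounded by the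
dimension; Tsen's theorem for curves.
-/

set_option autoImplicit false
universe u

open CategoryTheory AlgebraicGeometry TopologicalSpace

namespace Groth.L21.FunctionField

/-- Noether normalization with the number of variables bounded by the dimension. -/
theorem exists_normalization_le {k : Type u} [Field k] (A : Type u) [CommRing A] [IsDomain A]
    [Algebra k A] [Algebra.FiniteType k A] {j : ℕ} (h : ringKrullDim A ≤ j) :
    ∃ s ≤ j, ∃ g : MvPolynomial (Fin s) k →ₐ[k] A, Function.Injective g ∧ g.IsIntegral := by
  obtain ⟨s, g, hg, hint⟩ := exists_integral_inj_algHom_of_fg k A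
  refine ⟨s, ?_, g, hg, hint⟩
  algebraize [g.toRingHom]
  haveI : FaithfulSMul (MvPolynomial (Fin s) k) A := (faithfulSMul_iff_algebraMap_injective _ _).mpr hg
  haveI : Algebra.IsIntegral (MvPolynomial (Fin s) k) A := ⟨hint⟩
  have hP : ringKrullDim (MvPolynomial (Fin s) k) ≤ ringKrullDim A := by
    have hsurj : Function.Surjective (PrimeSpectrum.comap (algebraMap (MvPolynomial (Fin s) k) A)) :=
      fun y => by
        obtain ⟨q, -, hq, hqy⟩ := Ideal.exists_ideal_over_prime_of_isIntegral y.asIdeal (⊥ : Ideal A)
          (le_of_eq_of_le (Ideal.comap_bot_of_injective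
            (algebraMap (MvPolynomial (Fin s) k) A) hg) bot_le)
        exact ⟨⟨q, hq⟩, PrimeSpectrum.ext hqy⟩
    rw [← PrimeSpectrum.topologicalKrullDim_eq_ringKrullDim,
      ← PrimeSpectrum.topologicalKrullDim_eq_ringKrullDim]
    exact Groth.L19.topologicalKrullDim_le_of_surjective_specializing hsurj (PrimeSpectrum.isClosedMap_comap_of_isIntegral (algebraMap _ A) hint).specializingMap
  have h1 := le_trans hP h
  rw [MvPolynomial.ringKrullDim_of_isNoetherianRing, ringKrullDim_eq_zero_of_field, zero_add,
    Nat.card_fin] at h1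
  exact_mod_cast h1

/-- Tsen: a field of fractions of a finitely generated domain of dimension at most one over an
algebraically closed field is C₁. -/
theorem isCr_one_of_dim_le_one {k : Type u} [Field k] [IsAlgClosed k] (A : Type u) [CommRing A]
    [IsDomain A] [Algebra k A] [Algebra.FiniteType k A] (K : Type u) [Field K] [Algebra A K]
    [IsFractionRing A K] (h : ringKrullDim A ≤ 1) : Curves.IsCr K 1 := by
  obtain ⟨s, hs, g, hg, hint⟩ := exists_normalization_le (k := k) A (j := 1) (by exact_mod_cast h)
  algebraize [g.toRingHom]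
  haveI : FaithfulSMul (MvPolynomial (Fin s) k) A := (faithfulSMul_iff_algebraMap_injective _ _).mpr hg
  haveI : Algebra.IsIntegral (MvPolynomial (Fin s) k) A := ⟨hint⟩
  haveI : IsScalarTower k (MvPolynomial (Fin s) k) A := IsScalarTower.of_algebraMap_eq fun r => (g.commutes r).symm
  letI : Algebra k K := Algebra.compHom K (algebraMap k A)
  haveI : IsScalarTower k A K := IsScalarTower.of_algebraMap_eq fun r => rfl
  haveI : FaithfulSMul A K := (faithfulSMul_iff_algebraMap_injective A K).mpr (IsFractionRing.injective A K)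
  haveI : Algebra.IsAlgebraic A K := (IsFractionRing.comap_isAlgebraic_iff (A := A) (K := K) (C := K)).mpr inferInstance
  have h1 : Algebra.trdeg k K = (s : Cardinal) := by
    rw [← trdeg_add_eq k A (A := K), ← trdeg_add_eq k (MvPolynomial (Fin s) k) (A := A),
      trdeg_eq_zero (R := A) (A := K), trdeg_eq_zero (R := MvPolynomial (Fin s) k) (A := A),
      MvPolynomial.trdeg_of_isDomain]
    simp
  obtain ⟨ι, x, hx⟩ := exists_isTranscendenceBasis' k K
  have hcard := hx.cardinalMk_eq_trdeg
  rw [h1] at hcard
  haveI : Finite ι := Cardinal.lt_aleph0_iff_finite.1 (by rw [hcard]; exact Cardinal.natCast_lt_aleph0)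
  haveI := Fintype.ofFinite ι
  have hc : Fintype.card ι = s := by
    rw [Cardinal.mk_fintype] at hcard
    exact_mod_cast hcard
  have hCi := Groth.L21.Tsen.isCi_of_isTranscendenceBasis
    (hx.comp_equiv (Fintype.equivFinOfCardEq hc).symm) (Groth.L21.Tsen.isCi_zero k)
  rw [zero_add] at hCi
  intro n d f hf hd hn
  obtain ⟨a, ha, h0⟩ := hCi 1 n (fun _ => f) (fun _ => d) (fun _ => hf) (fun _ => hd) (by
    simp only [Finset.sum_const, Finset.card_univ, Fintype.card_fin, one_smul]
    calc d ^ s ≤ d ^ 1 := Nat.pow_le_pow_right hd hs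
      _ < n := hn)
  exact ⟨a, ha, h0 0⟩

/-- The function field of a finite type integral scheme of dimension at most one over an algebraically
closed field is C₁. -/
theorem isCr_one_functionField {k : Type u} [Field k] [IsAlgClosed k] {C : Scheme.{u}}
    (f : C ⟶ Spec (CommRingCat.of k)) [LocallyOfFiniteType f] [IsIntegral C]
    (hdim : topologicalKrullDim C ≤ 1) : Curves.IsCr C.functionField 1 := by
  obtain ⟨U, hU, hxU, -⟩ :=
    Opens.isBasis_iff_nbhd.mp C.isBasis_affineOpens (Opens.mem_top (genericPoint C))
  haveI : Nonempty U := ⟨⟨_, hxU⟩⟩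
  have hle : U ≤ f ⁻¹ᵁ ⊤ := fun x _ => trivial
  let φ : k →+* Γ(C, U) :=
    (f.appLE ⊤ U hle).hom.comp (Scheme.ΓSpecIso (CommRingCat.of k)).inv.hom
  algebraize [φ]
  haveI : Algebra.FiniteType k Γ(C, U) := by
    have h1 := f.finiteType_appLE (isAffineOpen_top _) hU hle
    exact RingHom.FiniteType.comp h1 (RingHom.FiniteType.of_surjective _
      (Scheme.ΓSpecIso (CommRingCat.of k)).symm.commRingCatIsoToRingEquiv.surjective)
  haveI := functionField_isFractionRing_of_isAffineOpen C U hU
  refine isCr_one_of_dim_le_one (k := k) Γ(C, U) C.functionField ?_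
  calc ringKrullDim Γ(C, U) = topologicalKrullDim (PrimeSpectrum Γ(C, U)) :=
      (PrimeSpectrum.topologicalKrullDim_eq_ringKrullDim Γ(C, U)).symm
    _ ≤ topologicalKrullDim C := hU.fromSpec.isOpenEmbedding.isInducing.topologicalKrullDim_le
    _ ≤ 1 := hdim

end Groth.L21.FunctionField
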