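import Groth.Agent.L21.GorensteinCharts
import Groth.Agent.L23.FlatLocus
import Mathlib.Tactic.TFAE
import Groth.Agent.L24.Alg.NoethDescent
import Groth.Agent.L05.Henselization.StrictUniq
import Groth.Agent.L05.Henselization.Noeth

/-! Gorenstein morphisms of algebraic spaces at a point. -/

universe u

open CategoryTheory CategoryTheory.Limits AlgebraicGeometry AlgSp

set_option backward.isDefEq.respectTransparency.types false

namespace Groth.L21.GorensteinSpace

open Groth.L23 Groth.L21.GorensteinCharts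

variable {S : Scheme.{u}} {X Y Z : Sp S}

theorem isGorensteinAt_of_other_chart {f : X ⟶ Y} {U V U' V' : Over S} {a : (yon S).obj U ⟶ X}
    {b : (yon S).obj V ⟶ Y} {h : U ⟶ V} {a' : (yon S).obj U' ⟶ X} {b' : (yon S).obj V' ⟶ Y}
    {h' : U' ⟶ V'} (ha : RepWith @Etale a) (hb : RepWith @Etale b) (ha' : RepWith @Etale a')
    (hb' : RepWith @Etale b') (w : a ≫ f = (yon S).map h ≫ b) (w' : a' ≫ f = (yon S).map h' ≫ b')
    {u : U.left} {u' : U'.left} (e : Points.ofPt a' u' = Points.ofPt a u)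
    (hu : Dual3.IsGorensteinAt h.left u) : Dual3.IsGorensteinAt h'.left u' := by
  obtain ⟨U₂, p', p, sqU⟩ := exists_isPullback_of_representable ha'.1 a
  obtain ⟨V₂, r', r, sqV⟩ := exists_isPullback_of_representable hb'.1 b
  have hp : Etale p.left := repWith_prop ha' sqU
  have hr : Etale r.left := repWith_prop hb' sqV
  have hp' : Etale p'.left := repWith_prop ha sqU.flip
  have hr' : Etale r'.left := repWith_prop hb sqV.flip
  obtain ⟨l, hl', hl⟩ := exists_lift_yon sqV (p' ≫ h') (p ≫ h) (by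
    rw [Functor.map_comp, Functor.map_comp, Category.assoc, Category.assoc, ← w, ← w', ← Category.assoc,
      ← Category.assoc, sqU.w])
  obtain ⟨v, hv, hv'⟩ := exists_point_of_isPullback sqU (x := Points.ofScheme U' u') (u := u) (by
    rw [← Points.ofPt_eq_map_ofScheme, e])
  replace hv : p'.left v = u' := (Points.schemeEquiv U').injective (by
    show Points.ofScheme U' _ = Points.ofScheme U' _
    rw [← ofPt_map]; exact hv)
  subst hv hv'
  have h₁ : Dual3.IsGorensteinAt (p.left ≫ h.left) v := (isGorensteinAt_etale_comp_iff _ _ v).2 hu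
  rw [isGorensteinAt_congr (show p.left ≫ h.left = l.left ≫ r.left from congr($(hl.symm).left)) v,
    isGorensteinAt_comp_etale_iff] at h₁
  rw [← isGorensteinAt_etale_comp_iff p'.left h'.left v,
    isGorensteinAt_congr (show p'.left ≫ h'.left = l.left ≫ r'.left from congr($(hl'.symm).left)) v,
    isGorensteinAt_comp_etale_iff]
  exact h₁

/-- One chart diagram suffices for being Gorenstein at a point. -/
theorem locPAt_gorenstein_ofPt_iff {f : X ⟶ Y} {U V : Over S} {a : (yon S).obj U ⟶ X}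
    {b : (yon S).obj V ⟶ Y} {h : U ⟶ V} (ha : RepWith @Etale a) (hb : RepWith @Etale b)
    (w : a ≫ f = (yon S).map h ≫ b) (u : U.left) :
    LocPAt (fun h u => Dual3.IsGorensteinAt h u) f (Points.ofPt a u) ↔ Dual3.IsGorensteinAt h.left u :=
  ⟨fun H => H a b h u ha hb w rfl, fun H _ _ a' b' h' u' ha' hb' w' e =>
    isGorensteinAt_of_other_chart ha hb ha' hb' w w' e H⟩

/-- Locally Noetherian fibres of a morphism of spaces give locally Noetherian chart fibres. -/
theorem isLocallyNoetherian_chartFiber {F : X ⟶ Z}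
    (hF : ∀ (k : FieldPt Z) (Xk : Sp S) (a : Xk ⟶ X) (b : Xk ⟶ (yon S).obj k.pt),
      IsPullback a b F k.toHom → IsLocNoethSp Xk)
    {U W : Over S} {a : (yon S).obj U ⟶ X} {c : (yon S).obj W ⟶ Z} {h : U ⟶ W}
    (ha : RepWith @Etale a) (hc : RepWith @Etale c) (w : a ≫ F = (yon S).map h ≫ c)
    (w₀ : W.left) : IsLocallyNoetherian (h.left.fiber w₀) := by
  let k := FieldPt.ofPt c w₀
  let g : k.pt ⟶ W := Over.homMk (W.left.fromSpecResidueField w₀) rfl
  have sqQ : IsPullback (pullback.fst F k.toHom) (pullback.snd F k.toHom) F ((yon S).map g ≫ c) :=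
    (FieldPt.toHom_ofPt c w₀) ▸ IsPullback.of_hasPullback F k.toHom
  obtain ⟨T₀, p₀, hp₀, hps₀, hN⟩ := hF k _ _ _ (IsPullback.of_hasPullback F k.toHom)
  haveI := hN
  have sq : IsPullback (pullback.fst h g) (pullback.snd h g) h g := IsPullback.of_hasPullback h g
  have hm := repWith_etale_lift ha hc w sq sqQ
  let m := sqQ.lift ((yon S).map (pullback.fst h g) ≫ a) ((yon S).map (pullback.snd h g))
    (by rw [Category.assoc, w, ← Functor.map_comp_assoc, sq.w, Functor.map_comp, Category.assoc])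
  obtain ⟨T, q₁, q₂, sqT⟩ := exists_isPullback_of_representable hp₀.1 m
  haveI : Etale q₁.left := repWith_prop hm sqT.flip
  haveI : Etale q₂.left := repWith_prop hp₀ sqT
  haveI : Surjective q₂.left := repWith_prop hps₀ sqT
  let e := (sq.map (Over.forget S)).isoPullback
  haveI : IsLocallyNoetherian T.left := LocallyOfFiniteType.isLocallyNoetherian q₁.left
  haveI : IsIso e.hom := inferInstance
  exact Groth.L24.Alg.isLocallyNoetherian_of_fppf (q₂.left ≫ e.hom)

theorem isNoetherianRing_fiber_stalk {F : X ⟶ Z}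
    (hF : ∀ (k : FieldPt Z) (Xk : Sp S) (a : Xk ⟶ X) (b : Xk ⟶ (yon S).obj k.pt),
      IsPullback a b F k.toHom → IsLocNoethSp Xk)
    {U W : Over S} {a : (yon S).obj U ⟶ X} {c : (yon S).obj W ⟶ Z} {h : U ⟶ W}
    (ha : RepWith @Etale a) (hc : RepWith @Etale c) (w : a ≫ F = (yon S).map h ≫ c)
    (w₀ : W.left) (z : h.left.fiber w₀) : IsNoetherianRing ((h.left.fiber w₀).presheaf.stalk z) := by
  haveI := isLocallyNoetherian_chartFiber hF ha hc w w₀
  infer_instance

/-- Composition of Gorenstein points, for morphisms of algebraic spaces. -/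
theorem locPAt_gorenstein_comp (hX : IsAlgSpace X) (hY : IsAlgSpace Y) (hZ : IsAlgSpace Z)
    (f : X ⟶ Y) (g : Y ⟶ Z)
    (hfg : ∀ (k : FieldPt Z) (Xk : Sp S) (a : Xk ⟶ X) (b : Xk ⟶ (yon S).obj k.pt),
      IsPullback a b (f ≫ g) k.toHom → IsLocNoethSp Xk)
    (x : Points X) :
    (LocPAt (fun h u => Dual3.IsGorensteinAt h u) f x →
        LocPAt (fun h u => Dual3.IsGorensteinAt h u) g (Points.map f x) →
        LocPAt (fun h u => Dual3.IsGorensteinAt h u) (f ≫ g) x) ∧
      (LocPAt (fun h u => Dual3.IsGorensteinAt h u) (f ≫ g) x → IsFlatAtMor f x →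
        LocPAt (fun h u => Dual3.IsGorensteinAt h u) f x ∧
          LocPAt (fun h u => Dual3.IsGorensteinAt h u) g (Points.map f x)) := by
  obtain ⟨U₁, a₁, ha₁, has₁⟩ := hX.atlas
  obtain ⟨V₁, b₁, hb₁, hbs₁⟩ := hY.atlas
  obtain ⟨U, V, W, a, b, c, h₀, k, -, -, -, -, ha, has, hb, -, hc, w₁, w₂, -⟩ :=
    exists_charts₂ hZ f g ha₁ has₁ hb₁ hbs₁
  obtain ⟨u, rfl⟩ := surjective_ofPt has x
  have wU : a ≫ (f ≫ g) = (yon S).map (h₀ ≫ k) ≫ c := by
    rw [reassoc_of% w₁, w₂, Functor.map_comp, Category.assoc]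
  have hpt : Points.map f (Points.ofPt a u) = Points.ofPt b (h₀.left u) := by
    rw [Points.map_ofPt, w₁, ofPt_comp]
  rw [hpt, locPAt_gorenstein_ofPt_iff ha hb w₁, locPAt_gorenstein_ofPt_iff hb hc w₂,
    locPAt_gorenstein_ofPt_iff ha hc wU, isFlatAtMor_ofPt_iff ha hb w₁]
  obtain ⟨h1, h2⟩ := isGorensteinAt_comp_of h₀.left k.left u
  exact ⟨h1 (isNoetherianRing_fiber_stalk hfg ha hc wU _ _), h2⟩

/-- Schemes etale over Gorenstein schemes are Gorenstein. -/
theorem isGorenstein_of_etale {T U : Scheme.{u}} (q : T ⟶ U) [Etale q] (hU : Dual3.IsGorenstein U) :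
    Dual3.IsGorenstein T := by
  haveI := hU.1
  haveI : IsLocallyNoetherian T := LocallyOfFiniteType.isLocallyNoetherian q
  refine ⟨inferInstance, fun t => ?_⟩
  letI := (q.stalkMap t).hom.toAlgebra
  haveI : Module.Flat (U.presheaf.stalk (q t)) (T.presheaf.stalk t) := Flat.stalkMap q t
  haveI := hU.2 (q t)
  exact GorensteinAscend.isGorensteinLocalRing_of_map_maximalIdeal (U.presheaf.stalk (q t))
    (T.presheaf.stalk t) (map_maximalIdeal_of_etale q t)

theorem gorenstein_at_of_flat {A B : Scheme.{u}} (h : A ⟶ B) [Flat h] (hA : Dual3.IsGorenstein A) (a : A) :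
    Dual3.IsGorensteinAt h a ∧ LocCoh.IsGorensteinLocalRing (B.presheaf.stalk (h a)) := by
  haveI := hA.1
  haveI := hA.2 a
  letI := (h.stalkMap a).hom.toAlgebra
  haveI : Module.Flat (B.presheaf.stalk (h a)) (A.presheaf.stalk a) := Flat.stalkMap h a
  haveI : IsLocalHom (algebraMap (B.presheaf.stalk (h a)) (A.presheaf.stalk a)) :=
    inferInstanceAs (IsLocalHom (h.stalkMap a).hom)
  haveI : Module.FaithfullyFlat (B.presheaf.stalk (h a)) (A.presheaf.stalk a) :=
    Module.FaithfullyFlat.of_flat_of_isLocalHom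
  haveI : IsNoetherianRing (B.presheaf.stalk (h a)) :=
    Groth.L19.isNoetherianRing_of_faithfullyFlat _ (A.presheaf.stalk a)
  obtain ⟨hB, hC⟩ := (GorensteinFlat.gorenstein_flat_local_iff (B.presheaf.stalk (h a)) (A.presheaf.stalk a)).1 (hA.2 a)
  exact ⟨⟨Flat.stalkMap h a, (GorensteinScheme.gorenstein_fibre_iff h a).1 hC⟩, hB⟩

/-- A flat morphism out of a Gorenstein space. -/
theorem locPAt_gorenstein_of_flat (hY : IsAlgSpace Y) (f : X ⟶ Y) (hf : LocP @Flat f)
    (hX : EtaleLocally Dual3.IsGorenstein X) :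
    (∀ x : Points X, LocPAt (fun h u => Dual3.IsGorensteinAt h u) f x) ∧
      ∀ (x : Points X) (V : Over S) (b : (yon S).obj V ⟶ Y), RepWith @Etale b →
        ∀ v : V.left, Points.ofPt b v = Points.map f x →
          LocCoh.IsGorensteinLocalRing (V.left.presheaf.stalk v) := by
  obtain ⟨U₀, p₀, hp₀, hps₀, hG⟩ := hX
  refine ⟨fun x => ?_, fun x V b hb v hv => ?_⟩
  · obtain ⟨V, b, hb, hbs⟩ := hY.atlas
    obtain ⟨U, p, h₀, hp, ha, has, w⟩ := exists_chart_of_charts f hp₀ hps₀ hb hbs
    obtain ⟨u, rfl⟩ := surjective_ofPt has x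
    haveI := hp
    haveI : Flat h₀.left := hf _ b h₀ ha hb w
    exact (locPAt_gorenstein_ofPt_iff ha hb w u).2
      (gorenstein_at_of_flat h₀.left (isGorenstein_of_etale p.left hG) u).1
  · obtain ⟨U, h₀, p, sq⟩ := exists_isPullback_of_representable hb.1 (p₀ ≫ f)
    haveI : Etale p.left := repWith_prop hb sq
    have ha : RepWith @Etale ((yon S).map p ≫ p₀) := repWith_comp (repWith_map ‹Etale p.left›) hp₀
    haveI : Flat h₀.left := hf _ b h₀ ha hb (by rw [Category.assoc, sq.w])
    obtain ⟨u₀, rfl⟩ := surjective_ofPt hps₀ x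
    obtain ⟨u, hu, -⟩ := exists_point_of_isPullback sq (x := Points.ofScheme V v) (u := u₀) (by
      rw [← Points.ofPt_eq_map_ofScheme, hv, Points.map_ofPt])
    obtain rfl : h₀.left u = v := (Points.schemeEquiv V).injective (by
      show Points.ofScheme V _ = Points.ofScheme V v
      rw [← ofPt_map, hu])
    exact (gorenstein_at_of_flat h₀.left (isGorenstein_of_etale p.left hG) u).2

theorem isGorensteinLocalRing_strictHenselization (A R : Type u) [CommRing A] [LocCoh.IsGorensteinLocalRing A]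
    [CommRing R] [IsLocalRing R] [Algebra A R] [IsLocalHom (algebraMap A R)] [Hensel.IsStrictHenselization A R] :
    LocCoh.IsGorensteinLocalRing R := by
  haveI : Module.Flat A R := Groth.L05.Henselization.flat_of_isStrictHenselization A R
  haveI : IsNoetherianRing R := (Groth.L05.Henselization.isNoetherianRing_iff_strict A R).1 inferInstance
  exact GorensteinAscend.isGorensteinLocalRing_of_map_maximalIdeal A R
    (Groth.L05.Henselization.map_maximalIdeal_of_isStrictHenselization A R)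

/-- Base change of Gorenstein points along morphisms locally of finite type. -/
theorem locPAt_gorenstein_baseChange (hX : IsAlgSpace X) (hY : IsAlgSpace Y) {X' Y' : Sp S} (hY' : IsAlgSpace Y')
    {f : X ⟶ Y} {g : Y' ⟶ Y} {pX : X' ⟶ X} {f' : X' ⟶ Y'} (hsq : IsPullback pX f' f g)
    (hf : ∀ (k : FieldPt Y) (Xk : Sp S) (a : Xk ⟶ X) (b : Xk ⟶ (yon S).obj k.pt),
      IsPullback a b f k.toHom → IsLocNoethSp Xk)
    (hg : LocP @LocallyOfFiniteType g) (x' : Points X') :
    (LocPAt (fun h u => Dual3.IsGorensteinAt h u) f (Points.map pX x') →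
        LocPAt (fun h u => Dual3.IsGorensteinAt h u) f' x') ∧
      (IsFlatAtMor f (Points.map pX x') → LocPAt (fun h u => Dual3.IsGorensteinAt h u) f' x' →
        LocPAt (fun h u => Dual3.IsGorensteinAt h u) f (Points.map pX x')) ∧
      (IsFlatAtMor g (Points.map f' x') → LocPAt (fun h u => Dual3.IsGorensteinAt h u) f' x' →
        LocPAt (fun h u => Dual3.IsGorensteinAt h u) f (Points.map pX x')) := by
  obtain ⟨V, b, hb, hbs⟩ := hY.atlas
  obtain ⟨U₁, a₁, ha₁, has₁⟩ := hX.atlas
  obtain ⟨U, p, h₀, -, ha, has, w₁⟩ := exists_chart_of_charts f ha₁ has₁ hb hbs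
  set a := (yon S).map p ≫ a₁
  have sqQ := IsPullback.of_hasPullback b g
  obtain ⟨V', π, hπ, hπs⟩ :=
    (isAlgSpace_of_isPullback hY.diag (IsAlgSpace.yon_obj V) hY' sqQ).atlas
  let e := π ≫ pullback.snd b g
  have he : RepWith @Etale e := repWith_comp hπ (repWith_of_isPullback sqQ hb)
  obtain ⟨g₀, hg₀⟩ := (yon S).map_surjective (π ≫ pullback.fst b g)
  have heg : e ≫ g = (yon S).map g₀ ≫ b := by
    rw [hg₀, Category.assoc, Category.assoc, sqQ.w]
  let U' := pullback h₀ g₀
  let pU : U' ⟶ U := pullback.fst h₀ g₀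
  let h₀' : U' ⟶ V' := pullback.snd h₀ g₀
  have sU : IsPullback pU h₀' h₀ g₀ := IsPullback.of_hasPullback _ _
  have sQX : IsPullback (pullback.fst f' e ≫ pX) (pullback.snd f' e) f ((yon S).map g₀ ≫ b) :=
    heg ▸ (IsPullback.of_hasPullback f' e).paste_horiz hsq
  let lX := sQX.lift ((yon S).map pU ≫ a) ((yon S).map h₀')
    (by rw [Category.assoc, w₁, ← Functor.map_comp_assoc, sU.w, Functor.map_comp, Category.assoc])
  let a' := lX ≫ pullback.fst f' e
  have ha' : RepWith @Etale a' := repWith_comp (repWith_etale_lift ha hb w₁ sU sQX)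
    (repWith_of_isPullback (IsPullback.of_hasPullback f' e).flip he)
  have ea₁ : a' ≫ pX = (yon S).map pU ≫ a := by
    simp only [a', Category.assoc]; exact sQX.lift_fst _ _ _
  have ea₂ : a' ≫ f' = (yon S).map h₀' ≫ e := by
    simp only [a', Category.assoc, pullback.condition]
    rw [← Category.assoc, show lX ≫ pullback.snd f' e = _ from sQX.lift_snd _ _ _]
  clear_value a'
  obtain ⟨u', hu'⟩ : ∃ u' : U'.left, Points.ofPt a' u' = x' := by
    obtain ⟨u, hu⟩ := surjective_ofPt has (Points.map pX x')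
    have sR := IsPullback.of_hasPullback a pX
    obtain ⟨r, -, hr⟩ := exists_of_isPullback sR (Points.ofScheme U u) x'
      (by rw [← Points.ofPt_eq_map_ofScheme, hu])
    let m : pullback a pX ⟶ pullback b g :=
      sqQ.lift (pullback.fst a pX ≫ (yon S).map h₀) (pullback.snd a pX ≫ f') (by
        rw [Category.assoc, ← w₁, pullback.condition_assoc, Category.assoc, hsq.w])
    obtain ⟨w', hw'⟩ := surjective_ofPt hπs (Points.map m r)
    have sE := IsPullback.of_hasPullback m π
    obtain ⟨s, hs, -⟩ := exists_of_isPullback sE r (Points.ofScheme V' w')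
      (by rw [← Points.ofPt_eq_map_ofScheme, hw'])
    have sU' := sU.map (yon S)
    let n : pullback m π ⟶ (yon S).obj U' := sU'.lift
      (pullback.fst m π ≫ pullback.fst a pX) (pullback.snd m π) (by
        rw [hg₀, ← pullback.condition_assoc, sqQ.lift_fst, Category.assoc])
    have hn : n ≫ a' = pullback.fst m π ≫ pullback.snd a pX := by
      apply hsq.hom_ext
      · rw [Category.assoc, ea₁, ← Category.assoc n, sU'.lift_fst, Category.assoc, Category.assoc,
          pullback.condition]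
      · rw [Category.assoc, ea₂, ← Category.assoc n, sU'.lift_snd, ← pullback.condition_assoc,
          sqQ.lift_snd, Category.assoc]
    obtain ⟨u', hu'⟩ := (Points.schemeEquiv U').surjective (Points.map n s)
    change Points.ofScheme U' u' = _ at hu'
    refine ⟨u', ?_⟩
    rw [Points.ofPt_eq_map_ofScheme, hu', ← Points.map_comp, hn, Points.map_comp, hs, hr]
  subst hu'
  haveI : LocallyOfFiniteType g₀.left := hg e b g₀ he hb heg
  haveI : ∀ y, IsLocallyNoetherian (h₀.left.fiber y) := fun y => isLocallyNoetherian_chartFiber hf ha hb w₁ y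
  rw [Points.map_ofPt, ea₁, ofPt_comp, locPAt_gorenstein_ofPt_iff ha' he ea₂ u',
    locPAt_gorenstein_ofPt_iff ha hb w₁, isFlatAtMor_ofPt_iff ha hb w₁, Points.map_ofPt, ea₂, ofPt_comp,
    isFlatAtMor_ofPt_iff he hb heg]
  exact GorensteinBaseChange.isGorensteinAt_baseChange_fg h₀.left g₀.left h₀'.left pU.left
    (sU.map (Over.forget S)) u'

/-- Being Gorenstein at a point of the fibre of a chart. -/
theorem gorenstein_fiber_stalk_iff {A B : Scheme.{u}} (h : A ⟶ B) (b₀ : B) (z : h.fiber b₀) (a₀ : A)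
    (hz : h.fiberι b₀ z = a₀) :
    LocCoh.IsGorensteinLocalRing ((h.fiber b₀).presheaf.stalk z) ↔
      LocCoh.IsGorensteinLocalRing ((h.fiber (h a₀)).presheaf.stalk (h.asFiber a₀)) := by
  letI := (h.stalkMap a₀).hom.toAlgebra
  obtain ⟨e⟩ := Groth.L07.CIScheme.exists_fiberStalkEquiv h b₀ z a₀ hz
  rw [← GorensteinScheme.gorenstein_fibre_iff h a₀]
  exact ⟨GorensteinAscend.isGorensteinLocalRing_of_ringEquiv e.symm,
    GorensteinAscend.isGorensteinLocalRing_of_ringEquiv e⟩

/-- Gorenstein fibres over the points of a chart of the target, from the property at every point. -/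
theorem etaleLocally_gorenstein_fibre (hX : IsAlgSpace X) {f : X ⟶ Y}
    (hf : ∀ (k : FieldPt Y) (Xk : Sp S) (a : Xk ⟶ X) (b : Xk ⟶ (yon S).obj k.pt),
      IsPullback a b f k.toHom → IsLocNoethSp Xk)
    (h : ∀ x : Points X, LocPAt (fun h u => Dual3.IsGorensteinAt h u) f x)
    {V : Over S} {b : (yon S).obj V ⟶ Y} (hb : RepWith @Etale b) (v : V.left) {Xv : Sp S} {a : Xv ⟶ X}
    {c : Xv ⟶ (yon S).obj (Over.mk (V.left.fromSpecResidueField v ≫ V.hom))}
    (sqQ : IsPullback a c f ((yon S).map (Over.homMk (V.left.fromSpecResidueField v) rfl :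
      Over.mk (V.left.fromSpecResidueField v ≫ V.hom) ⟶ V) ≫ b)) :
    EtaleLocally Dual3.IsGorenstein Xv := by
  obtain ⟨U₁, a₁, ha₁, has₁⟩ := hX.atlas
  obtain ⟨U, h₀, p, sqU⟩ := exists_isPullback_of_representable hb.1 (a₁ ≫ f)
  haveI : Etale p.left := repWith_prop hb sqU
  have ha : RepWith @Etale ((yon S).map p ≫ a₁) := repWith_comp (repWith_map ‹Etale p.left›) ha₁
  have w : ((yon S).map p ≫ a₁) ≫ f = (yon S).map h₀ ≫ b := by rw [Category.assoc, sqU.w]
  let g : Over.mk (V.left.fromSpecResidueField v ≫ V.hom) ⟶ V := Over.homMk (V.left.fromSpecResidueField v) rfl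
  have sq : IsPullback (pullback.fst h₀ g) (pullback.snd h₀ g) h₀ g := IsPullback.of_hasPullback h₀ g
  let pu : pullback h₀ g ⟶ U₁ := pullback.fst h₀ g ≫ p
  have sqB : IsPullback ((yon S).map pu) ((yon S).map (pullback.snd h₀ g)) (a₁ ≫ f) ((yon S).map g ≫ b) := by
    rw [Functor.map_comp]
    exact (sq.map (yon S)).paste_horiz sqU.flip
  let m := sqQ.lift ((yon S).map pu ≫ a₁) ((yon S).map (pullback.snd h₀ g))
    (by rw [Category.assoc, sqB.w])
  have sqA : IsPullback ((yon S).map pu) m a₁ a := by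
    refine IsPullback.of_bot (v₂₁ := c) (v₂₂ := f) ?_ (sqQ.lift_fst _ _ _).symm sqQ
    rw [show m ≫ c = _ from sqQ.lift_snd _ _ _]
    exact sqB
  refine ⟨pullback h₀ g, m, repWith_of_isPullback sqA ha₁, repWith_of_isPullback sqA has₁, ?_⟩
  let e := (sq.map (Over.forget S)).isoPullback
  haveI : IsIso e.hom := inferInstance
  refine isGorenstein_of_etale (U := h₀.left.fiber v) e.hom ⟨isLocallyNoetherian_chartFiber hf ha hb w v, fun z => ?_⟩
  have hu := (locPAt_gorenstein_ofPt_iff ha hb w (h₀.left.fiberι v z)).1 (h _)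
  exact (gorenstein_fiber_stalk_iff h₀.left v z _ rfl).2 hu.2

/-- Gorenstein fibres over the points of an atlas of the target give the property at every point. -/
theorem locPAt_gorenstein_of_fibres (hX : IsAlgSpace X) {f : X ⟶ Y} (hfl : LocP @Flat f)
    {V : Over S} {b : (yon S).obj V ⟶ Y} (hb : RepWith @Etale b) (hbs : RepWith @Surjective b)
    (h : ∀ (v : V.left) (Xv : Sp S) (a : Xv ⟶ X)
      (c : Xv ⟶ (yon S).obj (Over.mk (V.left.fromSpecResidueField v ≫ V.hom))),
      IsPullback a c f ((yon S).map (Over.homMk (V.left.fromSpecResidueField v) rfl :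
        Over.mk (V.left.fromSpecResidueField v ≫ V.hom) ⟶ V) ≫ b) → EtaleLocally Dual3.IsGorenstein Xv)
    (x : Points X) : LocPAt (fun h u => Dual3.IsGorensteinAt h u) f x := by
  obtain ⟨U₁, a₁, ha₁, has₁⟩ := hX.atlas
  obtain ⟨U, p, h₀, -, ha, has, w⟩ := exists_chart_of_charts f ha₁ has₁ hb hbs
  obtain ⟨u, rfl⟩ := surjective_ofPt has x
  rw [locPAt_gorenstein_ofPt_iff ha hb w u]
  haveI : Flat h₀.left := hfl _ b h₀ ha hb w
  refine ⟨Flat.stalkMap h₀.left u, ?_⟩
  let v := h₀.left u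
  let g : Over.mk (V.left.fromSpecResidueField v ≫ V.hom) ⟶ V := Over.homMk (V.left.fromSpecResidueField v) rfl
  have sqQ := IsPullback.of_hasPullback f ((yon S).map g ≫ b)
  obtain ⟨T₀, p₀, hp₀, hps₀, hG⟩ := h v _ _ _ sqQ
  have sq : IsPullback (pullback.fst h₀ g) (pullback.snd h₀ g) h₀ g := IsPullback.of_hasPullback h₀ g
  have hm := repWith_etale_lift ha hb w sq sqQ
  let m := sqQ.lift ((yon S).map (pullback.fst h₀ g) ≫ (yon S).map p ≫ a₁) ((yon S).map (pullback.snd h₀ g))
    (by rw [Category.assoc, w, ← Functor.map_comp_assoc, sq.w, Functor.map_comp, Category.assoc])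
  obtain ⟨T, q₁, q₂, sqT⟩ := exists_isPullback_of_representable hp₀.1 m
  haveI : Etale q₁.left := repWith_prop hm sqT.flip
  haveI : Etale q₂.left := repWith_prop hp₀ sqT
  haveI : Surjective q₂.left := repWith_prop hps₀ sqT
  let e := (sq.map (Over.forget S)).isoPullback
  haveI : IsIso e.hom := inferInstance
  let φ : T.left ⟶ h₀.left.fiber v := q₂.left ≫ e.hom
  haveI : Flat φ := inferInstanceAs (Flat (q₂.left ≫ e.hom))
  haveI : Surjective φ := inferInstanceAs (Surjective (q₂.left ≫ e.hom))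
  obtain ⟨hTN, hTG⟩ := isGorenstein_of_etale q₁.left hG
  obtain ⟨t, ht⟩ := φ.surjective (h₀.left.asFiber u)
  rw [← gorenstein_fiber_stalk_iff h₀.left v (φ t) u (by rw [ht]; exact h₀.left.fiberι_asFiber u)]
  letI := (φ.stalkMap t).hom.toAlgebra
  haveI : Module.Flat ((h₀.left.fiber v).presheaf.stalk (φ t)) (T.left.presheaf.stalk t) := Flat.stalkMap φ t
  haveI : IsLocalHom (algebraMap ((h₀.left.fiber v).presheaf.stalk (φ t)) (T.left.presheaf.stalk t)) :=
    inferInstanceAs (IsLocalHom (φ.stalkMap t).hom)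
  haveI : Module.FaithfullyFlat ((h₀.left.fiber v).presheaf.stalk (φ t)) (T.left.presheaf.stalk t) :=
    Module.FaithfullyFlat.of_flat_of_isLocalHom
  haveI := hTG t
  haveI : IsNoetherianRing ((h₀.left.fiber v).presheaf.stalk (φ t)) :=
    Groth.L19.isNoetherianRing_of_faithfullyFlat _ (T.left.presheaf.stalk t)
  exact GorensteinFlat.isGorensteinLocalRing_descend (T.left.presheaf.stalk t)

theorem locPAt_gorenstein_tfae (hX : IsAlgSpace X) (hY : IsAlgSpace Y) {f : X ⟶ Y}
    (hf : ∀ (k : FieldPt Y) (Xk : Sp S) (a : Xk ⟶ X) (b : Xk ⟶ (yon S).obj k.pt),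
      IsPullback a b f k.toHom → IsLocNoethSp Xk) :
    [∀ x : Points X, LocPAt (fun h u => Dual3.IsGorensteinAt h u) f x,
      LocP @Flat f ∧ ∃ (V : Over S) (b : (yon S).obj V ⟶ Y),
        RepWith @Etale b ∧ RepWith @Surjective b ∧
          ∀ (v : ↥V.left) (Xv : Sp S) (a : Xv ⟶ X)
            (c : Xv ⟶ (yon S).obj (Over.mk (V.left.fromSpecResidueField v ≫ V.hom))),
            IsPullback a c f ((yon S).map (Over.homMk (V.left.fromSpecResidueField v) rfl :
              Over.mk (V.left.fromSpecResidueField v ≫ V.hom) ⟶ V) ≫ b) →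
            EtaleLocally Dual3.IsGorenstein Xv,
      LocP @Flat f ∧ ∀ (V : Over S) (b : (yon S).obj V ⟶ Y), RepWith @Etale b →
          ∀ (v : ↥V.left) (Xv : Sp S) (a : Xv ⟶ X)
            (c : Xv ⟶ (yon S).obj (Over.mk (V.left.fromSpecResidueField v ≫ V.hom))),
            IsPullback a c f ((yon S).map (Over.homMk (V.left.fromSpecResidueField v) rfl :
              Over.mk (V.left.fromSpecResidueField v ≫ V.hom) ⟶ V) ≫ b) →
            EtaleLocally Dual3.IsGorenstein Xv].TFAE := by
  tfae_have 1 → 3 := fun h =>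
    ⟨fun U V a b h₀ ha hb w => Flat.of_stalkMap _ fun u => (h (Points.ofPt a u) a b h₀ u ha hb w rfl).1,
      fun V b hb v Xv a c sq => etaleLocally_gorenstein_fibre hX hf h hb v sq⟩
  tfae_have 3 → 2 := fun ⟨hfl, h⟩ => by
    obtain ⟨V, b, hb, hbs⟩ := hY.atlas
    exact ⟨hfl, V, b, hb, hbs, h V b hb⟩
  tfae_have 2 → 1 := fun ⟨hfl, V, b, hb, hbs, h⟩ x => locPAt_gorenstein_of_fibres hX hfl hb hbs h x
  tfae_finish

end Groth.L21.GorensteinSpace
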