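import Groth.Agent.L21.VanOrders
import Groth.Agent.L21.RR.Finite
import Groth.Agent.L03.Euler.Section
import Groth.Agent.L18.GenLocus
import Mathlib.LinearAlgebra.Dimension.Free

/-!
Sections of a tensor product of two invertible modules.
-/

set_option autoImplicit false
set_option backward.isDefEq.respectTransparency false
set_option linter.style.haveILetI false
universe u

open CategoryTheory AlgebraicGeometry IsLocalRing
open scoped TensorProduct

noncomputable section

namespace Groth.L21.VanOrders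

theorem card_add_le_of_sums {A B C : Finset ℕ} (hA : A.Nonempty) (hB : B.Nonempty) (l : ℕ)
    (h : ∀ a ∈ A, ∀ b ∈ B, a + (l + b) ∈ C) : A.card + B.card ≤ C.card + 1 := by
  classical
  let U₁ := B.image fun b => A.min' hA + (l + b)
  let U₂ := A.image fun a => a + (l + B.max' hB)
  have h1 : U₁.card = B.card := Finset.card_image_of_injective _ fun x y hxy => by simpa using hxy
  have h2 : U₂.card = A.card := Finset.card_image_of_injective _ fun x y hxy => by simpa using hxy
  have h3 : U₁ ∩ U₂ ⊆ {A.min' hA + (l + B.max' hB)} := fun x hx => by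
    obtain ⟨hx1, hx2⟩ := Finset.mem_inter.1 hx
    obtain ⟨b, hb, rfl⟩ := Finset.mem_image.1 hx1
    obtain ⟨a, ha, hab⟩ := Finset.mem_image.1 hx2
    have := A.min'_le a ha
    have := B.le_max' b hb
    rw [Finset.mem_singleton]
    omega
  have h4 : U₁ ∪ U₂ ⊆ C := fun x hx => by
    rcases Finset.mem_union.1 hx with hx | hx
    · obtain ⟨b, hb, rfl⟩ := Finset.mem_image.1 hx
      exact h _ (A.min'_mem hA) _ hb
    · obtain ⟨a, ha, rfl⟩ := Finset.mem_image.1 hx
      exact h _ ha _ (B.max'_mem hB)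
  have h5 := Finset.card_union_add_card_inter U₁ U₂
  have h6 := Finset.card_le_card h3
  have h7 := Finset.card_le_card h4
  rw [Finset.card_singleton] at h6
  omega

/-- The inequality of Hopf for spaces of elements of a discrete valuation ring. -/
theorem add_le_add_one_of_products (k O : Type u) [Field k] [CommRing O] [IsDomain O] [IsDiscreteValuationRing O]
    [Algebra k O] (hres : Function.Surjective (algebraMap k (ResidueField O))) {a b n : ℕ} (ha : 0 < a) (hb : 0 < b)
    (f : (Fin a → k) →ₗ[k] O) (hf : Function.Injective f) (g : (Fin b → k) →ₗ[k] O) (hg : Function.Injective g)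
    (h : (Fin n → k) →ₗ[k] O) (hh : Function.Injective h) (l : O) (hl : l ≠ 0)
    (hprod : ∀ c d, ∃ u, h u = f c * (l * g d)) : a + b ≤ n + 1 := by
  classical
  obtain ⟨π, hπ⟩ := IsDiscreteValuationRing.exists_irreducible O
  have hm : maximalIdeal O = Ideal.span {π} := (IsDiscreteValuationRing.irreducible_iff_uniformizer π).1 hπ
  let v : O → ℕ := fun x => (Module.length O (O ⧸ Ideal.span {x})).toNat
  have hlen : ∀ x : O, x ≠ 0 → ∃ u : Oˣ, x = u * π ^ v x ∧ Module.length O (O ⧸ Ideal.span {x}) = (v x : ℕ∞) := by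
    intro x hx
    obtain ⟨m, u, rfl⟩ := IsDiscreteValuationRing.eq_unit_mul_pow_irreducible hx hπ
    have h1 : Ideal.span {(u : O) * π ^ m} = maximalIdeal O ^ m := by
      rw [Ideal.span_singleton_mul_left_unit u.isUnit, hm, Ideal.span_singleton_pow]
    have h2 : Module.length O (O ⧸ Ideal.span {(u : O) * π ^ m}) = (m : ℕ∞) := by
      rw [(Submodule.quotEquivOfEq _ _ h1).length_eq, IsDiscreteValuationRing.length_quotient_pow_maximalIdeal]
    have h3 : v ((u : O) * π ^ m) = m := by simp only [v, h2, ENat.toNat_natCast]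
    exact ⟨u, by rw [h3], by rw [h3, h2]⟩
  have hmul : ∀ x y : O, x ≠ 0 → y ≠ 0 → v (x * y) = v x + v y := by
    intro x y hx hy
    obtain ⟨u, hu, -⟩ := hlen x hx
    obtain ⟨w, hw, -⟩ := hlen y hy
    obtain ⟨z, hz, -⟩ := hlen (x * y) (mul_ne_zero hx hy)
    have he : ((u * w : Oˣ) : O) * π ^ (v x + v y) = (z : O) * π ^ v (x * y) := by
      rw [← hz, Units.val_mul, pow_add]
      conv_rhs => rw [hu, hw]
      ring
    exact (IsDiscreteValuationRing.unit_mul_pow_congr_pow hπ hπ (u * w) z _ _ he).symm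
  have hcard : ∀ {m : ℕ} (F : (Fin m → k) →ₗ[k] O), Function.Injective F → 0 < m →
      ∃ S : Finset ℕ, S.card = m ∧ (∀ x ∈ S, ∃ c, c ≠ 0 ∧ v (F c) = x) ∧ ∀ c, c ≠ 0 → v (F c) ∈ S := by
    intro m F hF hm0
    have h0 := ncard_orders k O hres F hF
    let S₀ : Set ℕ := (fun c => v (F c)) '' {c | c ≠ 0}
    have himg : (fun c => Module.length O (O ⧸ Ideal.span {F c})) '' {c | c ≠ 0} = (fun j : ℕ => (j : ℕ∞)) '' S₀ := by
      rw [Set.image_image]
      exact Set.image_congr fun c hc => by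
        obtain ⟨-, -, h⟩ := hlen (F c) ((map_ne_zero_iff F hF).2 hc)
        exact h
    rw [himg, Set.ncard_image_of_injective _ Nat.cast_injective] at h0
    have hfin : S₀.Finite := Set.finite_of_ncard_pos (h0 ▸ hm0)
    exact ⟨hfin.toFinset, by rw [← h0, Set.ncard_eq_toFinset_card _ hfin], fun x hx => hfin.mem_toFinset.1 hx,
      fun c hc => hfin.mem_toFinset.2 ⟨c, hc, rfl⟩⟩
  obtain ⟨SA, hA, hA', -⟩ := hcard f hf ha
  obtain ⟨SB, hB, hB', -⟩ := hcard g hg hb
  have hn : 0 < n := by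
    rcases Nat.eq_zero_or_pos n with rfl | hn
    · exfalso
      haveI : Nonempty (Fin a) := ⟨⟨0, ha⟩⟩
      haveI : Nonempty (Fin b) := ⟨⟨0, hb⟩⟩
      obtain ⟨c, hc⟩ := exists_ne (0 : Fin a → k)
      obtain ⟨d, hd⟩ := exists_ne (0 : Fin b → k)
      obtain ⟨u, hu⟩ := hprod c d
      rw [Subsingleton.elim u 0, map_zero] at hu
      exact mul_ne_zero ((map_ne_zero_iff f hf).2 hc) (mul_ne_zero hl ((map_ne_zero_iff g hg).2 hd)) hu.symm
    · exact hn
  obtain ⟨SC, hC, -, hC'⟩ := hcard h hh hn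
  have := card_add_le_of_sums (A := SA) (B := SB) (C := SC) (Finset.card_pos.1 (hA ▸ ha))
    (Finset.card_pos.1 (hB ▸ hb)) (v l) fun x hx y hy => by
      obtain ⟨c, hc, rfl⟩ := hA' x hx
      obtain ⟨d, hd, rfl⟩ := hB' y hy
      obtain ⟨u, hu⟩ := hprod c d
      have hfc := (map_ne_zero_iff f hf).2 hc
      have hgd := (map_ne_zero_iff g hg).2 hd
      have hu0 : u ≠ 0 := fun h0 => by
        rw [h0, map_zero] at hu
        exact mul_ne_zero hfc (mul_ne_zero hl hgd) hu.symm
      have := hC' u hu0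
      rwa [hu, hmul _ _ hfc (mul_ne_zero hl hgd), hmul _ _ hl hgd] at this
  omega

variable {X : Scheme.{u}} [IsIntegral X] (k : Type u) [Field k] [IsAlgClosed k] [X.Over (Spec (CommRingCat.of k))]
  [IsProper (X ↘ Spec (CommRingCat.of k))]

/-- Germs of global sections in a frame, as a linear map. -/
theorem exists_coord (p : X) {L : X.Modules} (hL : PicF.IsInvertible L) (e : L.presheaf.stalk p)
    (he : Function.Bijective fun a : X.presheaf.stalk p => a • e) :
    letI := Curv2.stalkAlgebra k X p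
    ∃ f : (Fin (Module.finrank k (Coh.HH X L 0)) → k) →ₗ[k] X.presheaf.stalk p, Function.Injective f ∧
      (∀ c, ∃ s : Γ(L, ⊤), L.presheaf.germ ⊤ p trivial s = f c • e) ∧
      ∀ s : Γ(L, ⊤), ∃ c, f c • e = L.presheaf.germ ⊤ p trivial s := by
  letI := Curv2.stalkAlgebra k X p
  haveI := Groth.L21.RR.isNoetherian_of_proper (X := X) k
  haveI := Groth.L21.RR.finite_HH' k (Groth.L16.ProperFinite.isCoh_of_isInvertible hL) 0
  let θ : X.presheaf.stalk p ≃ₗ[X.presheaf.stalk p] L.presheaf.stalk p :=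
    LinearEquiv.ofBijective (LinearMap.toSpanSingleton (X.presheaf.stalk p) _ e) he
  let F : Coh.HH X L 0 →ₗ[k] X.presheaf.stalk p :=
    { toFun := fun x => θ.symm (L.presheaf.germ ⊤ p trivial (Groth.L21.RR.e0 L x))
      map_add' := fun x y => by rw [map_add, map_add, map_add]
      map_smul' := fun c x => by
        rw [Groth.L21.RR.e0_smul, Groth.L20.ModStalk.germ_smul, map_smul, RingHom.id_apply, Algebra.smul_def]
        rfl }
  have hF : Function.Injective F :=
    θ.symm.injective.comp ((germ_injective hL p).comp (Groth.L21.RR.e0 L).injective)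
  let B := Module.finBasis k (Coh.HH X L 0)
  have hθ : ∀ v, θ.symm v • e = v := fun v => θ.apply_symm_apply v
  refine ⟨F ∘ₗ B.equivFun.symm.toLinearMap, hF.comp B.equivFun.symm.injective, fun c => ?_, fun s => ?_⟩
  · exact ⟨Groth.L21.RR.e0 L (B.equivFun.symm c), (hθ _).symm⟩
  · refine ⟨B.equivFun ((Groth.L21.RR.e0 L).symm s), ?_⟩
    show θ.symm (L.presheaf.germ ⊤ p trivial (Groth.L21.RR.e0 L (B.equivFun.symm (B.equivFun _)))) • e = _
    rw [LinearEquiv.symm_apply_apply, AddEquiv.apply_symm_apply, hθ]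

/-- `dim |D| + dim |E| ≤ dim |D + E|`. -/
theorem h0_add_le (hd : topologicalKrullDim X = 1) (hreg : ∀ x : X, IsRegularLocalRing (X.presheaf.stalk x))
    {L L' : X.Modules} (hL : PicF.IsInvertible L) (hL' : PicF.IsInvertible L')
    (hs : Nontrivial (Coh.HH X L 0)) (hs' : Nontrivial (Coh.HH X L' 0)) :
    Module.finrank k (Coh.HH X L 0) + Module.finrank k (Coh.HH X L' 0) ≤
      Module.finrank k (Coh.HH X (CohB1.tensorMod L L') 0) + 1 := by
  haveI := Groth.L21.RR.isNoetherian_of_proper (X := X) k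
  obtain ⟨p, -, hp⟩ := (isClosed_univ (X := X)).exists_closed_singleton Set.univ_nonempty
  letI := Curv2.stalkAlgebra k X p
  haveI := Groth.L21.RR.isDiscreteValuationRing_stalk hd hp (hreg p)
  have hres : Function.Surjective (algebraMap k (ResidueField (X.presheaf.stalk p))) := fun z => by
    obtain ⟨c, hc⟩ := Groth.L21.Nodal.resMap_surjective (k := k) p hp z
    exact ⟨c, hc⟩
  have hT := Groth.L18.GenLoc.isInvertible_tensor hL hL'
  obtain ⟨e, he⟩ := Groth.L21.RR.exists_frame_stalk hL p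
  obtain ⟨e', he'⟩ := Groth.L21.RR.exists_frame_stalk hL' p
  obtain ⟨ε, hε⟩ := Groth.L21.RR.exists_frame_stalk hT p
  obtain ⟨f, hf, hf1, -⟩ := exists_coord k p hL e he
  obtain ⟨g, hg, hg1, -⟩ := exists_coord k p hL' e' he'
  obtain ⟨h, hh, -, hh2⟩ := exists_coord k p hT ε hε
  let O := X.presheaf.stalk p
  let θ : O ≃ₗ[O] L.presheaf.stalk p := LinearEquiv.ofBijective (LinearMap.toSpanSingleton O _ e) he
  let one := Groth.L21.RR.one X p
  let θ₁ : O ≃ₗ[O] (Coh.structureModule X).presheaf.stalk p :=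
    LinearEquiv.ofBijective (LinearMap.toSpanSingleton O _ one) (Groth.L21.RR.bijective_smul_one p)
  let τ := fun M N : X.Modules => (Groth.L00.Stk.τ p M N).toLinearEquiv
  obtain ⟨c₀, hc₀⟩ := hε.2 ((τ L L') (e ⊗ₜ e'))
  have hc₀0 : c₀ ≠ 0 := by
    intro h0
    let θ' : O ≃ₗ[O] L'.presheaf.stalk p := LinearEquiv.ofBijective (LinearMap.toSpanSingleton O _ e') he'
    have h1 : (τ L L') (e ⊗ₜ e') = 0 := by rw [← hc₀, h0]; exact zero_smul _ _
    rw [LinearEquiv.map_eq_zero_iff] at h1
    have h2 := congrArg ((TensorProduct.congr θ.symm θ'.symm).trans (TensorProduct.lid O O)) h1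
    have e1 : θ.symm e = 1 := θ.symm_apply_eq.2 (one_smul O e).symm
    have e2 : θ'.symm e' = 1 := θ'.symm_apply_eq.2 (one_smul O e').symm
    have h3 : θ.symm e • θ'.symm e' = (0 : O) :=
      Eq.trans rfl (h2.trans (map_zero ((TensorProduct.congr θ.symm θ'.symm).trans (TensorProduct.lid O O))))
    rw [e1, e2, one_smul] at h3
    exact one_ne_zero h3
  let ι₀ := (Groth.L00.Stk.F X p).mapIso (Groth.L00.Tensor.tensorUnitRight L).symm
  let w₀ := ((TensorProduct.congr θ.symm θ₁.symm).trans (TensorProduct.lid O O))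
    ((τ L (Coh.structureModule X)).symm (ι₀.hom e))
  have hw : (τ L (Coh.structureModule X)).symm (ι₀.hom e) = e ⊗ₜ (w₀ • one) := by
    apply ((TensorProduct.congr θ.symm θ₁.symm).trans (TensorProduct.lid O O)).injective
    have e1 : θ.symm e = 1 := θ.symm_apply_eq.2 (one_smul O e).symm
    have e3 : θ₁.symm one = 1 := θ₁.symm_apply_eq.2 (one_smul O one).symm
    have h3 : θ.symm e • θ₁.symm (w₀ • one) = w₀ := by
      rw [e1, one_smul, map_smul, e3, smul_eq_mul, mul_one]
    refine Eq.trans ?_ (Eq.trans h3.symm rfl)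
    rfl
  have hw0 : w₀ ≠ 0 := by
    intro h0
    have h4 : (τ L (Coh.structureModule X)).symm (ι₀.hom e) = 0 :=
      ((TensorProduct.congr θ.symm θ₁.symm).trans (TensorProduct.lid O O)).map_eq_zero_iff.1 h0
    have h5 : ι₀.hom e = 0 := (τ L (Coh.structureModule X)).symm.map_eq_zero_iff.1 h4
    have : e = 0 := ι₀.toLinearEquiv.map_eq_zero_iff.1 h5
    exact one_ne_zero (he.1 (show (1 : O) • e = (0 : O) • e by rw [this, smul_zero, smul_zero]))
  haveI := Groth.L21.RR.finite_HH' k (Groth.L16.ProperFinite.isCoh_of_isInvertible hL) 0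
  haveI := Groth.L21.RR.finite_HH' k (Groth.L16.ProperFinite.isCoh_of_isInvertible hL') 0
  refine add_le_add_one_of_products k O hres (Module.finrank_pos) (Module.finrank_pos) f hf g hg h hh (w₀ * c₀)
    (mul_ne_zero hw0 hc₀0) fun c d => ?_
  obtain ⟨s, hs⟩ := hf1 c
  obtain ⟨t, ht⟩ := hg1 d
  let ψ := Groth.L16.homOfSection L' t
  obtain ⟨u, hu⟩ := hh2 ((Groth.L03.Euler.mulSection L ψ).app ⊤ s)
  refine ⟨u, hε.1 ?_⟩
  show h u • ε = (f c * (w₀ * c₀ * g d)) • ε
  rw [hu, ← Groth.L21.RR.st_germ, hs, map_smul]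
  have hψ : Groth.L21.RR.st ψ p one = g d • e' := by
    rw [Groth.L21.RR.st_one ψ p (show p ∈ (⊤ : X.Opens) from trivial), Groth.L21.RR.app_homOfSection_one,
      Groth.L18.Frame.rs_self, ht]
  have hmul : Groth.L21.RR.st (Groth.L03.Euler.mulSection L ψ) p e = (w₀ * g d * c₀) • ε := by
    show (Groth.L00.Stk.F X p).map (Groth.L03.Euler.mulSection L ψ) e = _
    rw [Groth.L03.Euler.mulSection, Functor.map_comp, ModuleCat.comp_apply]
    change (Groth.L00.Stk.F X p).map (Groth.L00.Tensor.tensorMap (𝟙 L) ψ) (ι₀.hom e) = _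
    rw [show ι₀.hom e = (τ L (Coh.structureModule X)) (e ⊗ₜ (w₀ • one)) by rw [← hw, LinearEquiv.apply_symm_apply]]
    refine (ConcreteCategory.congr_hom (Groth.L00.Stk.τ_natural p (𝟙 L) ψ) (e ⊗ₜ (w₀ • one))).symm.trans ?_
    change (τ L L') (((Groth.L00.Stk.F X p).map (𝟙 L)).hom e ⊗ₜ (Groth.L21.RR.st ψ p (w₀ • one))) = _
    rw [CategoryTheory.Functor.map_id, map_smul, hψ, smul_smul]
    show (τ L L') (e ⊗ₜ ((w₀ * g d) • e')) = _
    rw [TensorProduct.tmul_smul, map_smul, ← hc₀, smul_smul]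
  rw [hmul, smul_smul]
  congr 1
  ring

end Groth.L21.VanOrders
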