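import Groth.Agent.L06.InsepWeight
import Groth.Agent.L21.Disc.Hurwitz
import Groth.Prelude.Def_CurvBase
import Mathlib.RingTheory.RamificationInertia.Ramification
import Mathlib.AlgebraicGeometry.Morphisms.Integral
import Mathlib.FieldTheory.IsAlgClosed.AlgebraicClosure
import Groth.Agent.L18.ProjSpaceUP
import Groth.Agent.L21.ExtLattice.Length
import Mathlib.FieldTheory.SeparableClosure
import Mathlib.FieldTheory.IsAlgClosed.Basic
import Mathlib.RingTheory.Nilpotent.Lemmas
import Mathlib.RingTheory.Artinian.Module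
import Mathlib.RingTheory.Unramified.Field
import Mathlib.RingTheory.Etale.Field
import Mathlib.RingTheory.Ideal.Quotient.Operations

/-!
The local rings of `Ω ⊗_k κ` have length the inseparable degree of `κ/k`.
-/

set_option autoImplicit false
set_option backward.isDefEq.respectTransparency false
set_option linter.style.haveILetI false
universe u

open TensorProduct

noncomputable section

namespace Groth.L21.InsepLength

variable (k Ω κ : Type u) [Field k] [Field Ω] [IsAlgClosed Ω] [Field κ] [Algebra k Ω] [Algebra k κ]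
  [FiniteDimensional k κ]

omit [IsAlgClosed Ω] in
/-- The kernel of an `Ω`-point of a reduced finite `Ω`-algebra is cut out by an idempotent. -/
theorem exists_idempotent {R : Type u} [CommRing R] [IsArtinianRing R] [IsReduced R] (σ : R →+* Ω)
    (hs : Function.Surjective σ) :
    ∃ e : R, σ e = 0 ∧ (∀ x, σ x = 0 → x * e = x) ∧ ∀ x, σ x = 0 → x * (1 - e) = 0 := by
  classical
  let I := RingHom.ker σ
  haveI hI : I.IsMaximal := RingHom.ker_isMaximal_of_surjective σ hs
  haveI : Finite (MaximalSpectrum R) := inferInstance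
  letI := Fintype.ofFinite (MaximalSpectrum R)
  let S := Finset.univ.filter fun m : MaximalSpectrum R => m.asIdeal ≠ I
  let J : Ideal R := S.inf fun m => m.asIdeal
  have hcop : I ⊔ J = ⊤ := by
    refine Ideal.sup_iInf_eq_top (I := I) (J := fun m : MaximalSpectrum R => m.asIdeal) (s := S) (fun m hm => ?_) |>.symm.trans ?_ |>.symm
    · exact Ideal.IsMaximal.coprime_of_ne hI m.2 (Ne.symm (Finset.mem_filter.1 hm).2)
    · congr 1
      exact (Finset.inf_eq_iInf _ _).symm
  obtain ⟨e, he, f, hf, hef⟩ := Submodule.mem_sup.1 (show (1 : R) ∈ I ⊔ J by rw [hcop]; trivial)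
  have hkey : ∀ x, σ x = 0 → x * (1 - e) = 0 := by
    intro x hx
    have hnil : IsNilpotent (x * f) := by
      rw [nilpotent_iff_mem_prime]
      intro P hP
      haveI : P.IsMaximal := Ideal.isMaximal_of_isPrime P
      by_cases h : P = I
      · subst h; exact Ideal.mul_mem_right _ _ hx
      · exact P.mul_mem_left _ (Finset.inf_le (f := fun m : MaximalSpectrum R => m.asIdeal)
          (show ⟨P, inferInstance⟩ ∈ S from Finset.mem_filter.2 ⟨Finset.mem_univ _, h⟩) hf)
    rw [← hef, add_sub_cancel_left]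
    exact hnil.eq_zero
  refine ⟨e, he, fun x hx => ?_, hkey⟩
  have := hkey x hx
  rw [mul_sub, mul_one, sub_eq_zero] at this
  exact this.symm

set_option maxHeartbeats 1600000 in
/-- Each local ring of `Ω ⊗_k κ` has length `[κ : k]_i`. -/
theorem length_localization (q : Ideal (Ω ⊗[k] κ)) [q.IsPrime] :
    Module.length (Localization.AtPrime q) (Localization.AtPrime q) = (Field.finInsepDegree k κ : ℕ∞) := by
  classical
  let A := Ω ⊗[k] κ
  let L := separableClosure k κ
  let R := Ω ⊗[k] L
  let ι : R →ₐ[Ω] A := Algebra.TensorProduct.map (AlgHom.id Ω Ω) L.val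
  haveI : Module.Finite Ω A := inferInstance
  haveI : Module.Finite Ω R := inferInstance
  haveI : IsArtinianRing A := isArtinian_of_tower Ω inferInstance
  haveI : IsArtinianRing R := isArtinian_of_tower Ω inferInstance
  haveI : q.IsMaximal := Ideal.isMaximal_of_isPrime q
  haveI : Algebra.FormallyUnramified k L := Algebra.FormallyUnramified.of_isSeparable k L
  haveI : IsReduced R := Algebra.FormallyUnramified.isReduced_of_field Ω R
  -- the Ω-point at q
  obtain ⟨πq, hπ⟩ : ∃ π : A →ₐ[Ω] Ω, RingHom.ker π = q := by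
    letI := Ideal.Quotient.field q
    haveI : Algebra.IsIntegral Ω (A ⧸ q) := inferInstance
    have hb := IsAlgClosed.algebraMap_bijective_of_isIntegral (k := Ω) (K := A ⧸ q)
    let e := (AlgEquiv.ofBijective (Algebra.ofId Ω (A ⧸ q)) hb).symm
    refine ⟨e.toAlgHom.comp (Ideal.Quotient.mkₐ Ω q), ?_⟩
    ext x
    simp [RingHom.mem_ker, Ideal.Quotient.eq_zero_iff_mem]
  let σ : R →ₐ[Ω] Ω := πq.comp ι
  have hσs : Function.Surjective σ := fun c => ⟨algebraMap Ω R c, σ.commutes c⟩
  obtain ⟨e, he, heI, -⟩ := exists_idempotent (Ω := Ω) (R := R) σ.toRingHom (fun c => hσs c)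
  have hee : e * e = e := heI e he
  let J : Ideal A := Ideal.span {ι e}
  let B := A ⧸ J
  have hJq : J ≤ q := by
    rw [Ideal.span_singleton_le_iff_mem, ← hπ]; exact he
  -- `B` has dimension `[κ : L]`
  let b := Module.finBasis L κ
  let σL : L →ₐ[k] Ω := (σ.restrictScalars k).comp Algebra.TensorProduct.includeRight
  have hσ : ∀ l : L, σ (1 ⊗ₜ l) = σL l := fun l => rfl
  let coordk : κ →ₗ[k] (Fin (Module.finrank L κ) → Ω) :=
    LinearMap.pi fun i => σL.toLinearMap.comp ((b.coord i).restrictScalars k)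
  let Φ : A →ₗ[Ω] (Fin (Module.finrank L κ) → Ω) :=
    TensorProduct.AlgebraTensorModule.lift ((LinearMap.toSpanSingleton Ω _ coordk).restrictScalars Ω)
  have hΦ : ∀ (x : Ω) (y : κ) i, Φ (x ⊗ₜ y) i = x * σL (b.coord i y) := fun x y i => rfl
  have hΦe : ∀ (r : R) (a : A), Φ (ι r * a) = σ r • Φ a := by
    intro r a
    induction r using TensorProduct.induction_on with
    | zero => simp
    | add r r' hr hr' => simp [add_mul, hr, hr', add_smul]
    | tmul x l =>
      have hσx : σ (x ⊗ₜ l) = x * σL l := by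
        rw [← hσ, show x ⊗ₜ[k] l = x • ((1 : Ω) ⊗ₜ[k] l) by rw [TensorProduct.smul_tmul', smul_eq_mul, mul_one],
          map_smul, smul_eq_mul]
      induction a using TensorProduct.induction_on with
      | zero => simp
      | add a a' ha ha' => simp [mul_add, ha, ha', smul_add]
      | tmul x' y =>
        funext i
        rw [Pi.smul_apply, smul_eq_mul, show ι (x ⊗ₜ[k] l) * (x' ⊗ₜ[k] y) = (x * x') ⊗ₜ[k] ((l : κ) * y) from by
          exact (congrArg (· * (x' ⊗ₜ[k] y)) (Algebra.TensorProduct.map_tmul (AlgHom.id Ω Ω) L.val x l)).trans (Algebra.TensorProduct.tmul_mul_tmul _ _ _ _)]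
        rw [hΦ, hΦ, hσx, show ((l : κ) * y) = l • y from rfl, map_smul, smul_eq_mul, map_mul]
        ring
  have hJker : ∀ a ∈ J, Φ a = 0 := by
    intro a ha
    obtain ⟨c, rfl⟩ := Ideal.mem_span_singleton'.1 ha
    rw [mul_comm, hΦe, show σ e = 0 from he, zero_smul]
  let Φ' : B →ₗ[Ω] (Fin (Module.finrank L κ) → Ω) :=
    Submodule.liftQ (J.restrictScalars Ω) Φ (fun a ha => hJker a ha)
  have hl : ∀ l : L, Ideal.Quotient.mk J (ι ((1 : Ω) ⊗ₜ[k] l)) = algebraMap Ω B (σL l) := by
    intro l
    have h1 := heI (((1 : Ω) ⊗ₜ[k] l : R) - ((σL l) ⊗ₜ[k] (1 : L) : R))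
      (by show σ _ = 0; rw [map_sub, hσ, show ((σL l) ⊗ₜ[k] (1 : L) : R) = σL l • ((1 : Ω) ⊗ₜ[k] (1 : L)) by
          rw [TensorProduct.smul_tmul', smul_eq_mul, mul_one], map_smul, hσ, map_one, smul_eq_mul, mul_one, sub_self])
    have h2 : ι (((1 : Ω) ⊗ₜ[k] l : R) - ((σL l) ⊗ₜ[k] (1 : L) : R)) ∈ J := by
      rw [← h1, map_mul]; exact Ideal.mul_mem_left _ _ (Ideal.mem_span_singleton_self _)
    rw [map_sub] at h2
    rw [show ι ((σL l) ⊗ₜ[k] (1 : L)) = algebraMap Ω A (σL l) from
      (Algebra.TensorProduct.map_tmul (AlgHom.id Ω Ω) L.val _ _).trans (congrArg (fun z => σL l ⊗ₜ[k] z) (map_one L.val))] at h2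
    exact (Ideal.Quotient.mk_eq_mk_iff_sub_mem _ _).2 h2
  have hspan : Submodule.span Ω (Set.range fun i => Ideal.Quotient.mk J ((1 : Ω) ⊗ₜ[k] b i)) = ⊤ := by
    refine eq_top_iff.2 fun z _ => ?_
    obtain ⟨a, rfl⟩ := Ideal.Quotient.mk_surjective z
    induction a using TensorProduct.induction_on with
    | zero => simp
    | add a a' ha ha' => rw [map_add]; exact add_mem (ha trivial) (ha' trivial)
    | tmul x y =>
      rw [← b.sum_repr y, TensorProduct.tmul_sum, map_sum]
      refine sum_mem fun i _ => ?_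
      have h2 : x ⊗ₜ[k] (b.repr y i • b i) = x • (ι ((1 : Ω) ⊗ₜ[k] b.repr y i) * ((1 : Ω) ⊗ₜ[k] b i)) := by
        rw [show ι ((1 : Ω) ⊗ₜ[k] b.repr y i) * ((1 : Ω) ⊗ₜ[k] b i) = ((1 : Ω) * 1) ⊗ₜ[k] ((b.repr y i : κ) * b i) from
          (congrArg (· * ((1 : Ω) ⊗ₜ[k] b i)) (Algebra.TensorProduct.map_tmul (AlgHom.id Ω Ω) L.val _ _)).trans
            (Algebra.TensorProduct.tmul_mul_tmul _ _ _ _), TensorProduct.smul_tmul', smul_eq_mul, mul_one, mul_one]
        rfl
      have h3 : Ideal.Quotient.mk J (x ⊗ₜ[k] (b.repr y i • b i)) =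
          (x * σL (b.repr y i)) • Ideal.Quotient.mk J ((1 : Ω) ⊗ₜ[k] b i) := by
        have h4 := hl (b.repr y i)
        rw [h2, ← Ideal.Quotient.mkₐ_eq_mk Ω, map_smul, map_mul, mul_smul]
        congr 1
        rw [Ideal.Quotient.mkₐ_eq_mk, h4, ← Algebra.smul_def]
      rw [h3]
      exact Submodule.smul_mem _ _ (Submodule.subset_span ⟨i, rfl⟩)
  have hdim : Module.finrank Ω B = Field.finInsepDegree k κ := by
    show _ = Module.finrank L κ
    refine le_antisymm ?_ ?_
    · have h1 := finrank_range_le_card (R := Ω) fun i => Ideal.Quotient.mk J ((1 : Ω) ⊗ₜ[k] b i)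
      rwa [Set.finrank, hspan, finrank_top, Fintype.card_fin] at h1
    · have hs : Function.Surjective Φ' := by
        intro v
        refine ⟨∑ i, v i • Ideal.Quotient.mk J ((1 : Ω) ⊗ₜ[k] b i), ?_⟩
        rw [map_sum]
        funext j
        simp only [map_smul, Finset.sum_apply, Pi.smul_apply, smul_eq_mul]
        rw [Finset.sum_eq_single j]
        · show v j * Φ ((1 : Ω) ⊗ₜ[k] b j) j = v j
          rw [hΦ]; simp
        · intro i _ hij
          show v i * Φ ((1 : Ω) ⊗ₜ[k] b i) j = 0
          rw [hΦ]; simp [hij]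
        · simp
      have := LinearMap.finrank_le_finrank_of_surjective hs
      simpa using this
  -- `B` is local
  obtain ⟨p, hexp⟩ := ExpChar.exists k
  haveI := hexp
  haveI : ExpChar Ω p := (RingHom.expChar_iff (algebraMap k Ω) (algebraMap k Ω).injective p).1 hexp
  have hroot : ∀ z : B, ∃ (n : ℕ) (c : Ω), z ^ p ^ n = algebraMap Ω B c := by
    haveI : ExpChar B p := expChar_of_injective_algebraMap (R := Ω) (A := B)
      (fun c c' h => by
        by_contra hne
        have h1 : algebraMap Ω A (c - c') ∈ q := hJq ((Ideal.Quotient.mk_eq_mk_iff_sub_mem _ _).1 h |> fun h2 => by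
          rwa [map_sub])
        rw [← hπ, RingHom.mem_ker, AlgHom.commutes, Algebra.algebraMap_self, RingHom.id_apply, sub_eq_zero] at h1
        exact hne h1) p
    haveI : ExpChar L p := (RingHom.expChar_iff (algebraMap k L) (algebraMap k L).injective p).1 hexp
    intro z
    obtain ⟨a, rfl⟩ := Ideal.Quotient.mk_surjective z
    induction a using TensorProduct.induction_on with
    | zero => exact ⟨0, 0, by simp⟩
    | add a a' ha ha' =>
      obtain ⟨n, c, hc⟩ := ha
      obtain ⟨n', c', hc'⟩ := ha'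
      refine ⟨n + n', c ^ p ^ n' + c' ^ p ^ n, ?_⟩
      rw [map_add, add_pow_expChar_pow, map_add, map_pow (algebraMap Ω B), map_pow (algebraMap Ω B),
        ← hc, ← hc', ← pow_mul, ← pow_mul, ← pow_add, ← pow_add, Nat.add_comm n' n]
    | tmul x y =>
      obtain ⟨n, l, hy⟩ := IsPurelyInseparable.pow_mem L p y
      refine ⟨n, x ^ p ^ n * σL l, ?_⟩
      have h4 := hl l
      rw [← map_pow, Algebra.TensorProduct.tmul_pow, ← hy,
        show (x ^ p ^ n) ⊗ₜ[k] (algebraMap L κ l) = algebraMap Ω A (x ^ p ^ n) * ι ((1 : Ω) ⊗ₜ[k] l) by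
          show _ = ((x ^ p ^ n) ⊗ₜ[k] (1 : κ)) * ((1 : Ω) ⊗ₜ[k] (l : κ))
          rw [Algebra.TensorProduct.tmul_mul_tmul, mul_one, one_mul]
          rfl, map_mul, h4, map_mul]
      rfl
  have hp0 : ∀ n : ℕ, p ^ n ≠ 0 := fun n => pow_ne_zero _ (expChar_pos k p).ne'
  have hunit : ∀ z : B, Ideal.Quotient.factor hJq z ≠ 0 → IsUnit z := by
    intro z hz
    obtain ⟨n, c, hc⟩ := hroot z
    refine (isUnit_pow_iff (hp0 n)).1 ?_
    rw [hc]
    refine (IsUnit.mk0 c fun h0 => hz ?_).map _
    haveI : IsDomain (A ⧸ q) := inferInstance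
    refine eq_zero_of_pow_eq_zero (n := p ^ n) ?_
    rw [← map_pow, hc, h0, map_zero, map_zero]
  -- the localization is `B`
  have hloc : IsLocalization.AtPrime B q := by
    refine ⟨?_, fun z => ?_, fun {a a'} h => ?_⟩
    · rintro ⟨a, ha⟩
      exact hunit _ fun h => ha (Ideal.Quotient.eq_zero_iff_mem.1 h)
    · obtain ⟨a, rfl⟩ := Ideal.Quotient.mk_surjective z
      exact ⟨⟨a, 1⟩, by rw [OneMemClass.coe_one, map_one, mul_one]; rfl⟩
    · obtain ⟨c, hc⟩ := Ideal.mem_span_singleton'.1 ((Ideal.Quotient.mk_eq_mk_iff_sub_mem _ _).1 h)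
      refine ⟨⟨1 - ι e, fun h1 => ?_⟩, ?_⟩
      · exact (inferInstance : q.IsPrime).ne_top ((Ideal.eq_top_iff_one q).2 (by
          simpa using q.add_mem h1 (hJq (Ideal.mem_span_singleton_self (ι e)))))
      · have h0 : (1 - ι e) * ι e = 0 := by rw [sub_mul, one_mul, ← map_mul, hee, sub_self]
        show (1 - ι e) * a = (1 - ι e) * a'
        rw [← sub_eq_zero, ← mul_sub, ← hc, mul_left_comm, h0, mul_zero]
  let eB : B ≃ₐ[A] Localization.AtPrime q := IsLocalization.algEquiv q.primeCompl B (Localization.AtPrime q)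
  rw [← Groth.L22.Cyc.length_self_of_ringEquiv eB.toRingEquiv, ← hdim]
  let ε : B →ₐ[Ω] Ω := Ideal.Quotient.liftₐ J πq fun a ha => by
    have := hJq ha; rw [← hπ] at this; exact this
  rw [Groth.L21.ExtLattice.length_eq_length_field ε (fun z hz => hunit z fun h => hz ?_), Module.length_eq_finrank]
  obtain ⟨a, rfl⟩ := Ideal.Quotient.mk_surjective z
  have h1 : a ∈ q := Ideal.Quotient.eq_zero_iff_mem.1 h
  rw [← hπ] at h1
  exact h1

end Groth.L21.InsepLength

open CategoryTheory CategoryTheory.Limits AlgebraicGeometry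

namespace Groth.L21.InsepLength

attribute [local instance] Curv2.resAlgebra

/-- The ramification index over a closed point of a base change to an algebraic closure. -/
theorem ramificationIdx_bc (k : Type u) [Field k] (X : Scheme.{u}) [X.Over (Spec (CommRingCat.of k))]
    [LocallyOfFiniteType (X ↘ Spec (CommRingCat.of k))]
    (xb : Curv2.bc k X (AlgebraicClosure k)) (hxb : IsClosed ({xb} : Set (Curv2.bc k X (AlgebraicClosure k)))) :
    letI := ((Curv2.bcFst k X (AlgebraicClosure k)).stalkMap xb).hom.toAlgebra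
    Ideal.ramificationIdx (IsLocalRing.maximalIdeal ((Curv2.bc k X (AlgebraicClosure k)).presheaf.stalk xb))
        (X.presheaf.stalk (Curv2.bcFst k X (AlgebraicClosure k) xb)) =
      Field.finInsepDegree k (X.residueField (Curv2.bcFst k X (AlgebraicClosure k) xb)) := by
  let f := Curv2.bcFst k X (AlgebraicClosure k)
  haveI : IsIntegralHom (Spec.map (CommRingCat.ofHom (algebraMap k (AlgebraicClosure k)))) :=
    IsIntegralHom.SpecMap_iff.2 (algebraMap_isIntegral_iff.2 inferInstance)
  haveI : IsIntegralHom f := MorphismProperty.pullback_fst _ _ inferInstance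
  have hx : IsClosed ({f xb} : Set X) := by
    simpa using f.isClosedMap _ hxb
  haveI : Module.Finite k (X.residueField (f xb)) := Groth.L21.Disc.finite_residueField_of_isClosed k hx
  letI := ((Curv2.bcFst k X (AlgebraicClosure k)).stalkMap xb).hom.toAlgebra
  let S := (Curv2.bc k X (AlgebraicClosure k)).presheaf.stalk xb
  let R := X.presheaf.stalk (f xb)
  -- the ramification index is the multiplicity in the fibre
  have hund : (IsLocalRing.maximalIdeal S).under R = IsLocalRing.maximalIdeal R :=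
    ((IsLocalRing.local_hom_TFAE (f.stalkMap xb).hom).out 0 4).mp (f.toLRSHom.prop xb)
  have h1 : Ideal.ramificationIdx (IsLocalRing.maximalIdeal S) R = (Groth.L22.Cyc.mult f xb).toNat := by
    rw [Ideal.ramificationIdx_def, hund]
    let e := IsLocalization.atUnits S (IsLocalRing.maximalIdeal S).primeCompl
      (S := Localization.AtPrime (IsLocalRing.maximalIdeal S))
      (fun a ha => by
        by_contra h
        exact ha ((IsLocalRing.mem_maximalIdeal a).2 h))
    let Sq := Localization.AtPrime (IsLocalRing.maximalIdeal S)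
    have hJ : (IsLocalRing.maximalIdeal R).map (algebraMap R Sq) =
        (Groth.L22.Cyc.fibIdeal f xb).map (algebraMap S Sq) := by
      rw [Groth.L22.Cyc.fibIdeal, IsScalarTower.algebraMap_eq R S Sq, ← Ideal.map_map]
      rfl
    have hsur : Function.Surjective (algebraMap S Sq) := e.surjective
    rw [hJ, Groth.L22.Cyc.mult, ← Module.length_eq_of_surjective (R := Sq) (S := S) hsur]
    congr 1
    refine LinearEquiv.length_eq ?_
    refine ((Submodule.Quotient.equiv _ _ e.toLinearEquiv ?_).trans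
      (Submodule.Quotient.restrictScalarsEquiv S _)).symm
    have hc : ((Groth.L22.Cyc.fibIdeal f xb).map (algebraMap S Sq)).comap (algebraMap S Sq) =
        Groth.L22.Cyc.fibIdeal f xb := Ideal.comap_map_of_bijective _ e.bijective
    ext v
    simp only [Submodule.mem_map, Submodule.restrictScalars_mem]
    constructor
    · rintro ⟨a, ha, rfl⟩
      exact Ideal.mem_map_of_mem _ ha
    · intro hv
      obtain ⟨a, rfl⟩ := hsur v
      exact ⟨a, hc ▸ (show a ∈ Ideal.comap (algebraMap S Sq) _ from hv), rfl⟩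
  -- the local ring of the fibre is a local ring of `K ⊗ κ`
  obtain ⟨z, hz⟩ : xb ∈ Set.range (f.fiberι (f xb)) := by rw [Scheme.Hom.range_fiberι]; rfl
  obtain ⟨hs, hk⟩ := Groth.L18.stalkMap_fiberι f (f xb) z
  have h2 : Module.length ((f.fiber (f xb)).presheaf.stalk z) ((f.fiber (f xb)).presheaf.stalk z) =
      Groth.L22.Cyc.mult f (f.fiberι (f xb) z) := by
    rw [← Groth.L22.Cyc.length_self_of_ringEquiv (RingHom.quotientKerEquivOfSurjective hs),
      ← Module.length_eq_of_surjective
        (S := (Curv2.bc k X (AlgebraicClosure k)).presheaf.stalk (f.fiberι (f xb) z))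
        (R := (Curv2.bc k X (AlgebraicClosure k)).presheaf.stalk (f.fiberι (f xb) z) ⧸ _)
        (M := (Curv2.bc k X (AlgebraicClosure k)).presheaf.stalk (f.fiberι (f xb) z) ⧸ _)
        Ideal.Quotient.mk_surjective, hk]
    rfl
  have h4 : Groth.L22.Cyc.mult f (f.fiberι (f xb) z) = Groth.L22.Cyc.mult f xb := by rw [hz]
  rw [h1, ← h4, ← h2]
  have hP : IsPullback (f.fiberι (f xb) ≫ pullback.snd (X ↘ Spec (CommRingCat.of k))
      (Spec.map (CommRingCat.ofHom (algebraMap k (AlgebraicClosure k))))) (f.fiberToSpecResidueField (f xb))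
      (Spec.map (CommRingCat.ofHom (algebraMap k (AlgebraicClosure k))))
      (Spec.map (CommRingCat.ofHom (algebraMap k (X.residueField (f xb))))) := by
    have h3 : Spec.map (CommRingCat.ofHom (algebraMap k (X.residueField (f xb)))) =
        X.fromSpecResidueField (f xb) ≫ (X ↘ Spec (CommRingCat.of k)) := Groth.L22.FibreDim.SpecMap_resMap k X _
    rw [h3]
    exact (IsPullback.of_hasPullback f (X.fromSpecResidueField (f xb))).paste_horiz
      (IsPullback.of_hasPullback (X ↘ Spec (CommRingCat.of k))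
        (Spec.map (CommRingCat.ofHom (algebraMap k (AlgebraicClosure k))))).flip
  let E : f.fiber (f xb) ≅ Spec (CommRingCat.of (AlgebraicClosure k ⊗[k] X.residueField (f xb))) :=
    hP.isoPullback ≪≫ pullbackSpecIso k (AlgebraicClosure k) (X.residueField (f xb))
  let φ : (f.fiber (f xb)).presheaf.stalk z ≅
      CommRingCat.of (Localization.AtPrime (E.hom z).asIdeal) :=
    (asIso (E.hom.stalkMap z)).symm ≪≫ (StructureSheaf.stalkIso (AlgebraicClosure k ⊗[k] X.residueField (f xb)) (E.hom z)).toRingEquiv.symm.toCommRingCatIso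
  rw [Groth.L22.Cyc.length_self_of_ringEquiv φ.commRingCatIsoToRingEquiv, length_localization]
  exact ENat.toNat_coe _

end Groth.L21.InsepLength
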