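import Groth.Agent.L05.NormChar.Main
import Groth.Agent.L21.CurveTors.Branches
import Groth.Agent.L22.Norm.GeomRegularCodimOne
import Groth.Agent.L22.BM.NormIso
import Groth.Agent.L25.Extend.Codim
import Groth.Agent.L25.Extend.Main
import Groth.Agent.L21.RR.GeomGenusZero
import Groth.Agent.L21.RR.BaseChange
import Groth.Agent.L21.Nodal.FieldChange
import Groth.Prelude.Def_Curv2
import Mathlib.AlgebraicGeometry.Geometrically.Irreducible
import Mathlib.AlgebraicGeometry.Morphisms.UniversallyOpen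

/-!
The smooth normalisation of a geometrically irreducible curve commutes with field extensions.
-/

set_option autoImplicit false
set_option backward.isDefEq.respectTransparency false
set_option backward.isDefEq.respectTransparency.types false
set_option linter.style.haveILetI false
universe u

open CategoryTheory CategoryTheory.Limits AlgebraicGeometry TopologicalSpace

noncomputable section

namespace Groth.L21.NormBC

/-- Morphisms from reduced schemes factor through the reduction. -/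
theorem nilradical_le_ker' {A B : Scheme.{u}} (π : A ⟶ B) [QuasiCompact π] [IsReduced A] :
    B.nilradical ≤ π.ker := fun V a ha => by
  rw [Scheme.Hom.ker_apply, RingHom.mem_ker]
  have hid : B.nilradical.ideal V = nilradical Γ(B, V.1) := by
    rw [← Scheme.IdealSheafData.radical_bot]
    rfl
  rw [hid] at ha
  exact IsNilpotent.eq_zero ((mem_nilradical.1 ha).map (π.app V.1).hom)

variable (K : Type u) [Field K] (X : Scheme.{u}) [X.Over (Spec (CommRingCat.of K))]
  (Ω : Type u) [Field Ω] [Algebra K Ω] {Y : Scheme.{u}} (π : Y ⟶ X)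

/-- The base change of a morphism to the curve. -/
abbrev ν : pullback (π ≫ (X ↘ Spec (CommRingCat.of K))) (Spec.map (CommRingCat.ofHom (algebraMap K Ω))) ⟶
    Curv2.bc K X Ω :=
  pullback.map (π ≫ (X ↘ Spec (CommRingCat.of K))) (Spec.map (CommRingCat.ofHom (algebraMap K Ω)))
    (X ↘ Spec (CommRingCat.of K)) (Spec.map (CommRingCat.ofHom (algebraMap K Ω))) π (𝟙 _) (𝟙 _)
    (Category.comp_id _) ((Category.comp_id _).trans (Category.id_comp _).symm)

theorem isPullback_ν :
    IsPullback (pullback.fst (π ≫ (X ↘ Spec (CommRingCat.of K))) (Spec.map (CommRingCat.ofHom (algebraMap K Ω))))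
      (ν K X Ω π) π (Curv2.bcFst K X Ω) := by
  refine IsPullback.of_bot ?_ (pullback.lift_fst _ _ _).symm
    (IsPullback.of_hasPullback (X ↘ Spec (CommRingCat.of K)) (Spec.map (CommRingCat.ofHom (algebraMap K Ω))))
  have : ν K X Ω π ≫ pullback.snd _ _ =
      pullback.snd (π ≫ (X ↘ Spec (CommRingCat.of K))) (Spec.map (CommRingCat.ofHom (algebraMap K Ω))) := by
    simp [ν]
  rw [this]
  exact IsPullback.of_hasPullback _ _

theorem isIntegralHom_ν [IsFinite π] : IsIntegralHom (ν K X Ω π) := by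
  haveI : IsIntegralHom π := inferInstance
  exact MorphismProperty.of_isPullback (P := @IsIntegralHom) (isPullback_ν K X Ω π) inferInstance

theorem isIso_ν_restrict (W : X.Opens) [IsIso (π ∣_ W)] :
    IsIso (ν K X Ω π ∣_ (Curv2.bcFst K X Ω ⁻¹ᵁ W)) := by
  let P := pullback (π ≫ (X ↘ Spec (CommRingCat.of K))) (Spec.map (CommRingCat.ofHom (algebraMap K Ω)))
  let g : P ⟶ Y := pullback.fst _ _
  let n := ν K X Ω π
  let b := Curv2.bcFst K X Ω
  have hw : n ≫ b = g ≫ π := (isPullback_ν K X Ω π).w.symm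
  have hle : n ⁻¹ᵁ (b ⁻¹ᵁ W) ≤ g ⁻¹ᵁ (π ⁻¹ᵁ W) := by
    rw [← Scheme.Hom.comp_preimage, ← Scheme.Hom.comp_preimage, hw]
  let g' := g.resLE (π ⁻¹ᵁ W) (n ⁻¹ᵁ (b ⁻¹ᵁ W)) hle
  have hg' : g' ≫ (π ⁻¹ᵁ W).ι = (n ⁻¹ᵁ (b ⁻¹ᵁ W)).ι ≫ g := g.resLE_comp_ι hle
  have h1 : IsPullback ((n ⁻¹ᵁ (b ⁻¹ᵁ W)).ι ≫ g) (n ∣_ (b ⁻¹ᵁ W)) π ((b ⁻¹ᵁ W).ι ≫ b) :=
    (isPullback_morphismRestrict n (b ⁻¹ᵁ W)).flip.paste_horiz (isPullback_ν K X Ω π)
  have h2 : IsPullback (g' ≫ (π ⁻¹ᵁ W).ι) (n ∣_ (b ⁻¹ᵁ W)) π ((b ∣_ W) ≫ W.ι) := by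
    rw [hg', morphismRestrict_ι]; exact h1
  have h3 : g' ≫ (π ∣_ W) = (n ∣_ (b ⁻¹ᵁ W)) ≫ (b ∣_ W) := by
    rw [← cancel_mono W.ι, Category.assoc, Category.assoc, morphismRestrict_ι, morphismRestrict_ι,
      reassoc_of% hg', ← reassoc_of% (morphismRestrict_ι n (b ⁻¹ᵁ W)).symm]
    exact congrArg ((n ⁻¹ᵁ (b ⁻¹ᵁ W)).ι ≫ ·) hw.symm
  exact MorphismProperty.of_isPullback (P := MorphismProperty.isomorphisms Scheme)
    (IsPullback.of_right h2 h3 (isPullback_morphismRestrict π W).flip) (inferInstanceAs (IsIso (π ∣_ W)))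

variable [IsIntegral X] [IsIntegral Y] [GeometricallyIrreducible (X ↘ Spec (CommRingCat.of K))]

/-- The base change of a geometrically irreducible scheme is irreducible. -/
theorem irreducibleSpace_bc : IrreducibleSpace (Curv2.bc K X Ω) :=
  GeometricallyIrreducible.geometrically_irreducibleSpace (f := X ↘ Spec (CommRingCat.of K)) _ _ _
    (IsPullback.of_hasPullback _ _)

variable (W : X.Opens) (hW : (W : Set X).Nonempty)

include hW in
omit [IsIntegral Y] in
theorem nonempty_V : ((Curv2.bcFst K X Ω ⁻¹ᵁ W : (Curv2.bc K X Ω).Opens) : Set (Curv2.bc K X Ω)).Nonempty := by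
  obtain ⟨x, hx⟩ := hW
  obtain ⟨z, rfl⟩ := Groth.L21.Nodal.bcFst_surjective (k := K) (X := X) Ω x
  exact ⟨z, hx⟩

include hW in
/-- The base change of the birational model is irreducible. -/
theorem irreducibleSpace_pullback [IsIso (π ∣_ W)] :
    IrreducibleSpace ↥(pullback (π ≫ (X ↘ Spec (CommRingCat.of K))) (Spec.map (CommRingCat.ofHom (algebraMap K Ω)))) := by
  haveI := irreducibleSpace_bc K X Ω
  haveI := isIso_ν_restrict K X Ω π W
  let V : (Curv2.bc K X Ω).Opens := Curv2.bcFst K X Ω ⁻¹ᵁ W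
  have hVne := nonempty_V K X Ω W hW
  haveI : Nonempty V.toScheme := hVne.to_subtype
  haveI : IrreducibleSpace V.toScheme := by
    have hpre : IsPreirreducible (V : Set (Curv2.bc K X Ω)) :=
      (PreirreducibleSpace.isPreirreducible_univ (X := Curv2.bc K X Ω)).open_subset V.2 (Set.subset_univ _)
    exact Subtype.irreducibleSpace ⟨hVne, hpre⟩
  let U := ν K X Ω π ⁻¹ᵁ V
  haveI : IrreducibleSpace U.toScheme :=
    (asIso (ν K X Ω π ∣_ V)).hom.homeomorph.irreducibleSpace_iff.2 inferInstance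
  have hirr : IsIrreducible (U : Set ↥(pullback (π ≫ (X ↘ Spec (CommRingCat.of K)))
      (Spec.map (CommRingCat.ofHom (algebraMap K Ω))))) := by
    have := (IrreducibleSpace.isIrreducible_univ U.toScheme).image U.ι U.ι.continuous.continuousOn
    rwa [Set.image_univ, Scheme.Opens.range_ι] at this
  haveI : Flat (Spec.map (CommRingCat.ofHom (algebraMap K Ω))) :=
    Flat.SpecMap_iff.2 (RingHom.flat_algebraMap_iff.2 inferInstance)
  let g := pullback.fst (π ≫ (X ↘ Spec (CommRingCat.of K))) (Spec.map (CommRingCat.ofHom (algebraMap K Ω)))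
  haveI : Flat g := MorphismProperty.pullback_fst _ _ inferInstance
  have hπW : (π ⁻¹ᵁ W : Y.Opens) ≠ ⊥ := by
    intro h0
    obtain ⟨x, hx⟩ := hW
    obtain ⟨y, -⟩ : ∃ y : (π ⁻¹ᵁ W).toScheme, (π ∣_ W) y = ⟨x, hx⟩ :=
      (Scheme.homeoOfIso (asIso (π ∣_ W))).surjective _
    exact (show (π ⁻¹ᵁ W).ι y ∈ (⊥ : Y.Opens) from h0 ▸ y.2)
  have hηY : genericPoint Y ∈ π ⁻¹ᵁ W := by
    obtain ⟨y, hy⟩ : ((π ⁻¹ᵁ W : Y.Opens) : Set Y).Nonempty := by
      by_contra h
      exact hπW (Opens.ext (Set.not_nonempty_iff_eq_empty.1 h))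
    exact ((genericPoint_spec Y).specializes trivial).mem_open (π ⁻¹ᵁ W).2 hy
  refine (irreducibleSpace_def _).2 ?_
  have hd : closure (U : Set ↥(pullback (π ≫ (X ↘ Spec (CommRingCat.of K)))
      (Spec.map (CommRingCat.ofHom (algebraMap K Ω))))) = Set.univ := by
    refine Set.eq_univ_of_forall fun z => ?_
    obtain ⟨η, hη, hηz⟩ : ∃ η, η ⤳ z ∧ g η = genericPoint Y := by
      obtain ⟨η, h1, h2⟩ := Flat.generalizingMap (f := g) (genericPoint_specializes (g z))
      exact ⟨η, h1, h2⟩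
    refine hη.mem_closed isClosed_closure (subset_closure ?_)
    show Curv2.bcFst K X Ω (ν K X Ω π η) ∈ W
    rw [← Scheme.Hom.comp_apply, ← (isPullback_ν K X Ω π).w, Scheme.Hom.comp_apply]
    exact hηz ▸ hηY
  rw [show (⊤ : Set _) = Set.univ from rfl, ← hd]
  exact hirr.closure

/-- The base change of a smooth model is the normalisation of the reduced base change. -/
theorem exists_iso [IsFinite π] [hsm : Smooth (π ≫ (X ↘ Spec (CommRingCat.of K)))] [IsIso (π ∣_ W)]
    (hW : (W : Set X).Nonempty)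
    [IsIntegral ((Curv2.bc K X Ω).nilradical).subscheme]
    [QuasiCompact ((((Curv2.bc K X Ω).nilradical).subscheme).fromSpecStalk (genericPoint ((Curv2.bc K X Ω).nilradical).subscheme))]
    [QuasiSeparated ((((Curv2.bc K X Ω).nilradical).subscheme).fromSpecStalk (genericPoint ((Curv2.bc K X Ω).nilradical).subscheme))] :
    ∃ e : pullback (π ≫ (X ↘ Spec (CommRingCat.of K))) (Spec.map (CommRingCat.ofHom (algebraMap K Ω))) ≅
        Curv2.normalization ((Curv2.bc K X Ω).nilradical).subscheme,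
      e.hom ≫ Curv2.normalizationι ((Curv2.bc K X Ω).nilradical).subscheme ≫ ((Curv2.bc K X Ω).nilradical).subschemeι =
        ν K X Ω π := by
  let P := pullback (π ≫ (X ↘ Spec (CommRingCat.of K))) (Spec.map (CommRingCat.ofHom (algebraMap K Ω)))
  let snd : P ⟶ Spec (CommRingCat.of Ω) := pullback.snd _ _
  haveI : Smooth snd := MorphismProperty.pullback_snd _ _ inferInstance
  have hN : Pi1.IsNormalScheme P :=
    Groth.L25.Extend.isNormalScheme_of_smooth snd (Groth.L25.Extend.isNormalScheme_field Ω)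
  haveI : IsReduced P := Groth.L25.Extend.isReduced_of_normal hN
  haveI := irreducibleSpace_pullback K X Ω π W hW
  haveI := isIntegralHom_ν K X Ω π
  haveI := isIso_ν_restrict K X Ω π W
  let ι := ((Curv2.bc K X Ω).nilradical).subschemeι
  let f : P ⟶ ((Curv2.bc K X Ω).nilradical).subscheme := IsClosedImmersion.lift ι (ν K X Ω π) (by
    rw [Scheme.IdealSheafData.ker_subschemeι]
    exact nilradical_le_ker' (ν K X Ω π))
  have hf : f ≫ ι = ν K X Ω π := IsClosedImmersion.lift_fac _ _ _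
  haveI : IsIntegralHom (f ≫ ι) := hf.symm ▸ inferInstance
  haveI : IsIntegralHom f := IsIntegralHom.of_comp f ι
  haveI : Surjective ι := ⟨fun x => by
    have h : x ∈ Set.range ι.base := by
      rw [Scheme.IdealSheafData.range_subschemeι, Scheme.support_nilradical]; trivial
    exact h⟩
  let V : (Curv2.bc K X Ω).Opens := Curv2.bcFst K X Ω ⁻¹ᵁ W
  haveI : IsIso ((f ≫ ι) ∣_ V) := by rw [hf]; infer_instance
  haveI : IsClosedImmersion (ι ∣_ V) := inferInstance
  haveI hfV : IsIso (f ∣_ ι ⁻¹ᵁ V) := by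
    haveI : IsIso ((f ∣_ ι ⁻¹ᵁ V) ≫ (ι ∣_ V)) := by rw [← morphismRestrict_comp]; infer_instance
    haveI : IsIso (ι ∣_ V) := by
      haveI : IsSplitEpi (ι ∣_ V) := ⟨⟨inv ((f ∣_ ι ⁻¹ᵁ V) ≫ (ι ∣_ V)) ≫ (f ∣_ ι ⁻¹ᵁ V),
        by rw [Category.assoc]; exact IsIso.inv_hom_id _⟩⟩
      exact isIso_of_mono_of_isSplitEpi _
    exact IsIso.of_isIso_comp_right (f ∣_ ι ⁻¹ᵁ V) (ι ∣_ V)
  have hηV : genericPoint ((Curv2.bc K X Ω).nilradical).subscheme ∈ ι ⁻¹ᵁ V := by
    obtain ⟨z, hz⟩ := nonempty_V K X Ω W hW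
    obtain ⟨y, rfl⟩ := ι.surjective z
    exact ((genericPoint_spec _).specializes (y := y) trivial).mem_open (ι ⁻¹ᵁ V).2 hz
  let h := Scheme.homeoOfIso (asIso (f ∣_ ι ⁻¹ᵁ V))
  have hbase : ∀ y : (f ⁻¹ᵁ (ι ⁻¹ᵁ V)).toScheme, (ι ⁻¹ᵁ V).ι ((f ∣_ ι ⁻¹ᵁ V) y) = f ((f ⁻¹ᵁ (ι ⁻¹ᵁ V)).ι y) :=
    fun y => congrArg (fun q => q.base y) (morphismRestrict_ι f (ι ⁻¹ᵁ V))
  haveI : IsIntegral P := isIntegral_of_irreducibleSpace_of_isReduced _
  have hηP : f (genericPoint P) = genericPoint _ := by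
    obtain ⟨y, hy⟩ := h.surjective ⟨_, hηV⟩
    have hfy : f ((f ⁻¹ᵁ (ι ⁻¹ᵁ V)).ι y) = genericPoint ((Curv2.bc K X Ω).nilradical).subscheme :=
      (hbase y).symm.trans (congrArg Subtype.val hy)
    exact hfy ▸ congrArg f (Groth.L05.NormChar.eq_genericPoint_of_isIntegralHom f hfy).symm
  have hfib : f.base ⁻¹' {genericPoint _} = {genericPoint P} := by
    ext y
    exact ⟨fun hy => Groth.L05.NormChar.eq_genericPoint_of_isIntegralHom f hy, fun hy => hy ▸ hηP⟩
  haveI : IsIso (f.stalkMap (genericPoint P)) := by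
    have hm : genericPoint P ∈ f ⁻¹ᵁ (ι ⁻¹ᵁ V) := show f _ ∈ ι ⁻¹ᵁ V from hηP ▸ hηV
    exact ((MorphismProperty.isomorphisms _).arrow_mk_iso_iff
      (morphismRestrictStalkMap f (ι ⁻¹ᵁ V) ⟨_, hm⟩)).1 (inferInstanceAs (IsIso _))
  obtain ⟨e, he⟩ := Groth.L05.NormChar.iso_of_props _ f hN hfib
  exact ⟨e, by rw [← Category.assoc, he]; exact hf⟩

/-- The reduction of a geometrically irreducible scheme is geometrically irreducible. -/
theorem geometricallyIrreducible_red {X : Scheme.{u}} (s : X ⟶ Spec (CommRingCat.of K))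
    [GeometricallyIrreducible s] : GeometricallyIrreducible (X.nilradical.subschemeι ≫ s) := by
  refine ⟨geometrically_iff_of_isClosedUnderIsomorphisms.mpr fun L _ x => ?_⟩
  let ι := X.nilradical.subschemeι
  haveI : Surjective ι := ⟨fun z => by
    have h : z ∈ Set.range ι.base := by
      rw [Scheme.IdealSheafData.range_subschemeι, Scheme.support_nilradical]; trivial
    exact h⟩
  haveI : IrreducibleSpace ↥(pullback s x) :=
    GeometricallyIrreducible.geometrically_irreducibleSpace (f := s) _ _ _ (IsPullback.of_hasPullback _ _)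
  rw [← (pullbackRightPullbackFstIso s x ι).hom.homeomorph.irreducibleSpace_iff]
  haveI : IsClosedImmersion (pullback.snd ι (pullback.fst s x)) := MorphismProperty.pullback_snd _ _ inferInstance
  haveI : Surjective (pullback.snd ι (pullback.fst s x)) := MorphismProperty.pullback_snd _ _ inferInstance
  have hh : IsHomeomorph (pullback.snd ι (pullback.fst s x)).base :=
    isHomeomorph_iff_continuous_isClosedMap_bijective.mpr
      ⟨Scheme.Hom.continuous _, Scheme.Hom.isClosedMap _, Scheme.Hom.isEmbedding _ |>.injective,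
        Scheme.Hom.surjective _⟩
  exact hh.homeomorph.irreducibleSpace_iff.2 inferInstance

/-- A smooth normalisation of a geometrically irreducible proper curve has only constant global functions. -/
theorem h0_normalization [IsProper (X ↘ Spec (CommRingCat.of K))]
    [QuasiCompact (X.fromSpecStalk (genericPoint X))] [QuasiSeparated (X.fromSpecStalk (genericPoint X))]
    (hsm : Smooth (Curv2.normalizationι X ≫ (X ↘ Spec (CommRingCat.of K)))) :
    letI : (Curv2.normalization X).Over (Spec (CommRingCat.of K)) :=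
      ⟨Curv2.normalizationι X ≫ (X ↘ Spec (CommRingCat.of K))⟩
    Module.finrank K (Coh.HH (Curv2.normalization X) (Coh.structureModule (Curv2.normalization X)) 0) = 1 := by
  letI : (Curv2.normalization X).Over (Spec (CommRingCat.of K)) :=
    ⟨Curv2.normalizationι X ≫ (X ↘ Spec (CommRingCat.of K))⟩
  haveI : IsFinite (Curv2.normalizationι X) := Groth.L22.Norm.GeomRegularCodimOne.isFinite_normalization K X
  obtain ⟨W, hW, hiso⟩ := Groth.L22.BM.exists_isIso_normalizationι X
  haveI := hiso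
  obtain ⟨hint, -⟩ := Groth.Agent.S2351.result X
  haveI := hint
  haveI := hsm
  haveI : IsProper (Curv2.normalization X ↘ Spec (CommRingCat.of K)) :=
    inferInstanceAs (IsProper (Curv2.normalizationι X ≫ (X ↘ Spec (CommRingCat.of K))))
  let Ω := AlgebraicClosure K
  let φ := Spec.map (CommRingCat.ofHom (algebraMap K Ω))
  let P := pullback (Curv2.normalizationι X ≫ (X ↘ Spec (CommRingCat.of K))) φ
  letI : P.Over (Spec (CommRingCat.of Ω)) := ⟨pullback.snd _ _⟩
  haveI : IrreducibleSpace ↥P := irreducibleSpace_pullback K X Ω (Curv2.normalizationι X) W hW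
  haveI : Smooth (P ↘ Spec (CommRingCat.of Ω)) :=
    MorphismProperty.pullback_snd (P := @Smooth) (Curv2.normalizationι X ≫ (X ↘ Spec (CommRingCat.of K))) φ hsm
  haveI : IsReduced P := Groth.L25.Extend.isReduced_of_normal
    (Groth.L25.Extend.isNormalScheme_of_smooth (P ↘ Spec (CommRingCat.of Ω)) (Groth.L25.Extend.isNormalScheme_field Ω))
  haveI : IsIntegral P := isIntegral_of_irreducibleSpace_of_isReduced _
  haveI : IsProper (P ↘ Spec (CommRingCat.of Ω)) :=
    MorphismProperty.pullback_snd (P := @IsProper) (Curv2.normalizationι X ≫ (X ↘ Spec (CommRingCat.of K))) φ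
      inferInstance
  have sq : IsPullback (pullback.fst (Curv2.normalizationι X ≫ (X ↘ Spec (CommRingCat.of K))) φ)
      (P ↘ Spec (CommRingCat.of Ω)) (Curv2.normalization X ↘ Spec (CommRingCat.of K))
      (Spec.map (CommRingCat.ofHom (algebraMap K Ω))) := IsPullback.of_hasPullback _ _
  exact (Groth.L21.RR.h_structure_bc _ sq 0).symm.trans (Groth.L21.RR.h0_eq_one_of_isAlgClosed Ω)

end Groth.L21.NormBC
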