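import Groth.Prelude.Def_W4c1stackycurvesGalP1
import Mathlib.LinearAlgebra.Projectivization.Action
import Mathlib.LinearAlgebra.Projectivization.Independence
import Mathlib.LinearAlgebra.Matrix.GeneralLinearGroup.Defs
import Mathlib.LinearAlgebra.Matrix.NonsingularInverse
import Mathlib.LinearAlgebra.Matrix.ToLinearEquiv
import Mathlib.LinearAlgebra.FiniteDimensional.Basic
import Mathlib.FieldTheory.Galois.Basic
import Mathlib.Data.Set.Card
import Mathlib.Tactic.LinearCombination
import Mathlib.Tactic.FinCases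

/-! Galois equivariant three-transitivity on the projective line. -/

set_option autoImplicit false
universe u

open W4c1stackycurves
open scoped Matrix

namespace Groth.L21.P1Trans

variable {k K : Type u} [Field k] [Field K] [Algebra k K]

local notation "P1" => Projectivization K (Fin 2 → K)

theorem indep_of_ne {p q : P1} (h : p ≠ q) {a b : K} (hab : a • p.rep + b • q.rep = 0) : a = 0 ∧ b = 0 := by
  by_cases ha : a = 0
  · subst ha
    rw [zero_smul, zero_add, smul_eq_zero] at hab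
    exact ⟨rfl, hab.resolve_right q.rep_nonzero⟩
  · refine absurd ?_ h
    rw [← p.mk_rep, ← q.mk_rep, Projectivization.mk_eq_mk_iff']
    refine ⟨-(b / a), ?_⟩
    have : p.rep = -(b / a) • q.rep := by
      have h1 : a • p.rep = -(b • q.rep) := eq_neg_of_add_eq_zero_left hab
      rw [← inv_smul_smul₀ ha p.rep, h1, smul_neg, smul_smul, neg_smul, div_eq_inv_mul]
    exact this.symm

/-- Matrices sending the lines `P i` into the lines `Q i`. -/
def Sends (M : Matrix (Fin 2) (Fin 2) K) (P Q : Fin 3 → P1) : Prop :=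
  ∀ i, ∃ c : K, M *ᵥ (P i).rep = c • (Q i).rep

theorem exists_basis {p q : P1} (h : p ≠ q) :
    ∃ b : Module.Basis (Fin 2) K (Fin 2 → K), b 0 = p.rep ∧ b 1 = q.rep := by
  have hli : LinearIndependent K ![p.rep, q.rep] :=
    LinearIndependent.pair_iff.2 fun a b hab => indep_of_ne h hab
  exact ⟨basisOfLinearIndependentOfCardEqFinrank hli (by simp), by simp, by simp⟩

theorem exists_comb {p q r : P1} (h : p ≠ q) (hp : r ≠ p) (hq : r ≠ q) :
    ∃ a b : K, a ≠ 0 ∧ b ≠ 0 ∧ a • p.rep + b • q.rep = r.rep := by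
  obtain ⟨B, h0, h1⟩ := exists_basis h
  have hsum := B.sum_repr r.rep
  rw [Fin.sum_univ_two, h0, h1] at hsum
  refine ⟨_, _, ?_, ?_, hsum⟩
  · intro h2
    rw [h2, zero_smul, zero_add] at hsum
    exact hq (by rw [← r.mk_rep, ← q.mk_rep, Projectivization.mk_eq_mk_iff']; exact ⟨_, hsum⟩)
  · intro h2
    rw [h2, zero_smul, add_zero] at hsum
    exact hp (by rw [← r.mk_rep, ← p.mk_rep, Projectivization.mk_eq_mk_iff']; exact ⟨_, hsum⟩)

theorem exists_unique_sends (P Q : Fin 3 → P1) (hP : Function.Injective P) (hQ : Function.Injective Q) :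
    ∃ M : Matrix (Fin 2) (Fin 2) K, M.det ≠ 0 ∧ Sends M P Q ∧
      ∀ M', Sends M' P Q → ∃ c : K, M' = c • M := by
  obtain ⟨a, b, ha, hb, hab⟩ := exists_comb (hP.ne (show (0 : Fin 3) ≠ 1 by decide))
    (hP.ne (show (2 : Fin 3) ≠ 0 by decide)) (hP.ne (show (2 : Fin 3) ≠ 1 by decide))
  obtain ⟨a', b', ha', hb', hab'⟩ := exists_comb (hQ.ne (show (0 : Fin 3) ≠ 1 by decide))
    (hQ.ne (show (2 : Fin 3) ≠ 0 by decide)) (hQ.ne (show (2 : Fin 3) ≠ 1 by decide))
  obtain ⟨B, h0, h1⟩ := exists_basis (hP.ne (show (0 : Fin 3) ≠ 1 by decide))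
  let L : (Fin 2 → K) →ₗ[K] (Fin 2 → K) := B.constr K ![(a' / a) • (Q 0).rep, (b' / b) • (Q 1).rep]
  have hL0 : L (P 0).rep = (a' / a) • (Q 0).rep := by rw [← h0]; simp [L]
  have hL1 : L (P 1).rep = (b' / b) • (Q 1).rep := by rw [← h1]; simp [L]
  have hinj : Function.Injective L := by
    rw [injective_iff_map_eq_zero]
    intro v hv
    have hs := B.sum_repr v
    rw [Fin.sum_univ_two, h0, h1] at hs
    rw [← hs, map_add, map_smul, map_smul, hL0, hL1, smul_smul, smul_smul] at hv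
    obtain ⟨e0, e1⟩ := indep_of_ne (hQ.ne (show (0 : Fin 3) ≠ 1 by decide)) hv
    rw [← hs, (mul_eq_zero.1 e0).resolve_right (div_ne_zero ha' ha),
      (mul_eq_zero.1 e1).resolve_right (div_ne_zero hb' hb), zero_smul, zero_smul, add_zero]
  have hM : ∀ v, LinearMap.toMatrix' L *ᵥ v = L v := fun v => LinearMap.toMatrix'_mulVec L v
  refine ⟨LinearMap.toMatrix' L, ?_, ?_, ?_⟩
  · rw [← isUnit_iff_ne_zero, ← Matrix.isUnit_iff_isUnit_det, ← Matrix.mulVec_injective_iff_isUnit]
    intro v w hvw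
    exact hinj (by rw [← hM, ← hM]; exact hvw)
  · intro i
    simp only [hM]
    fin_cases i
    · exact ⟨_, hL0⟩
    · exact ⟨_, hL1⟩
    · refine ⟨1, ?_⟩
      change L (P 2).rep = (1 : K) • (Q 2).rep
      rw [← hab, map_add, map_smul, map_smul, hL0, hL1, smul_smul, smul_smul, mul_div_cancel₀ _ ha,
        mul_div_cancel₀ _ hb, hab', one_smul]
  · intro M' hM'
    obtain ⟨c0, hc0⟩ := hM' 0
    obtain ⟨c1, hc1⟩ := hM' 1
    obtain ⟨c2, hc2⟩ := hM' 2
    rw [← hab, Matrix.mulVec_add, Matrix.mulVec_smul, Matrix.mulVec_smul, hc0, hc1, ← hab', smul_add,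
      smul_smul, smul_smul, smul_smul, smul_smul, ← sub_eq_zero, add_sub_add_comm, ← sub_smul, ← sub_smul] at hc2
    obtain ⟨e0, e1⟩ := indep_of_ne (hQ.ne (show (0 : Fin 3) ≠ 1 by decide)) hc2
    rw [sub_eq_zero] at e0 e1
    refine ⟨c2, Matrix.ext_iff_mulVec.2 fun v => ?_⟩
    have hs := B.sum_repr v
    rw [Fin.sum_univ_two, h0, h1] at hs
    rw [Matrix.smul_mulVec, hM, ← hs, Matrix.mulVec_add, Matrix.mulVec_smul, Matrix.mulVec_smul,
      map_add, map_smul, map_smul, hc0, hc1, hL0, hL1]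
    simp only [smul_add, smul_smul]
    rw [show c2 * (B.repr v 0 * (a' / a)) = B.repr v 0 * c0 by field_simp; linear_combination (-B.repr v 0) * e0,
      show c2 * (B.repr v 1 * (b' / b)) = B.repr v 1 * c1 by field_simp; linear_combination (-B.repr v 1) * e1]

theorem galP_mk (σ : K ≃ₐ[k] K) (v : Fin 2 → K) (hv : v ≠ 0) (hv' : (σ ∘ v : Fin 2 → K) ≠ 0) :
    galP σ (Projectivization.mk K v hv) = Projectivization.mk K (σ ∘ v) hv' := rfl

theorem rep_galP (σ : K ≃ₐ[k] K) (p : P1) : ∃ c : K, c ≠ 0 ∧ (galP σ p).rep = c • (σ ∘ p.rep : Fin 2 → K) := by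
  have hv : (σ ∘ p.rep : Fin 2 → K) ≠ 0 := fun h => p.rep_nonzero (funext fun i => by
    have := congrFun h i
    simpa using this)
  obtain ⟨a, ha⟩ := Projectivization.exists_smul_eq_mk_rep K _ hv
  refine ⟨a, a.ne_zero, ?_⟩
  have : galP σ p = Projectivization.mk K (σ ∘ p.rep) hv := by
    conv_lhs => rw [← p.mk_rep]
    rfl
  rw [this, ← ha]
  rfl

theorem main_three [FiniteDimensional k K] [IsGalois k K] (S : Set P1) (h3 : S.ncard = 3) (f : P1 → P1)
    (hS : ∀ (σ : K ≃ₐ[k] K), ∀ x ∈ S, galP σ x ∈ S) (hf : Set.InjOn f S)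
    (hfe : ∀ (σ : K ≃ₐ[k] K), ∀ x ∈ S, f (galP σ x) = galP σ (f x)) :
    ∃ g : Matrix.GeneralLinearGroup (Fin 2) k, ∀ x ∈ S,
      Matrix.GeneralLinearGroup.toLin ((Matrix.GeneralLinearGroup.map (algebraMap k K)) g) • x = f x := by
  obtain ⟨x, y, z, hxy, hxz, hyz, rfl⟩ := Set.ncard_eq_three.1 h3
  let P : Fin 3 → P1 := ![x, y, z]
  have hmem : ∀ i, P i ∈ ({x, y, z} : Set P1) := fun i => by fin_cases i <;> simp [P]
  have hP : Function.Injective P := by
    intro i j hij
    fin_cases i <;> fin_cases j <;> simp_all [P, eq_comm]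
  have hrange : ∀ p ∈ ({x, y, z} : Set P1), ∃ i, P i = p := by
    rintro p (rfl | rfl | rfl)
    exacts [⟨0, rfl⟩, ⟨1, rfl⟩, ⟨2, rfl⟩]
  obtain ⟨M, hdet, hM, huniq⟩ := exists_unique_sends P (f ∘ P) hP
    (fun i j hij => hP (hf (hmem i) (hmem j) hij))
  have hgal : ∀ σ : K ≃ₐ[k] K, ∃ c : K, M.map σ = c • M := by
    intro σ
    refine huniq _ fun j => ?_
    obtain ⟨i, hi⟩ : ∃ i, galP σ (P i) = P j := by
      obtain ⟨i, hi⟩ := hrange _ (hS σ.symm _ (hmem j))
      refine ⟨i, ?_⟩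
      rw [hi]
      conv_rhs => rw [← (P j).mk_rep]
      conv_lhs => rw [← (P j).mk_rep]
      obtain ⟨c, hc, hc'⟩ := rep_galP σ.symm (P j)
      have hσ : galP σ (galP σ.symm (P j)) = P j := by
        have hv : (σ.symm ∘ (P j).rep : Fin 2 → K) ≠ 0 := fun h => (P j).rep_nonzero (funext fun i => by
          simpa using congrFun h i)
        conv_lhs => rw [← (P j).mk_rep]
        conv_rhs => rw [← (P j).mk_rep]
        rw [galP_mk σ.symm _ _ hv, galP_mk σ _ _ (fun h => (P j).rep_nonzero (funext fun i => by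
          simpa using congrFun h i))]
        congr 1
        funext i
        simp
      rw [(P j).mk_rep]
      exact hσ
    obtain ⟨c, hc⟩ := hM i
    obtain ⟨d, hd0, hd⟩ := rep_galP σ (P i)
    obtain ⟨e, he0, he⟩ := rep_galP σ (f (P i))
    have hfj : f (P j) = galP σ (f (P i)) := by rw [← hi]; exact hfe σ _ (hmem i)
    refine ⟨d * σ c / e, ?_⟩
    rw [Function.comp_apply, hfj, he, ← hi, hd, Matrix.mulVec_smul, smul_smul, div_mul_cancel₀ _ he0, ← smul_smul]
    congr 1
    funext l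
    have hcl := congrArg σ (congrFun hc l)
    simp only [Matrix.mulVec, dotProduct, Fin.sum_univ_two, Function.comp_apply, Pi.smul_apply,
      smul_eq_mul, map_add, map_mul, Matrix.map_apply] at hcl ⊢
    exact hcl
  obtain ⟨r, s, hrs⟩ : ∃ r s, M r s ≠ 0 := by
    by_contra h
    push Not at h
    exact hdet (by rw [show M = 0 from Matrix.ext h, Matrix.det_zero])
  obtain ⟨N, hN⟩ : ∃ N : Matrix (Fin 2) (Fin 2) k, N.map (algebraMap k K) = (M r s)⁻¹ • M := by
    have : ∀ i j, ∃ a : k, algebraMap k K a = (M r s)⁻¹ * M i j := fun i j => by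
      refine (IsGalois.mem_range_algebraMap_iff_fixed _).2 fun σ => ?_
      obtain ⟨c, hc⟩ := hgal σ
      have h1 : ∀ i j, σ (M i j) = c * M i j := fun i j => congrFun (congrFun hc i) j
      have hc0 : c ≠ 0 := fun h => hrs (σ.injective (by rw [h1, h, zero_mul, map_zero]))
      rw [map_mul, map_inv₀, h1, h1]
      field_simp
    choose N hN using this
    exact ⟨Matrix.of N, Matrix.ext fun i j => hN i j⟩
  have hdetN : N.det ≠ 0 := fun h => by
    have := congrArg Matrix.det hN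
    rw [← RingHom.mapMatrix_apply, ← RingHom.map_det, h, map_zero, Matrix.det_smul] at this
    exact mul_ne_zero (pow_ne_zero _ (inv_ne_zero hrs)) hdet this.symm
  refine ⟨Matrix.GeneralLinearGroup.mkOfDetNeZero N hdetN, fun p hp => ?_⟩
  obtain ⟨i, rfl⟩ := hrange p hp
  obtain ⟨c, hc⟩ := hM i
  set G := Matrix.GeneralLinearGroup.toLin
    ((Matrix.GeneralLinearGroup.map (algebraMap k K)) (Matrix.GeneralLinearGroup.mkOfDetNeZero N hdetN))
  have hG : ∀ v : Fin 2 → K, G • v = ((M r s)⁻¹ • M) *ᵥ v := fun v => by rw [← hN]; rfl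
  conv_lhs => rw [← (P i).mk_rep]
  conv_rhs => rw [← (f (P i)).mk_rep]
  rw [Projectivization.smul_mk, Projectivization.mk_eq_mk_iff']
  exact ⟨(M r s)⁻¹ * c, by rw [hG, Matrix.smul_mulVec, hc, smul_smul]; rfl⟩

/-- A rational point outside a set with at most two elements. -/
theorem exists_rational_notMem (S : Set P1) (hfin : S.Finite) (h : S.ncard < 3) :
    ∃ p, p ∉ S ∧ ∀ σ : K ≃ₐ[k] K, galP σ p = p := by
  classical
  let v : Fin 3 → (Fin 2 → K) := ![![1, 0], ![0, 1], ![1, 1]]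
  have hv : ∀ i, v i ≠ 0 := fun i h => by
    fin_cases i
    · exact one_ne_zero (congrFun h 0)
    · exact one_ne_zero (congrFun h 1)
    · exact one_ne_zero (congrFun h 0)
  let T : Fin 3 → P1 := fun i => Projectivization.mk K (v i) (hv i)
  have hT : Function.Injective T := by
    intro i j hij
    obtain ⟨a, ha⟩ := (Projectivization.mk_eq_mk_iff' K _ _ (hv i) (hv j)).1 hij
    have h0 := congrFun ha 0
    have h1 := congrFun ha 1
    fin_cases i <;> fin_cases j <;> simp_all [v]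
  obtain ⟨i, hi⟩ : ∃ i, T i ∉ S := by
    by_contra hall
    push Not at hall
    have := Set.ncard_le_ncard (s := Set.range T) (t := S) (by rintro _ ⟨i, rfl⟩; exact hall i) hfin
    rw [Set.ncard_range_of_injective hT, Nat.card_fin] at this
    omega
  refine ⟨T i, hi, fun σ => ?_⟩
  have : (σ ∘ v i : Fin 2 → K) = v i := by
    funext j
    fin_cases i <;> fin_cases j <;> simp [v]
  rw [galP_mk σ _ _ (by rw [this]; exact hv i)]
  congr 1

theorem main [FiniteDimensional k K] [IsGalois k K] : ∀ (n : ℕ) (S : Set P1), S.Finite → S.ncard + n = 3 →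
    ∀ (f : P1 → P1), (∀ (σ : K ≃ₐ[k] K), ∀ x ∈ S, galP σ x ∈ S) → Set.InjOn f S →
    (∀ (σ : K ≃ₐ[k] K), ∀ x ∈ S, f (galP σ x) = galP σ (f x)) →
    ∃ g : Matrix.GeneralLinearGroup (Fin 2) k, ∀ x ∈ S,
      Matrix.GeneralLinearGroup.toLin ((Matrix.GeneralLinearGroup.map (algebraMap k K)) g) • x = f x := by
  classical
  intro n
  induction n with
  | zero => exact fun S _ h f hS hf hfe => main_three S (by simpa using h) f hS hf hfe
  | succ n ih =>
    intro S hfin h f hS hf hfe
    obtain ⟨p, hp, hpr⟩ := exists_rational_notMem (k := k) S hfin (by omega)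
    obtain ⟨q, hq, hqr⟩ := exists_rational_notMem (k := k) (f '' S) (hfin.image f)
      (by rw [hf.ncard_image]; omega)
    have hu : ∀ x ∈ S, Function.update f p q x = f x := fun x hx =>
      Function.update_of_ne (fun h' => hp (by rw [← h']; exact hx)) _ _
    refine (ih (insert p S) (hfin.insert p) (by rw [Set.ncard_insert_of_notMem hp hfin]; omega)
      (Function.update f p q) ?_ ?_ ?_).elim
        fun g hg => ⟨g, fun x hx => (hg x (Set.mem_insert_of_mem _ hx)).trans (hu x hx)⟩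
    · rintro σ x (rfl | hx)
      · exact Or.inl (hpr σ)
      · exact Or.inr (hS σ x hx)
    · rw [Set.injOn_insert hp]
      refine ⟨fun x hx y hy hxy => hf hx hy (by rwa [hu x hx, hu y hy] at hxy), ?_⟩
      rintro ⟨x, hx, hxp⟩
      rw [hu x hx, Function.update_self] at hxp
      exact hq ⟨x, hx, hxp⟩
    · rintro σ x (rfl | hx)
      · rw [hpr, Function.update_self, hqr]
      · rw [hu x hx, hu _ (hS σ x hx), hfe σ x hx]

end Groth.L21.P1Trans
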