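import Mathlib.Algebra.Polynomial.Degree.Domain
import Mathlib.Algebra.Polynomial.Degree.Lemmas
import Mathlib.Algebra.Prime.Lemmas
import Mathlib.Algebra.Polynomial.RingDivision
import Mathlib.Tactic.LinearCombination

namespace Groth.L21

open Polynomial

/-- A quadratic `π Y² + b Y + c` over a domain is irreducible if `π` is prime, `π ∣ b`, `π ∤ c`. -/
theorem irreducible_quadratic_of_prime {R : Type*} [CommRing R] [IsDomain R] (a b c : R) (ha : Prime a)
    (hb : a ∣ b) (hc : ¬ a ∣ c) :
    Irreducible (C a * X ^ 2 + C b * X + C c : R[X]) := by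
  set P : R[X] := C a * X ^ 2 + C b * X + C c with hP
  have hdeg : P.natDegree = 2 := natDegree_quadratic ha.ne_zero
  have h2 : P.coeff 2 = a := by simp [hP, coeff_C, coeff_X]
  have h1 : P.coeff 1 = b := by simp [hP, coeff_C, coeff_X]
  have h0 : P.coeff 0 = c := by simp [hP, coeff_C, coeff_X]
  have hP0 : P ≠ 0 := fun h => by simp [h] at hdeg
  refine ⟨fun hu => ?_, fun u v huv => ?_⟩
  · have := natDegree_eq_zero_of_isUnit hu
    omega
  have hu0 : u ≠ 0 := fun h => hP0 (by simp [huv, h])
  have hv0 : v ≠ 0 := fun h => hP0 (by simp [huv, h])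
  have hsum : u.natDegree + v.natDegree = 2 := by rw [← natDegree_mul hu0 hv0, ← huv, hdeg]
  -- a constant factor is a unit
  have hconst : ∀ u v : R[X], P = u * v → u.natDegree = 0 → IsUnit u := by
    intro u v huv hu
    obtain ⟨w, rfl⟩ := natDegree_eq_zero.1 hu
    rw [huv, coeff_C_mul] at h2 h0
    rcases ha.irreducible.isUnit_or_isUnit h2.symm with h | h
    · exact isUnit_C.2 h
    · exfalso
      refine hc ?_
      obtain ⟨t, ht⟩ := h
      rw [← h2, ← h0, ← ht]
      exact mul_dvd_mul_left w (Units.isUnit t).dvd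
  by_cases hu : u.natDegree = 0
  · exact Or.inl (hconst u v huv hu)
  by_cases hv : v.natDegree = 0
  · exact Or.inr (hconst v u (huv.trans (mul_comm u v)) hv)
  exfalso
  have hu1 : u.natDegree = 1 := by omega
  have hv1 : v.natDegree = 1 := by omega
  obtain ⟨p, q, rfl⟩ := exists_eq_X_add_C_of_natDegree_le_one hu1.le
  obtain ⟨p', q', rfl⟩ := exists_eq_X_add_C_of_natDegree_le_one hv1.le
  have he : P = C (p * p') * X ^ 2 + C (p * q' + q * p') * X + C (q * q') := by
    rw [huv]; simp only [map_mul, map_add]; ring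
  rw [he] at h2 h1 h0
  simp only [coeff_add, coeff_C_mul_X_pow, coeff_C_mul_X, coeff_C, OfNat.ofNat_ne_zero, if_false, if_true, add_zero, zero_add] at h2 h1 h0
  norm_num at h2 h1 h0
  -- the case `a ∣ p`, other symmetric
  have hcore : ∀ p q p' q' : R, p * p' = a → p * q' + q * p' = b → q * q' = c → a ∣ p → False := by
    intro p q p' q' h2 h1 h0 hp
    obtain ⟨t, rfl⟩ := hp
    have htp : t * p' = 1 := mul_left_cancel₀ ha.ne_zero (by linear_combination h2)
    apply hc
    obtain ⟨s, rfl⟩ := hb
    exact ⟨(s - t * q') * t * q', by linear_combination -h0 + (t * q') * h1 - q * q' * htp⟩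
  rcases ha.dvd_or_dvd (dvd_of_eq h2.symm) with h | h
  · exact hcore p q p' q' h2 h1 h0 h
  · exact hcore p' q' p q (by linear_combination h2) (by linear_combination h1)
      (by linear_combination h0) h

end Groth.L21
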