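import Groth.Agent.L01.Regular
import Mathlib.RingTheory.Ideal.MinimalPrime.Noetherian
import Mathlib.RingTheory.UniqueFactorizationDomain.Basic
import Mathlib.RingTheory.DiscreteValuationRing.TFAE
import Mathlib.Algebra.GCDMonoid.Nat

/-!
Primes and radical ideals in two-dimensional regular local rings.
-/

set_option autoImplicit false
universe u

open IsLocalRing

namespace Groth.L21.RegularTwo

variable {A : Type u} [CommRing A] [IsRegularLocalRing A]

/-- In a regular local ring of dimension two, non-maximal primes are principal. -/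
theorem isPrincipal_of_prime (hdim : ringKrullDim A = 2) (P : Ideal A) [P.IsPrime]
    (hP : P ≠ maximalIdeal A) : ∃ f, P = Ideal.span {f} := by
  haveI := Groth.L01.isDomain_of_regular A
  have hPm : P ≤ maximalIdeal A := le_maximalIdeal (Ideal.IsPrime.ne_top inferInstance)
  have hm2 : maximalIdeal A ^ 2 ≠ maximalIdeal A := by
    intro h
    have hbot : maximalIdeal A = ⊥ := by
      refine Submodule.eq_bot_of_le_smul_of_le_jacobson_bot (maximalIdeal A) _ (IsNoetherian.noetherian _) ?_
        (maximalIdeal_le_jacobson _)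
      rw [smul_eq_mul, ← pow_two, h]
    have hf := IsLocalRing.isField_iff_maximalIdeal_eq.mpr hbot
    letI := hf.toField
    rw [ringKrullDim_eq_zero_of_field A] at hdim
    exact absurd hdim (by decide)
  obtain ⟨x, hx, hx2⟩ := SetLike.exists_of_lt (lt_of_le_of_ne (Ideal.pow_le_self two_ne_zero) hm2)
  obtain ⟨hreg, hd⟩ := Groth.L01.regular_quotient_of_notMem_sq hx hx2
  haveI := hreg
  haveI := Groth.L01.isDomain_of_regular (A ⧸ Ideal.span {x})
  have hd1 : ringKrullDim (A ⧸ Ideal.span {x}) = 1 := by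
    obtain ⟨n, hn⟩ := Groth.L01.exists_dim_eq_nat (R := A ⧸ Ideal.span {x})
    rw [hn, hdim] at hd
    have : n + 1 = 2 := by exact_mod_cast hd
    rw [hn, show n = 1 by omega]; rfl
  haveI : IsPrincipalIdealRing (A ⧸ Ideal.span {x}) := by
    refine (tfae_of_isNoetherianRing_of_isLocalRing_of_isDomain _).out 4 0 |>.mp ?_
    have h1 : (maximalIdeal (A ⧸ Ideal.span {x})).spanFinrank ≤ 1 := by
      have := IsRegularLocalRing.spanFinrank_maximalIdeal (R := A ⧸ Ideal.span {x})
      rw [hd1] at this
      have : (maximalIdeal (A ⧸ Ideal.span {x})).spanFinrank = 1 := by exact_mod_cast this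
      omega
    have hfg : (maximalIdeal (A ⧸ Ideal.span {x})).FG := IsNoetherian.noetherian _
    haveI := (Submodule.FG.finite_generators hfg).to_subtype
    rcases (Set.ncard_le_one_iff_subsingleton.mp ((Submodule.FG.generators_ncard hfg).trans_le h1)
      ).eq_empty_or_singleton with he | ⟨b, hb⟩
    · exact ⟨0, by rw [Submodule.span_zero_singleton, ← Submodule.span_generators (maximalIdeal _), he, Submodule.span_empty]⟩
    · exact ⟨b, by rw [← Submodule.span_generators (maximalIdeal _), hb]⟩
  set π := Ideal.Quotient.mk (Ideal.span {x})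
  by_cases hxP : x ∈ P
  · refine ⟨x, le_antisymm ?_ ((Ideal.span_singleton_le_iff_mem _).mpr hxP)⟩
    have hker : RingHom.ker π ≤ P := by rw [Ideal.mk_ker]; exact (Ideal.span_singleton_le_iff_mem _).mpr hxP
    haveI := Ideal.map_isPrime_of_surjective (f := π) Ideal.Quotient.mk_surjective hker
    rcases eq_or_ne (P.map π) ⊥ with h | h
    · rwa [Ideal.map_eq_bot_iff_le_ker, Ideal.mk_ker] at h
    · exfalso
      apply hP
      have hmax : P.map π = maximalIdeal _ :=
        IsLocalRing.eq_maximalIdeal (Ideal.IsPrime.isMaximal inferInstance h)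
      refine le_antisymm hPm fun m hm => ?_
      have : π m ∈ maximalIdeal (A ⧸ Ideal.span {x}) := by
        rw [Groth.L01.maximalIdeal_quotient_eq_map]
        exact Ideal.mem_map_of_mem _ hm
      rw [← hmax] at this
      obtain ⟨p, hp, hpm⟩ := (Ideal.mem_map_iff_of_surjective π Ideal.Quotient.mk_surjective).mp this
      have : m - p ∈ P := hker (by rw [RingHom.mem_ker, map_sub, hpm, sub_self])
      simpa using P.add_mem this hp
  · obtain ⟨g, hg⟩ := (IsPrincipalIdealRing.principal (P.map π)).principal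
    obtain ⟨f, hf, hfg⟩ := (Ideal.mem_map_iff_of_surjective π Ideal.Quotient.mk_surjective).mp
      (hg ▸ Submodule.mem_span_singleton_self g : g ∈ P.map π)
    refine ⟨f, le_antisymm ?_ ((Ideal.span_singleton_le_iff_mem _).mpr hf)⟩
    refine Submodule.le_of_le_smul_of_le_jacobson_bot (I := maximalIdeal A) (IsNoetherian.noetherian _)
      (maximalIdeal_le_jacobson _) fun p hp => ?_
    have h1 : π p ∈ Ideal.span {g} := by
      have := Ideal.mem_map_of_mem π hp
      rwa [hg] at this
    obtain ⟨c, hc⟩ := Ideal.mem_span_singleton'.mp h1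
    obtain ⟨c, rfl⟩ := Ideal.Quotient.mk_surjective c
    rw [← hfg, ← map_mul] at hc
    obtain ⟨b, hb⟩ := Ideal.mem_span_singleton'.mp (Ideal.Quotient.eq.mp hc.symm)
    have hbP : b ∈ P := ((inferInstance : P.IsPrime).mem_or_mem
      (hb ▸ P.sub_mem hp (P.mul_mem_left c hf) : b * x ∈ P)).resolve_right hxP
    rw [show p = c * f + x * b by rw [mul_comm x b, hb]; ring]
    exact Submodule.add_mem_sup (Ideal.mul_mem_left _ c (Ideal.mem_span_singleton_self f))
      (Submodule.smul_mem_smul hx hbP)

/-- Radical ideals inside the maximal ideal of a two-dimensional regular local ring. -/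
theorem radical_cases (hdim : ringKrullDim A = 2) (I : Ideal A) (hI : I ≤ maximalIdeal A)
    (hrad : I.IsRadical) :
    I = ⊥ ∨ I = maximalIdeal A ∨ ∃ f ∈ maximalIdeal A, f ≠ 0 ∧ I = Ideal.span {f} := by
  classical
  haveI := Groth.L01.isDomain_of_regular A
  have hinf : I = sInf I.minimalPrimes := by rw [Ideal.sInf_minimalPrimes, hrad.radical]
  by_cases hbot : (⊥ : Ideal A) ∈ I.minimalPrimes
  · exact Or.inl (le_bot_iff.mp hbot.1.2)
  by_cases hm : maximalIdeal A ∈ I.minimalPrimes
  · refine Or.inr (Or.inl (le_antisymm hI ?_))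
    rw [hinf]
    refine le_sInf fun P hP => ?_
    have hPm : P ≤ maximalIdeal A := le_maximalIdeal hP.1.1.ne_top
    exact hm.2 hP.1 hPm
  right; right
  have hfin := I.finite_minimalPrimes_of_isNoetherianRing
  have hgen : ∀ P ∈ hfin.toFinset, ∃ f, P = Ideal.span {f} ∧ Prime f := by
    intro P hP
    rw [Set.Finite.mem_toFinset] at hP
    haveI := hP.1.1
    obtain ⟨f, hf⟩ := isPrincipal_of_prime hdim P fun e => hm (e ▸ hP)
    have hf0 : f ≠ 0 := fun e => hbot (by rw [e, Ideal.span_singleton_zero] at hf; exact hf ▸ hP)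
    exact ⟨f, hf, (Ideal.span_singleton_prime hf0).mp (hf ▸ hP.1.1)⟩
  choose f hf hfp using hgen
  let F : {P // P ∈ hfin.toFinset} → A := fun P => f P.1 P.2
  have hne : hfin.toFinset.Nonempty := by
    obtain ⟨P, hP, -⟩ := Ideal.exists_minimalPrimes_le hI
    exact ⟨P, hfin.mem_toFinset.mpr hP⟩
  refine ⟨∏ P, F P, ?_, Finset.prod_ne_zero_iff.mpr fun P _ => (hfp P.1 P.2).ne_zero, ?_⟩
  · obtain ⟨P, hP⟩ := hne
    refine Ideal.mem_of_dvd _ (Finset.dvd_prod_of_mem F (Finset.mem_univ ⟨P, hP⟩)) ?_
    have hp : f P hP ∈ P := (hf P hP).ge (Ideal.mem_span_singleton_self _)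
    exact le_maximalIdeal (hfin.mem_toFinset.mp hP).1.1.ne_top hp
  refine le_antisymm (fun a ha => Ideal.mem_span_singleton.mpr ?_) ?_
  · suffices ∀ s : Finset {P // P ∈ hfin.toFinset}, ∏ P ∈ s, F P ∣ a from this Finset.univ
    intro s
    induction s using Finset.induction_on with
    | empty => simp
    | insert P s hPs ih =>
      obtain ⟨c, hc⟩ := ih
      have hPa : F P ∣ a := by
        have h1 : a ∈ (P.1 : Ideal A) := (hfin.mem_toFinset.mp P.2).1.2 ha
        rw [hf P.1 P.2] at h1
        exact Ideal.mem_span_singleton.mp h1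
      rw [hc] at hPa
      rcases (hfp P.1 P.2).dvd_or_dvd hPa with h | h
      · exfalso
        obtain ⟨Q, hQ, hPQ⟩ := (hfp P.1 P.2).exists_mem_finset_dvd h
        have hle : (Q.1 : Ideal A) ≤ P.1 := by
          rw [hf Q.1 Q.2, hf P.1 P.2]
          exact Ideal.span_singleton_le_span_singleton.mpr hPQ
        have hmin : (P.1 : Ideal A) ≤ Q.1 :=
          (hfin.mem_toFinset.mp P.2).2 (hfin.mem_toFinset.mp Q.2).1 hle
        exact hPs (Subtype.ext (le_antisymm hmin hle) ▸ hQ)
      · obtain ⟨d, hd⟩ := h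
        rw [Finset.prod_insert hPs]
        exact ⟨d, by rw [hc, hd]; ring⟩
  · rw [Ideal.span_singleton_le_iff_mem]
    refine hinf.ge (Submodule.mem_sInf.mpr ?_)
    intro P hP
    exact Ideal.mem_of_dvd _ (Finset.dvd_prod_of_mem F (Finset.mem_univ ⟨P, hfin.mem_toFinset.mpr hP⟩))
      ((hf P _).ge (Ideal.mem_span_singleton_self _))

end Groth.L21.RegularTwo
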