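import Mathlib.Algebra.Group.Submonoid.Basic
import Mathlib.Algebra.Group.Submonoid.Operations
import Mathlib.Algebra.Order.Group.Nat
import Mathlib.Data.Set.Card
import Mathlib.Data.Nat.Count
import Mathlib.Data.Nat.Nth
import Mathlib.Order.Interval.Finset.Nat
import Mathlib.Order.Interval.Set.Fin

/-! Numerical semigroups and their modules. -/

namespace Groth.L21.Semigroup

/-- In a symmetric numerical semigroup of multiplicity > 2, elements ≥ c decompose. -/
theorem decompose (Γ : AddSubmonoid ℕ) (c : ℕ) (hc : ∀ n : ℕ, c ≤ n → n ∈ Γ) (hc0 : c ≠ 0)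
    (hc1 : c - 1 ∉ Γ) (hsymm : ∀ x : ℕ, x < c → (x ∉ Γ ↔ c - 1 - x ∈ Γ))
    (he : (1 : ℕ) ∉ Γ ∧ (2 : ℕ) ∉ Γ) (γ : ℕ) (hγ : c ≤ γ) :
    ∃ a b : ℕ, a ∈ Γ ∧ b ∈ Γ ∧ a ≠ 0 ∧ b ≠ 0 ∧ a + b = γ := by
  by_contra hne
  push Not at hne
  have hc3 : 3 ≤ c := by
    by_contra hh
    exact he.2 (hc 2 (by omega))
  have h2 : c - 2 ∈ Γ := by
    by_contra hh
    have := (hsymm (c - 2) (by omega)).1 hh
    rw [show c - 1 - (c - 2) = 1 by omega] at this
    exact he.1 this
  have h3 : c - 3 ∈ Γ := by
    by_contra hh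
    have := (hsymm (c - 3) (by omega)).1 hh
    rw [show c - 1 - (c - 3) = 2 by omega] at this
    exact he.2 this
  -- every non-zero element below γ can be lowered by d
  have key : ∀ a, a ∈ Γ → a ≠ 0 → a < γ → γ - c + 1 ≤ a ∧ a - (γ - c + 1) ∈ Γ := by
    intro a ha ha0 haγ
    have hb : γ - a ∉ Γ := fun hb => hne a (γ - a) ha hb ha0 (by omega) (by omega)
    have hlt : γ - a < c := by
      by_contra hh
      exact hb (hc _ (by omega))
    have := (hsymm _ hlt).1 hb
    rw [show c - 1 - (γ - a) = a - (γ - c + 1) by omega] at this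
    exact ⟨by omega, this⟩
  have hdiv : ∀ a, a ∈ Γ → a < γ → (γ - c + 1) ∣ a := by
    intro a
    induction a using Nat.strong_induction_on with
    | _ a ih =>
      intro ha haγ
      rcases Nat.eq_zero_or_pos a with rfl | hpos
      · exact dvd_zero _
      · obtain ⟨hle, hmem⟩ := key a ha (by omega) haγ
        have := ih _ (by omega) hmem (by omega)
        have := Nat.dvd_add this (dvd_refl (γ - c + 1))
        rwa [show a - (γ - c + 1) + (γ - c + 1) = a by omega] at this
  have hd1 : (γ - c + 1) ∣ 1 := by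
    have := Nat.dvd_sub (hdiv _ h2 (by omega)) (hdiv _ h3 (by omega))
    rwa [show c - 2 - (c - 3) = 1 by omega] at this
  have hd : γ - c + 1 = 1 := Nat.dvd_one.1 hd1
  have desc : ∀ a, a ∈ Γ → a ≠ 0 → a < γ → False := by
    intro a
    induction a using Nat.strong_induction_on with
    | _ a ih =>
      intro ha ha0 haγ
      by_cases ha1 : a = 1
      · subst ha1
        exact he.1 ha
      · obtain ⟨hle, hmem⟩ := key a ha ha0 haγ
        exact ih _ (by omega) hmem (by omega) (by omega)
  exact desc _ h2 (by omega) (by omega)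

section Count

open Classical in
/-- The number of non-members below `n`. -/
noncomputable def gapsBelow (S : Set ℕ) (n : ℕ) : ℕ := Nat.count (fun m => m ∉ S) n

open Classical in
/-- The number of members below `n`. -/
noncomputable def memBelow (S : Set ℕ) (n : ℕ) : ℕ := Nat.count (fun m => m ∈ S) n

variable (S : Set ℕ)

theorem mem_add_gaps (n : ℕ) : memBelow S n + gapsBelow S n = n := by
  classical
  induction n with
  | zero => simp [memBelow, gapsBelow]
  | succ n ih =>
    unfold memBelow gapsBelow at *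
    rw [Nat.count_succ, Nat.count_succ]
    by_cases h : n ∈ S <;> simp [h] <;> omega

theorem gapsBelow_mono {a b : ℕ} (h : a ≤ b) : gapsBelow S a ≤ gapsBelow S b := by
  classical
  exact Nat.count_monotone _ h

theorem memBelow_mono {a b : ℕ} (h : a ≤ b) : memBelow S a ≤ memBelow S b := by
  classical
  exact Nat.count_monotone _ h

theorem gapsBelow_succ_of_notMem {n : ℕ} (h : n ∉ S) : gapsBelow S (n + 1) = gapsBelow S n + 1 := by
  classical
  simp [gapsBelow, Nat.count_succ, h]

theorem memBelow_succ_of_mem {n : ℕ} (h : n ∈ S) : memBelow S (n + 1) = memBelow S n + 1 := by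
  classical
  simp [memBelow, Nat.count_succ, h]

variable {S}

theorem gapsBelow_eq_ncard_compl {c : ℕ} (hc : ∀ n, c ≤ n → n ∈ S) {n : ℕ} (hn : c ≤ n) :
    gapsBelow S n = Sᶜ.ncard := by
  classical
  rw [gapsBelow, Nat.count_eq_card_filter_range, ← Set.ncard_coe_finset]
  congr 1
  ext x
  simp only [Finset.coe_filter, Finset.mem_range, Set.mem_compl_iff, Set.mem_ofPred_eq]
  constructor
  · exact fun h => h.2
  · intro h
    refine ⟨?_, h⟩
    by_contra hh
    exact h (hc x (by omega))

theorem gapsBelow_le_ncard_compl {c : ℕ} (hc : ∀ n, c ≤ n → n ∈ S) (n : ℕ) :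
    gapsBelow S n ≤ Sᶜ.ncard := by
  rw [← gapsBelow_eq_ncard_compl hc (le_max_left c n)]
  exact gapsBelow_mono S (le_max_right c n)

theorem ncard_inter_Iio (n : ℕ) : (S ∩ Set.Iio n).ncard = memBelow S n := by
  classical
  rw [memBelow, Nat.count_eq_card_filter_range, ← Set.ncard_coe_finset]
  congr 1
  ext x
  simp [and_comm]

theorem infinite_of_cofinal {c : ℕ} (hc : ∀ n, c ≤ n → n ∈ S) :
    (Set.ofPred (fun m => m ∈ S)).Infinite := by
  refine Set.infinite_of_forall_exists_gt fun a => ⟨max c (a + 1), hc _ (le_max_left _ _), ?_⟩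
  omega

theorem nth_lt {n i : ℕ} (h : i < memBelow S n) : Nat.nth (fun m => m ∈ S) i < n := by
  classical
  exact Nat.nth_lt_of_lt_count h

theorem memBelow_nth {c : ℕ} (hc : ∀ n, c ≤ n → n ∈ S) (i : ℕ) :
    memBelow S (Nat.nth (fun m => m ∈ S) i) = i := by
  classical
  exact Nat.count_nth_of_infinite (infinite_of_cofinal hc) i

theorem nth_memBelow {n : ℕ} (h : n ∈ S) : Nat.nth (fun m => m ∈ S) (memBelow S n) = n := by
  classical
  exact Nat.nth_count h

theorem nth_mem {c : ℕ} (hc : ∀ n, c ≤ n → n ∈ S) (i : ℕ) :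
    Nat.nth (fun m => m ∈ S) i ∈ S :=
  Nat.nth_mem_of_infinite (infinite_of_cofinal hc) i

/-- `s_i = i + (number of gaps below s_i)`. -/
theorem nth_eq {c : ℕ} (hc : ∀ n, c ≤ n → n ∈ S) (i : ℕ) :
    Nat.nth (fun m => m ∈ S) i = i + gapsBelow S (Nat.nth (fun m => m ∈ S) i) := by
  have := mem_add_gaps S (Nat.nth (fun m => m ∈ S) i)
  rw [memBelow_nth hc] at this
  exact this.symm

end Count

end Groth.L21.Semigroup
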